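import Groth.Prelude.Def_W4c1hilbpnTgt
import Mathlib.RingTheory.Polynomial.Basic
import Mathlib.RingTheory.MvPolynomial.Ideal
import Mathlib.RingTheory.Finiteness.Basic
import Mathlib.LinearAlgebra.FiniteDimensional.Basic
import Mathlib.LinearAlgebra.Dimension.Constructions

/-!
# Monomial ideals: coordinates on the quotient
-/

set_option autoImplicit false

open MvPolynomial W4c1hilbpn

universe u v

noncomputable section

namespace Groth.Agent.HilbPnLib

variable {σ : Type v} {k : Type u} [Field k] {I : Ideal (MvPolynomial σ k)}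

local notation "S" => MvPolynomial σ k
local notation "Q" => MvPolynomial σ k ⧸ I

theorem exps_up {β γ : σ →₀ ℕ} (h : β ∈ exps I) (hle : β ≤ γ) : γ ∈ exps I := by
  obtain ⟨δ, rfl⟩ := exists_add_of_le hle
  show monomial (β + δ) (1 : k) ∈ I
  rw [show monomial (β + δ) (1 : k) = monomial δ 1 * monomial β 1 by
    rw [monomial_mul, mul_one, add_comm]]
  exact I.mul_mem_left _ h

theorem monomial_mem {β : σ →₀ ℕ} (h : β ∈ exps I) (c : k) : monomial β c ∈ I := by
  rw [show monomial β c = C c * monomial β 1 by rw [C_mul_monomial, mul_one]]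
  exact I.mul_mem_left _ h

theorem mem_of_support {p : S} (h : ∀ β ∈ p.support, β ∈ exps I) : p ∈ I := by
  rw [p.as_sum]
  exact Ideal.sum_mem _ fun β hβ => monomial_mem (h β hβ) _

theorem mem_iff_support (hI : IsMonomial I) {p : S} : p ∈ I ↔ ∀ β ∈ p.support, β ∈ exps I :=
  ⟨fun h => hI p h, mem_of_support⟩

/-- the class of a monomial in the quotient -/
abbrev qmon (I : Ideal (MvPolynomial σ k)) (δ : σ →₀ ℕ) : MvPolynomial σ k ⧸ I :=
  Ideal.Quotient.mk I (monomial δ 1)

theorem qmon_eq_zero {δ : σ →₀ ℕ} (h : δ ∈ exps I) : qmon I δ = 0 :=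
  Ideal.Quotient.eq_zero_iff_mem.mpr h

theorem coeff_eq_zero (hI : IsMonomial I) {δ : σ →₀ ℕ} (hδ : δ ∉ exps I) {p : S} (hp : p ∈ I) :
    coeff δ p = 0 := by
  by_contra h
  exact hδ (hI p hp δ (mem_support_iff.mpr h))

open Classical in
/-- coordinate of a class at an exponent outside the ideal (`0` inside) -/
def qc (hI : IsMonomial I) (δ : σ →₀ ℕ) : Q →ₗ[k] k :=
  if hδ : δ ∈ exps I then 0 else
    (I.restrictScalars k).liftQ (lcoeff k δ) (fun _ hp => coeff_eq_zero hI hδ hp) ∘ₗ
      (Submodule.Quotient.restrictScalarsEquiv k I).symm.toLinearMap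

open Classical in
theorem qc_mk (hI : IsMonomial I) (δ : σ →₀ ℕ) (p : S) :
    qc hI δ (Ideal.Quotient.mk I p) = if δ ∈ exps I then 0 else coeff δ p := by
  unfold qc
  split_ifs with h <;> rfl

open Classical in
theorem qc_qmon (hI : IsMonomial I) {δ : σ →₀ ℕ} (hδ : δ ∉ exps I) (ε : σ →₀ ℕ) :
    qc hI δ (qmon I ε) = if ε = δ then 1 else 0 := by
  rw [qc_mk, if_neg hδ, coeff_monomial]

theorem eq_zero_of_qc (hI : IsMonomial I) {q : Q} (h : ∀ δ, δ ∉ exps I → qc hI δ q = 0) : q = 0 := by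
  obtain ⟨p, rfl⟩ := Ideal.Quotient.mk_surjective q
  rw [Ideal.Quotient.eq_zero_iff_mem]
  refine mem_of_support fun δ hδ => ?_
  by_contra hδ'
  have := h δ hδ'
  rw [qc_mk, if_neg hδ'] at this
  exact mem_support_iff.mp hδ this

theorem ext_qc (hI : IsMonomial I) {q q' : Q} (h : ∀ δ, δ ∉ exps I → qc hI δ q = qc hI δ q') : q = q' :=
  sub_eq_zero.mp (eq_zero_of_qc hI fun δ hδ => by rw [map_sub, h δ hδ, sub_self])

theorem mk_monomial (δ : σ →₀ ℕ) (c : k) : Ideal.Quotient.mk I (monomial δ c) = c • qmon I δ := by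
  rw [show monomial δ c = c • monomial δ (1 : k) by rw [smul_monomial, smul_eq_mul, mul_one]]
  rfl

theorem monomial_smul_qmon (ε δ : σ →₀ ℕ) :
    (monomial ε (1 : k)) • qmon I δ = qmon I (ε + δ) := by
  rw [qmon, qmon, ← Ideal.Quotient.mk_eq_mk, ← Submodule.Quotient.mk_smul, smul_eq_mul, monomial_mul, one_mul]
  rfl

/-- monomials outside the ideal are finite in number when the colength is finite -/
theorem finite_compl [Module.Finite k (MvPolynomial σ k ⧸ I)] (hI : IsMonomial I) :
    {δ : σ →₀ ℕ | δ ∉ exps I}.Finite := by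
  have hli : LinearIndependent k (fun δ : {δ : σ →₀ ℕ | δ ∉ exps I} => qmon I δ.1) := by
    classical
    rw [linearIndependent_iff']
    intro s g hg δ hδ
    have h := congrArg (qc hI δ.1) hg
    rw [map_sum, map_zero, Finset.sum_eq_single δ] at h
    · simpa [qc_qmon hI δ.2] using h
    · intro b _ hne
      rw [map_smul, qc_qmon hI δ.2, if_neg (fun e => hne (Subtype.ext e)), smul_zero]
    · exact fun h => absurd hδ h
  exact Set.finite_coe_iff.mp hli.finite

theorem qmon_span (I : Ideal (MvPolynomial σ k)) (hI : IsMonomial I) :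
    Submodule.span k (Set.range fun δ : {δ : σ →₀ ℕ | δ ∉ exps I} => qmon I δ.1) = ⊤ := by
  rw [eq_top_iff]
  rintro q -
  obtain ⟨p, rfl⟩ := Ideal.Quotient.mk_surjective q
  rw [p.as_sum, map_sum]
  refine Submodule.sum_mem _ fun β _ => ?_
  rw [mk_monomial]
  by_cases hβ : β ∈ exps I
  · rw [qmon_eq_zero hβ, smul_zero]; exact Submodule.zero_mem _
  · exact Submodule.smul_mem _ _ (Submodule.subset_span ⟨⟨β, hβ⟩, rfl⟩)

theorem finrank_quot [Module.Finite k (MvPolynomial σ k ⧸ I)] (hI : IsMonomial I) :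
    Module.finrank k (MvPolynomial σ k ⧸ I) = Nat.card {δ : σ →₀ ℕ // δ ∉ exps I} := by
  classical
  haveI : Finite {δ : σ →₀ ℕ | δ ∉ exps I} := (finite_compl hI).to_subtype
  have hli : LinearIndependent k (fun δ : {δ : σ →₀ ℕ | δ ∉ exps I} => qmon I δ.1) := by
    rw [linearIndependent_iff']
    intro s g hg δ hδ
    have h := congrArg (qc hI δ.1) hg
    rw [map_sum, map_zero, Finset.sum_eq_single δ] at h
    · simpa [qc_qmon hI δ.2] using h
    · intro b _ hne
      rw [map_smul, qc_qmon hI δ.2, if_neg (fun e => hne (Subtype.ext e)), smul_zero]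
    · exact fun h => absurd hδ h
  rw [Module.finrank_eq_nat_card_basis (Module.Basis.mk hli (qmon_span I hI).ge)]
  rfl

variable [Finite σ]

/-- a finite generating set of exponents -/
theorem exists_gens (hI : IsMonomial I) :
    ∃ B : Finset (σ →₀ ℕ), (∀ b ∈ B, b ∈ exps I) ∧ ∀ β ∈ exps I, ∃ b ∈ B, b ≤ β := by
  classical
  obtain ⟨G, hG⟩ : I.FG := IsNoetherian.noetherian I
  refine ⟨G.biUnion fun g => g.support, fun b hb => ?_, fun β hβ => ?_⟩
  · obtain ⟨g, hg, hbg⟩ := Finset.mem_biUnion.mp hb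
    exact hI g (hG ▸ Submodule.subset_span hg) b hbg
  · have hle : I ≤ Ideal.span ((fun b => monomial b (1 : k)) '' (G.biUnion fun g => g.support : Finset (σ →₀ ℕ))) := by
      rw [← hG, Ideal.span_le]
      intro g hg
      rw [SetLike.mem_coe, g.as_sum]
      refine Ideal.sum_mem _ fun b hb => ?_
      rw [show monomial b (coeff b g) = C (coeff b g) * monomial b 1 by rw [C_mul_monomial, mul_one]]
      exact Ideal.mul_mem_left _ _ (Ideal.subset_span ⟨b, Finset.mem_coe.mpr (Finset.mem_biUnion.mpr ⟨g, hg, hb⟩), rfl⟩)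
    obtain ⟨b, hb, hbβ⟩ := (mem_ideal_span_monomial_image.mp (hle hβ)) β (by
      classical
      rw [mem_support_iff, coeff_monomial, if_pos rfl]; exact one_ne_zero)
    exact ⟨b, hb, hbβ⟩

end Groth.Agent.HilbPnLib
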