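import Groth.Agent.HilbPnLib.BorelFam

/-!
# The dimension of the degree zero part at the Borel fixed point
-/

set_option autoImplicit false

open MvPolynomial W4c1hilbpn

universe u

noncomputable section

namespace Groth.Agent.HilbPnLib.Borel

variable {k : Type u} [Field k] {n q r : ℕ}

theorem ind_of_ne {a : ℕ} {l : Fin (n + 1)} (h : l.val ≠ a) : ind n a l = 0 := if_neg h

theorem ind_of_eq {a : ℕ} {l : Fin (n + 1)} (h : l.val = a) : ind n a l = 1 := if_pos h

theorem separation (H : Hyp n q r) : ∀ ω ω' : Idx n q r, deg ω = deg ω' → rep ω' ∈ cls ω → ω = ω' := by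
  have h10 := one_val H; have := H.hn; have := H.hq; have := two_le_s H; have := H.hr
  have hle : (if r = 0 then 2 else n - 1) ≤ n := by split_ifs <;> omega
  have hρ := fin'_val hle
  have hρ2 : 2 ≤ (fin' n (if r = 0 then 2 else n - 1)).val ∧ (fin' n (if r = 0 then 2 else n - 1)).val < n := by
    rw [hρ]; split_ifs <;> omega
  have h2 := fin'_val (n := n) (a := 2) (by omega)
  have hC : ∀ (i c : Fin (n + 1)), 1 ≤ c.val → gC n q c = gA n i → False := fun i c hc e => gA_ne_gC H hc e.symm
  have hA : ∀ (i c : Fin (n + 1)), 1 ≤ c.val → gA n i = gC n q c → False := fun i c hc e => gA_ne_gC H hc e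
  rintro (i | v | i | c | p | β) (i' | v' | i' | c' | p' | β') he hrep
  · rw [Subtype.ext (gA_inj (i := i'.1) (j := i.1) hrep)]
  · exfalso
    have e := gA_inj (j := i.1) hrep
    have h0 := congrFun he 0
    have hv : 1 ≤ v'.1.val := by have := v'.2; split_ifs at this <;> omega
    have hi : 2 ≤ i.1.val := by rw [← e]; exact hρ2.1
    simp only [deg, Sum.elim_inl, Sum.elim_inr, sh, ind, Fin.val_zero, if_true, ↓reduceIte] at h0
    split_ifs at h0 <;> fo
  · exfalso
    have e := gA_inj (i := i'.1) (j := i.1) hrep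
    have h0 := congrFun he 1
    simp only [deg, Sum.elim_inl, Sum.elim_inr, sh, ind, h10, ← e, if_true, ↓reduceIte] at h0
    split_ifs at h0 <;> fo
  · exact (hC _ _ c'.2.1 hrep).elim
  · exact (hC _ _ p'.1.2.1 hrep).elim
  · exact (hC _ _ (by omega) hrep).elim
  · exfalso
    obtain ⟨a, ha, han, e, -⟩ := hrep
    have e' := gA_inj (i := i'.1) e
    have h0 := congrFun he 0
    have hv := v.2
    simp only [deg, Sum.elim_inl, Sum.elim_inr, sh, ind, Fin.val_zero, e'] at h0
    split_ifs at h0 hv ha <;> fo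
  · have hv : 1 ≤ v.1.val := by have := v.2; split_ifs at this <;> omega
    have h0 := congrFun he v.1
    simp only [deg, Sum.elim_inl, Sum.elim_inr, sh, ind, if_true, ↓reduceIte] at h0
    have : v.1 = v'.1 := Fin.ext (by split_ifs at h0 <;> omega)
    rw [Subtype.ext this]
  · exfalso
    obtain ⟨a, ha, han, e, -⟩ := hrep
    have e' := gA_inj (i := i'.1) e
    have h0 := congrFun he i'.1
    have := i'.2.1
    have hi : 2 ≤ i'.1.val := by
      rcases i'.2.2 with h | ⟨-, -, h⟩
      · rw [if_pos h] at ha; rw [e']; exact ha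
      · omega
    simp only [deg, Sum.elim_inl, Sum.elim_inr, sh, ind, if_true, ↓reduceIte] at h0
    split_ifs at h0 <;> fo
  · obtain ⟨a, -, -, e, -⟩ := hrep
    exact (hC _ _ c'.2.1 e).elim
  · obtain ⟨a, -, -, e, -⟩ := hrep
    exact (hC _ _ p'.1.2.1 e).elim
  · obtain ⟨a, -, -, e, -⟩ := hrep
    exact (hC _ _ (by omega) e).elim
  · exfalso
    have e := gA_inj (i := i'.1) (j := i.1) hrep
    have h0 := congrFun he 1
    simp only [deg, Sum.elim_inl, Sum.elim_inr, sh, ind, h10, ← e, if_true, ↓reduceIte] at h0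
    split_ifs at h0 <;> fo
  · exfalso
    have e := gA_inj (j := i.1) hrep
    have hi : i.1.val = (fin' n (if r = 0 then 2 else n - 1)).val := by rw [← e]
    have h0 := congrFun he i.1
    have := i.2.1; have := v'.2
    simp only [deg, Sum.elim_inl, Sum.elim_inr, sh, ind, if_true, ↓reduceIte] at h0
    split_ifs at h0 <;> fo
  · rw [Subtype.ext (gA_inj (i := i'.1) (j := i.1) hrep)]
  · exact (hC _ _ c'.2.1 hrep).elim
  · exact (hC _ _ p'.1.2.1 hrep).elim
  · exact (hC _ _ (by omega) hrep).elim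
  · exact (hA _ _ c.2.1 hrep).elim
  · exact (hA _ _ c.2.1 hrep).elim
  · exact (hA _ _ c.2.1 hrep).elim
  · rw [Subtype.ext (gC_inj H (c := c'.1) (d := c.1) hrep)]
  · exfalso
    have h0 := congrFun he 0
    have := p'.1.2.1; have := p'.2.2; have := c.2.1
    simp only [deg, Sum.elim_inl, Sum.elim_inr, sh, ind, Fin.val_zero, zero_ne_one, if_false, if_true, ↓reduceIte, mul_ite, mul_one, mul_zero] at h0
    split_ifs at h0 <;> fo
  · exfalso
    have h0 := congrFun he 0
    have := β'.2.2.1; have := c.2.1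
    simp only [deg, Sum.elim_inl, Sum.elim_inr, ind, Fin.val_zero, zero_ne_one, if_false, if_true, ↓reduceIte, mul_ite, mul_one, mul_zero] at h0
    split_ifs at h0 <;> fo
  · exact (hA _ _ p.1.2.1 hrep).elim
  · exact (hA _ _ p.1.2.1 hrep).elim
  · exact (hA _ _ p.1.2.1 hrep).elim
  · exfalso
    have h0 := congrFun he 0
    have := p.1.2.1; have := p.2.2; have := c'.2.1
    simp only [deg, Sum.elim_inl, Sum.elim_inr, sh, ind, Fin.val_zero, zero_ne_one, if_false, if_true, ↓reduceIte, mul_ite, mul_one, mul_zero] at h0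
    split_ifs at h0 <;> fo
  · have e1 := gC_inj H (c := p'.1.1) (d := p.1.1) hrep
    have h0 := congrFun he p.2.1
    have := p.1.2.2; have := p.2.2; have := p'.2.2
    simp only [deg, Sum.elim_inl, Sum.elim_inr, sh, ind, e1, if_true, ↓reduceIte] at h0
    have e2 : p.2.1 = p'.2.1 := Fin.ext (by split_ifs at h0 <;> omega)
    rw [show p = p' from Prod.ext (Subtype.ext e1.symm) (Subtype.ext e2)]
  · exfalso
    have e := gC_inj H (d := p.1.1) hrep
    have hc : p.1.1.val = 2 := by rw [← e]; exact h2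
    have h0 := congrFun he p.1.1
    have := p.2.2
    simp only [deg, Sum.elim_inl, Sum.elim_inr, sh, ind, hc, if_true, ↓reduceIte, mul_ite, mul_one, mul_zero] at h0
    split_ifs at h0 <;> fo
  · obtain ⟨d, hd, -, -, e⟩ := hrep
    exact (hA _ _ hd e).elim
  · obtain ⟨d, hd, -, -, e⟩ := hrep
    exact (hA _ _ hd e).elim
  · obtain ⟨d, hd, -, -, e⟩ := hrep
    exact (hA _ _ hd e).elim
  · exfalso
    have h0 := congrFun he 0
    have := β.2.2.1; have := c'.2.1
    simp only [deg, Sum.elim_inl, Sum.elim_inr, ind, Fin.val_zero, zero_ne_one, if_false, if_true, ↓reduceIte, mul_ite, mul_one, mul_zero] at h0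
    split_ifs at h0 <;> fo
  · exfalso
    obtain ⟨d, hd, hds, hd1, e⟩ := hrep
    have e1 := gC_inj H (c := p'.1.1) e
    have := p'.2.2
    by_cases hd' : d.val = 1
    · have h0 := congrFun he 1
      have := hd1 hd'
      simp only [deg, Sum.elim_inl, Sum.elim_inr, sh, ind, h10, e1, hd', if_true, ↓reduceIte, mul_ite, mul_one, mul_zero] at h0
      split_ifs at h0 <;> fo
    · have h0 := congrFun he d
      simp only [deg, Sum.elim_inl, Sum.elim_inr, sh, ind, e1, if_true, ↓reduceIte, mul_ite, mul_one, mul_zero] at h0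
      split_ifs at h0 <;> fo
  · have : β = β' := Subtype.ext (funext fun l => by
      have := congrFun he l
      simp only [deg, Sum.elim_inr] at this
      omega)
    rw [this]

theorem exhaustion_A (H : Hyp n q r) {α : Fin (n + 1) → ℤ} (hs : ∑ l, α l = 0) {i : Fin (n + 1)} (hi : i.val < n)
    (hg : Good (ideal k n q r) (ev (gA n i) + α)) :
    (∃ ω : Idx n q r, deg ω = α ∧ gA n i ∈ cls ω) ∨
      ∃ h ∈ gens n q r, Rel (ideal k n q r) α (gA n i) h ∧ ∃ l, (ev h + α) l < 0 := by
  classical
  have h10 := one_val H; have := H.hn; have := H.hq; have := two_le_s H; have := H.hr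
  obtain ⟨hpos, hin⟩ := (good_B H).mp hg
  simp only [inB, not_or, not_and, not_exists, not_le] at hin
  obtain ⟨hin0, hinA, hinC, hinJ⟩ := hin
  have hsum : ∑ l, (ev (gA n i) + α) l = 2 := by
    rw [Finset.sum_congr rfl fun l _ => (Pi.add_apply (ev (gA n i)) α l), Finset.sum_add_distrib, hs]
    simp only [ev, gA_val, Finset.sum_add_distrib, sum_ind (Nat.zero_le n), sum_ind hi.le]
    rfl
  generalize hm : ev (gA n i) + α = m at *
  have hα : ∀ l, α l = m l - ind n 0 l - ind n i.val l := fun l => by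
    rw [← hm]; simp only [ev, Pi.add_apply, gA_val]; ring
  have hone : ∀ (a : Fin (n + 1)) (hma : m a = 1), ∃ b : Fin (n + 1), ∀ l, m l = ind n a.val l + ind n b.val l := by
    intro a hma
    have hrest : ∑ l ∈ Finset.univ.erase a, m l = 1 := by
      rw [← Finset.add_sum_erase _ _ (Finset.mem_univ a), hma] at hsum; omega
    obtain ⟨b, hb, hb0⟩ := Finset.exists_ne_zero_of_sum_ne_zero (s := Finset.univ.erase a) (f := m) (by omega)
    refine ⟨b, fun l => ?_⟩
    have hba : b ≠ a := (Finset.mem_erase.mp hb).1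
    rw [← Finset.add_sum_erase _ _ hb] at hrest
    have hnn : ∀ x ∈ (Finset.univ.erase a).erase b, 0 ≤ m x := fun x _ => hpos x
    have := Finset.sum_nonneg hnn; have := hpos b
    rcases eq_or_ne l a with rfl | hla
    · rw [ind_self, ind_of_ne fun e => hba (Fin.ext e).symm, hma]; rfl
    · rcases eq_or_ne l b with rfl | hlb
      · rw [ind_self, ind_of_ne fun e => hla (Fin.ext e)]; omega
      · have := Finset.single_le_sum hnn (Finset.mem_erase.mpr ⟨hlb, Finset.mem_erase.mpr ⟨hla, Finset.mem_univ l⟩⟩)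
        have := hpos l
        rw [ind_of_ne fun e => hla (Fin.ext e), ind_of_ne fun e => hlb (Fin.ext e)]
        omega
  by_cases h0 : 1 ≤ m 0
  · obtain ⟨b, hb⟩ := hone 0 (by omega)
    have hbn : b.val = n := by
      by_contra hbn
      have hb1 : 0 < b.val := by
        by_contra hb0
        have := hb 0
        rw [Fin.val_zero, ind_of_eq (a := 0) (l := (0 : Fin (n + 1))) (by simp), ind_of_eq (by rw [Fin.val_zero]; omega)] at this
        omega
      have h1 := hb b
      have := hinA h0 b hb1 (by omega)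
      rw [ind_self, Fin.val_zero, ind_of_ne (a := 0) (by omega)] at h1
      omega
    exact Or.inl ⟨Sum.inl ⟨i, hi⟩, funext fun l => by
      rw [hα, hb l, Fin.val_zero, hbn]; simp only [deg, Sum.elim_inl, sh]; ring, rfl⟩
  have hm0 : m 0 = 0 := by have := hpos 0; omega
  by_cases hex : (r = 0 ∧ 1 ≤ m 1) ∨ (r = 1 ∧ q = 1 ∧ i.val + 1 = n ∧ 1 ≤ m 1 ∧ m i ≤ 0)
  · have hq1 : q = 1 := hex.elim (fun h => H.h0 h.1) (fun h => h.2.1)
    have h1 : 1 ≤ m 1 := hex.elim (fun h => h.2) (fun h => h.2.2.2.1)
    obtain ⟨b, hb⟩ := hone 1 (by omega)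
    have hb1 := hb b
    rw [ind_self, h10] at hb1
    have hbn : b.val = n := by
      by_contra hbn
      have hb0 : b.val ≠ 0 := fun e => by
        have := hb 0; rw [h10, ind_of_ne (a := 1) (by simp), ind_of_eq (by simp [e])] at this; omega
      have hb2 : b.val ≠ 1 := fun e => by
        have := hb 1; rw [h10, ind_of_eq (a := 1) h10, ind_of_eq (by omega)] at this; omega
      rcases hex with ⟨hr, -⟩ | ⟨hr, -, hi', -, hmi⟩
      · have := hinJ (by omega) b (by omega) (by omega)
        rw [ind_of_ne (a := 1) hb2] at hb1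
        omega
      · by_cases hbs : b.val ≤ n - r - 1
        · have := hinJ (by omega) b (by omega) hbs
          rw [ind_of_ne (a := 1) hb2] at hb1
          omega
        · have hbi : b = i := Fin.ext (by omega)
          rw [ind_of_ne (a := 1) hb2, hbi] at hb1
          omega
    refine Or.inl ⟨Sum.inr (Sum.inr (Sum.inl ⟨i, hi, hex.elim (fun h => Or.inl h.1)
      (fun h => Or.inr ⟨h.1, h.2.1, h.2.2.1⟩)⟩)), funext fun l => ?_, rfl⟩
    rw [hα, hb l, h10, hbn]; simp only [deg, Sum.elim_inl, Sum.elim_inr]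
  by_cases hmi : 0 < i.val ∧ 1 ≤ m i
  · left
    obtain ⟨v, hv⟩ : ∃ v : Fin (n + 1), ∀ l, m l = ind n i.val l + ind n v.val l := by
      have hle2 : m i ≤ 2 := hsum ▸ Finset.single_le_sum (fun x _ => hpos x) (Finset.mem_univ i)
      by_cases h2 : m i = 2
      · refine ⟨i, fun l => ?_⟩
        rcases eq_or_ne l i with rfl | hl
        · rw [h2, ind_self]; rfl
        · rw [← Finset.add_sum_erase _ _ (Finset.mem_univ i)] at hsum
          have := Finset.single_le_sum (fun x _ => hpos x) (Finset.mem_erase.mpr ⟨hl, Finset.mem_univ l⟩)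
          have := hpos l
          rw [ind_of_ne fun e => hl (Fin.ext e)]
          omega
      · exact hone i (by omega)
    have hv0 : v.val ≠ 0 := fun e => by
      have := hv 0; rw [ind_of_ne (a := i.val) (by simp; omega), ind_of_eq (by simp [e])] at this; omega
    have hr0 : r = 0 → 2 ≤ i.val ∧ 2 ≤ v.val := fun hr => by
      have hm1 : ¬ 1 ≤ m 1 := fun h => hex (Or.inl ⟨hr, h⟩)
      have := hv 1
      simp only [ind, h10] at this
      split_ifs at this <;> omega
    have hlo : (if r = 0 then 2 else 1) ≤ v.val ∧ (if r = 0 then 2 else 1) ≤ i.val := by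
      split_ifs with h
      · exact ⟨(hr0 h).2, (hr0 h).1⟩
      · omega
    refine ⟨Sum.inr (Sum.inl ⟨v, hlo.1⟩), funext fun l => ?_, i, hlo.2, hi, rfl, fun h => ?_⟩
    · rw [hα, hv l]; simp only [deg, Sum.elim_inl, Sum.elim_inr, sh]; ring
    · rw [show (fun l => ind n v.val l + ind n i.val l) = m from funext fun l => by rw [hv l]; ring] at h
      rcases h with h | ⟨h, -⟩ | h | ⟨h, c, c1, c2, c3⟩
      · omega
      · omega
      · omega
      · have := hinJ h c c1 c2; omega
  right
  have hmi0 : i.val = 0 ∨ m i = 0 := by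
    by_cases h : 0 < i.val
    · exact Or.inr (by have := hpos i; have := fun h' => hmi ⟨h, h'⟩; omega)
    · exact Or.inl (by omega)
  obtain ⟨j, hj0, hjn, hji, hj2, hj1⟩ : ∃ j : Fin (n + 1), 0 < j.val ∧ j.val < n ∧ j.val ≠ i.val ∧
      ((r = 0 ∧ n = 3 ∧ j.val = 1 ∧ i.val = 2) ∨ (2 ≤ j.val ∧ (j.val ≤ n - r - 1 → r = 0 ∨ (r = 1 ∧ i.val + 1 = n)))) ∧
      (r = 0 ∨ 2 ≤ j.val) := by
    by_cases hr : r = 0
    · by_cases hi2 : i.val = 2
      · by_cases hn3 : n = 3
        · exact ⟨⟨1, by omega⟩, by simp, by simp; omega, by simp; omega, Or.inl ⟨hr, hn3, rfl, hi2⟩, Or.inl hr⟩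
        · exact ⟨⟨3, by omega⟩, by simp, by simp; omega, by simp; omega, Or.inr ⟨by simp, fun _ => Or.inl hr⟩, Or.inl hr⟩
      · exact ⟨⟨2, by omega⟩, by simp, by simp; omega, by simp; omega, Or.inr ⟨by simp, fun _ => Or.inl hr⟩, Or.inl hr⟩
    · have := H.hr3 (by omega); have := H.hn4 (by omega)
      by_cases hin : i.val + 1 = n
      · by_cases hr1 : r = 1
        · exact ⟨⟨2, by omega⟩, by simp, by simp; omega, by simp; omega, Or.inr ⟨by simp, fun _ => Or.inr ⟨hr1, hin⟩⟩, Or.inr (by simp)⟩
        · exact ⟨⟨n - 2, by omega⟩, by simp; omega, by simp; omega, by simp; omega,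
            Or.inr ⟨by simp; omega, fun h => by simp at h; omega⟩, Or.inr (by simp; omega)⟩
      · exact ⟨⟨n - 1, by omega⟩, by simp; omega, by simp; omega, by simp; omega,
          Or.inr ⟨by simp; omega, fun h => by simp at h; omega⟩, Or.inr (by simp; omega)⟩
  have hm2 : ∀ l, m l ≤ 2 := fun l => hsum ▸ Finset.single_le_sum (fun x _ => hpos x) (Finset.mem_univ l)
  refine ⟨gA n j, mem_gA hjn, (rel_B H).mpr fun _ h => ?_, i, ?_⟩
  · have hup : ∀ l, (ev (gA n i ⊔ gA n j) + α : Fin (n + 1) → ℤ) l = m l + ind n j.val l := fun l => by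
      simp only [ev, Pi.add_apply, supAA, hα, ind]
      split_ifs <;> omega
    rcases h with h | ⟨h, -⟩ | h | ⟨h, c, hc2, hcs, h'⟩
    · rw [hup, hm0, ind_of_ne (a := j.val) (by simp; omega)] at h; omega
    · rw [hup, hm0, ind_of_ne (a := j.val) (by simp; omega)] at h; omega
    · rw [hup] at h
      rcases hj2 with ⟨hr, -, -, -⟩ | ⟨hj, -⟩
      · have := H.h0 hr; have := ind_nn j.val (1 : Fin (n + 1))
        have : m 1 ≤ 0 := by by_contra h'; exact hex (Or.inl ⟨hr, by omega⟩)
        simp only [ind, h10] at h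
        split_ifs at h <;> omega
      · rw [ind_of_ne (a := j.val) (by omega)] at h; omega
    · rw [hup] at h h'
      rcases hj2 with ⟨hr, hn3, hj, hi2⟩ | ⟨hj, hjs⟩
      · rw [ind_of_ne (a := j.val) (l := c) (by omega), show c = i from Fin.ext (by omega)] at h'
        rcases hmi0 with h1 | h1 <;> omega
      · rw [ind_of_ne (a := j.val) (l := 1) (by omega), add_zero] at h
        by_cases hcj : c.val = j.val
        · rcases hjs (by omega) with hr | ⟨hr, hi'⟩
          · exact hex (Or.inl ⟨hr, by have := H.hq; omega⟩)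
          · have := H.h1 hr; have := hm2 1
            have hmi1 : m i = 0 := by rcases hmi0 with h1 | h1 <;> omega
            exact hex (Or.inr ⟨hr, by omega, hi', by omega, by omega⟩)
        · rw [ind_of_ne (a := j.val) (l := c) hcj, add_zero] at h'
          have := hinJ h c hc2 hcs
          omega
  · simp only [ev, Pi.add_apply, gA_val, hα, ind]
    rcases hmi0 with h | h
    · rw [show i = 0 from Fin.ext h, hm0]; simp only [Fin.val_zero, if_true]; split_ifs <;> fo
    · rw [h]; split_ifs <;> fo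

theorem exhaustion_C (H : Hyp n q r) {α : Fin (n + 1) → ℤ} (hs : ∑ l, α l = 0) {c : Fin (n + 1)} (hc : 1 ≤ c.val)
    (hcs : c.val ≤ n - r - 1) (hg : Good (ideal k n q r) (ev (gC n q c) + α)) :
    (∃ ω : Idx n q r, deg ω = α ∧ gC n q c ∈ cls ω) ∨
      ∃ h ∈ gens n q r, Rel (ideal k n q r) α (gC n q c) h ∧ ∃ l, (ev h + α) l < 0 := by
  classical
  have h10 := one_val H; have := H.hn; have := H.hq; have := two_le_s H; have := H.hr
  obtain ⟨hpos, hin⟩ := (good_B H).mp hg
  simp only [inB, not_or, not_and, not_exists, not_le] at hin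
  obtain ⟨hin0, hinA, hinC, hinJ⟩ := hin
  have hsum : ∑ l, (ev (gC n q c) + α) l = (q : ℤ) + 1 := by
    rw [Finset.sum_congr rfl fun l _ => (Pi.add_apply (ev (gC n q c)) α l), Finset.sum_add_distrib, hs]
    simp only [ev, gC_val H, Finset.sum_add_distrib, ← Finset.mul_sum, sum_ind (show 1 ≤ n by omega),
      sum_ind (show c.val ≤ n by omega)]
    ring
  generalize hm : ev (gC n q c) + α = m at *
  have hα : ∀ l, α l = m l - (q : ℤ) * ind n 1 l - ind n c.val l := fun l => by
    rw [← hm]; simp only [ev, Pi.add_apply, gC_val H]; ring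
  have hne : ∀ {a b : Fin (n + 1)}, a.val ≠ b.val → a ≠ b := fun h e => h (by rw [e])
  by_cases h0 : 1 ≤ m 0
  · have hrest : ∀ l : Fin (n + 1), l.val ≠ 0 → l.val ≠ n → m l = 0 := fun l h1 h2 => by
      have := hinA h0 l (by omega) (by omega); have := hpos l; omega
    have hlast : m (Fin.last n) = q := by
      rw [← Finset.add_sum_erase _ _ (Finset.mem_univ (0 : Fin (n + 1))),
        Finset.sum_eq_single (Fin.last n) (fun x hx hx' => hrest x (fun e => (Finset.mem_erase.mp hx).1 (Fin.ext e))
          (fun e => hx' (Fin.ext e)))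
          (fun h => absurd (Finset.mem_erase.mpr ⟨hne (by simp; omega), Finset.mem_univ _⟩) h)] at hsum
      omega
    refine Or.inl ⟨Sum.inr (Sum.inr (Sum.inr (Sum.inl ⟨c, hc, hcs⟩))), funext fun l => ?_, rfl⟩
    rw [hα]
    simp only [deg, Sum.elim_inl, Sum.elim_inr]
    by_cases hl0 : l.val = 0
    · rw [ind_of_eq hl0, ind_of_ne (a := n) (by omega), show l = 0 from Fin.ext hl0]
      have : m 0 = 1 := by omega
      rw [this]; ring
    · by_cases hln : l.val = n
      · rw [ind_of_ne hl0, ind_of_eq hln, show l = Fin.last n from Fin.ext hln, hlast]; ring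
      · rw [ind_of_ne hl0, ind_of_ne hln, hrest l hl0 hln]; ring
  have hm0 : m 0 = 0 := by have := hpos 0; omega
  by_cases hlast : ∀ l : Fin (n + 1), 0 < l.val → l.val < n → m l = 0
  · right
    refine ⟨gA n c, mem_gA (by omega), (rel_B H).mpr fun _ h => ?_, 1, ?_⟩
    · have hup : ∀ l, (ev (gC n q c ⊔ gA n c) + α : Fin (n + 1) → ℤ) l = m l + ind n 0 l := fun l => by
        simp only [ev, Pi.add_apply, sup_comm (gC n q c), supAC H, hα, ind, mul_ite, mul_one, mul_zero]
        split_ifs <;> omega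
      have h1 := hlast 1 (by omega) (by omega)
      rcases h with h | ⟨-, l, a, b, h⟩ | h | ⟨h, -⟩
      · rw [hup, hm0, ind_of_eq (a := 0) (l := (0 : Fin (n + 1))) (by simp)] at h; omega
      · rw [hup, hlast l a b, ind_of_ne (by omega)] at h; omega
      · rw [hup, h1, ind_of_ne (by omega)] at h; omega
      · rw [hup, h1, ind_of_ne (by omega)] at h; omega
    · simp only [ev, Pi.add_apply, gA_val, hα, hlast 1 (by omega) (by omega), ind, h10, if_true, ↓reduceIte, mul_ite, mul_one, mul_zero]
      split_ifs <;> fo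
  by_cases hq : (q : ℤ) ≤ m 1
  · have hm1 : m 1 = q := by omega
    have hrest : ∑ l ∈ Finset.univ.erase (1 : Fin (n + 1)), m l = 1 := by
      rw [← Finset.add_sum_erase _ _ (Finset.mem_univ (1 : Fin (n + 1))), hm1] at hsum; omega
    obtain ⟨l, hl, hl0⟩ := Finset.exists_ne_zero_of_sum_ne_zero (s := Finset.univ.erase (1 : Fin (n + 1))) (f := m) (by omega)
    rw [← Finset.add_sum_erase _ _ hl] at hrest
    have hnn : ∀ x ∈ (Finset.univ.erase (1 : Fin (n + 1))).erase l, 0 ≤ m x := fun x _ => hpos x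
    have := Finset.sum_nonneg hnn; have := hpos l
    have hl1 : l.val ≠ 1 := fun e => (Finset.mem_erase.mp hl).1 (Fin.ext (e.trans h10.symm))
    have hl2 : l.val ≠ 0 := fun e => hl0 (by rw [show l = 0 from Fin.ext e]; exact hm0)
    have hls : n - r - 1 < l.val := by
      by_contra h'; have := hinJ hq l (by omega) (by omega); omega
    refine Or.inl ⟨Sum.inr (Sum.inr (Sum.inr (Sum.inr (Sum.inl (⟨c, hc, hcs⟩, ⟨l, hls⟩))))), funext fun x => ?_, rfl⟩
    rw [hα]
    simp only [deg, Sum.elim_inl, Sum.elim_inr, sh]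
    rcases eq_or_ne x 1 with rfl | hx1
    · rw [hm1, ind_of_eq h10, ind_of_ne (a := l.val) (by omega)]; ring
    · have hx1' : x.val ≠ 1 := fun e => hx1 (Fin.ext (e.trans h10.symm))
      rcases eq_or_ne x l with rfl | hxl
      · rw [ind_self, ind_of_ne hx1']; have : m x = 1 := by omega
        rw [this]; ring
      · have := Finset.single_le_sum hnn (Finset.mem_erase.mpr ⟨hxl, Finset.mem_erase.mpr ⟨hx1, Finset.mem_univ x⟩⟩)
        have := hpos x
        rw [ind_of_ne hx1', ind_of_ne fun e => hxl (Fin.ext e), show m x = 0 by omega]; ring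
  by_cases hmc : 1 ≤ m c
  · have hbpos : ∀ l, 0 ≤ m l - ind n c.val l := fun l => by
      rcases eq_or_ne l c with rfl | hl
      · rw [ind_self]; omega
      · rw [ind_of_ne fun e => hl (Fin.ext e)]; have := hpos l; omega
    have hcast : ∀ l, ((m l - ind n c.val l).toNat : ℤ) = m l - ind n c.val l := fun l => Int.toNat_of_nonneg (hbpos l)
    let β : BS n q := ⟨fun l => (m l - ind n c.val l).toNat, by
        have h : ((∑ l, (m l - ind n c.val l).toNat : ℕ) : ℤ) = (q : ℤ) := by
          push_cast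
          simp only [hcast, Finset.sum_sub_distrib, hsum, sum_ind (show c.val ≤ n by omega)]
          ring
        exact_mod_cast h,
      by show (m 0 - ind n c.val 0).toNat = 0; have := ind_nn c.val (0 : Fin (n + 1)); omega,
      by show (m 1 - ind n c.val 1).toNat < q; have := ind_nn c.val (1 : Fin (n + 1)); omega⟩
    refine Or.inl ⟨Sum.inr (Sum.inr (Sum.inr (Sum.inr (Sum.inr β)))), funext fun l => ?_, c, hc, hcs, fun e => ?_, rfl⟩
    · rw [hα]; simp only [deg, Sum.elim_inr, β, hcast]; ring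
    · show (m 1 - ind n c.val 1).toNat + 1 < q
      rw [show c = 1 from Fin.ext (e.trans h10.symm)] at hmc ⊢
      rw [ind_self]
      omega
  right
  obtain ⟨d, hd1, hds, hdc, hd⟩ : ∃ d : Fin (n + 1), 1 ≤ d.val ∧ d.val ≤ n - r - 1 ∧ d.val ≠ c.val ∧
      ((d.val = 1 ∧ 2 ≤ c.val ∧ ∀ x : Fin (n + 1), 2 ≤ x.val → x.val ≤ n - r - 1 → m x ≤ 0) ∨ 2 ≤ d.val) := by
    by_cases hc1 : c.val = 1
    · exact ⟨⟨2, by omega⟩, by simp, by simp; omega, by simp; omega, Or.inr le_rfl⟩
    · by_cases hx : ∃ x : Fin (n + 1), 2 ≤ x.val ∧ x.val ≤ n - r - 1 ∧ 1 ≤ m x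
      · obtain ⟨x, a, b, h⟩ := hx
        exact ⟨x, by omega, b, fun e => hmc (by rw [← show x = c from Fin.ext e]; exact h), Or.inr a⟩
      · push Not at hx
        exact ⟨1, by omega, by omega, by omega, Or.inl ⟨h10, by omega, fun x a b => by have := hx x a b; omega⟩⟩
  have hmc0 : m c = 0 := by have := hpos c; omega
  have hup : ∀ l, (ev (gC n q c ⊔ gC n q d) + α : Fin (n + 1) → ℤ) l = m l + ind n d.val l := fun l => by
    simp only [ev, Pi.add_apply, supCC H, hα, ind, mul_ite, mul_one, mul_zero]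
    split_ifs <;> omega
  refine ⟨gC n q d, mem_gC hd1 hds, (rel_B H).mpr fun _ h => ?_, c, ?_⟩
  · rcases h with h | ⟨h, -⟩ | h | ⟨h, x, a, b, h'⟩
    · rw [hup, hm0, ind_of_ne (a := d.val) (by simp; omega)] at h; omega
    · rw [hup, hm0, ind_of_ne (a := d.val) (by simp; omega)] at h; omega
    · rw [hup] at h; simp only [ind] at h; split_ifs at h <;> omega
    · rw [hup] at h h'
      rcases hd with ⟨hd', -, hno⟩ | hd'
      · have := hno x a b; rw [ind_of_ne (a := d.val) (by omega)] at h'; omega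
      · rw [ind_of_ne (a := d.val) (l := 1) (by omega)] at h; omega
  · simp only [ev, Pi.add_apply, gC_val H, hα, hmc0, ind, if_true, ↓reduceIte, mul_ite, mul_one, mul_zero]
    split_ifs <;> omega

theorem card_BS (H : Hyp n q r) : Nat.card (BS n q) + 1 = Nat.choose (n + q - 1) (n - 1) := by
  classical
  have h10 := one_val H; have := H.hn; have := H.hq
  let P := {P : Fin n → ℕ // ∑ l, P l = q}
  let one : Fin n := ⟨0, by omega⟩
  have hone : one.succ = (1 : Fin (n + 1)) := Fin.ext (by rw [h10]; rfl)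
  haveI : Finite (BS n q) := by
    refine Finite.of_injective (fun m : BS n q => (Sym.equivNatSumOfFintype (Fin (n + 1)) q).symm ⟨m.1, m.2.1⟩)
      fun a b h => Subtype.ext (congrArg Subtype.val ((Equiv.injective _) h) :)
  let f : BS n q → P := fun b => ⟨fun l => b.1 l.succ, by
    have := b.2.1; rw [Fin.sum_univ_succ, b.2.2.1, zero_add] at this; exact this⟩
  let F : Option (BS n q) → P := fun o => o.elim ⟨Pi.single one q, by simp⟩ f
  have hF : Function.Bijective F := by
    have hb1 : ∀ b : BS n q, (f b).1 one < q := fun b => by show b.1 one.succ < q; rw [hone]; exact b.2.2.2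
    constructor
    · rintro (_ | b) (_ | b') e
      · rfl
      · have := hb1 b'; rw [show f b' = (⟨Pi.single one q, by simp⟩ : P) from e.symm] at this; simp at this
      · have := hb1 b; rw [show f b = (⟨Pi.single one q, by simp⟩ : P) from e] at this; simp at this
      · refine congrArg some (Subtype.ext (funext fun l => ?_))
        induction l using Fin.cases with
        | zero => rw [b.2.2.1, b'.2.2.1]
        | succ l => exact congrFun (congrArg Subtype.val e) l
    · rintro ⟨P, hP⟩
      by_cases hone' : P one = q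
      · refine ⟨none, Subtype.ext (funext fun l => ?_)⟩
        show (Pi.single one q : Fin n → ℕ) l = P l
        by_cases hl : l = one
        · rw [hl, Pi.single_eq_same, hone']
        · rw [Pi.single_eq_of_ne hl]
          rw [← Finset.add_sum_erase _ _ (Finset.mem_univ one)] at hP
          have := Finset.single_le_sum (fun j _ => Nat.zero_le (P j)) (Finset.mem_erase.mpr ⟨hl, Finset.mem_univ l⟩)
          omega
      · refine ⟨some ⟨Fin.cons 0 P, by rw [Fin.sum_univ_succ]; simpa using hP, Fin.cons_zero _ _, ?_⟩,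
          Subtype.ext (funext fun l => ?_)⟩
        swap
        · show (Fin.cons 0 P : Fin (n + 1) → ℕ) l.succ = P l
          exact Fin.cons_succ _ _ _
        rw [← hone, Fin.cons_succ]
        have := Finset.single_le_sum (fun j _ => Nat.zero_le (P j)) (Finset.mem_univ one)
        omega
  have hc := Nat.card_congr (Equiv.ofBijective F hF)
  rw [Finite.card_option] at hc
  rw [hc, ← Nat.card_congr (Sym.equivNatSumOfFintype (Fin n) q), Nat.card_eq_fintype_card, Sym.card_sym_eq_choose,
    Fintype.card_fin]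
  exact (Nat.choose_symm_of_eq_add (by omega)).symm

theorem card_range (a b : ℕ) (hb : b ≤ n + 1) :
    Nat.card {v : Fin (n + 1) // a ≤ v.val ∧ v.val < b} = b - a := by
  rw [Nat.card_eq_fintype_card, Fintype.card_subtype, ← Nat.card_Ico a b]
  exact Finset.card_bij (fun v _ => v.val) (fun v hv => Finset.mem_Ico.mpr (Finset.mem_filter.mp hv).2)
    (fun _ _ _ _ h => Fin.ext h) fun x hx => ⟨⟨x, by have := Finset.mem_Ico.mp hx; omega⟩,
      Finset.mem_filter.mpr ⟨Finset.mem_univ _, Finset.mem_Ico.mp hx⟩, rfl⟩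

theorem finrank_borel (H : Hyp n q r) :
    Module.finrank k ↥(⨆ α : {α : Fin (n + 1) → ℤ // ∑ l, α l = 0}, tPiece (ideal k n q r) α.1) =
      n + ((if r = 0 then n - 1 else n) + ((if r = 0 then n else if r = 1 ∧ q = 1 then 1 else 0) + ((n - r - 1) +
        ((n - r - 1) * (r + 1) + (Nat.choose (n + q - 1) (n - 1) - 1))))) := by
  classical
  have := H.hn; have := H.hr; have := two_le_s H
  haveI : Finite (BS n q) := by
    refine Finite.of_injective (fun m : BS n q => (Sym.equivNatSumOfFintype (Fin (n + 1)) q).symm ⟨m.1, m.2.1⟩)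
      fun a b h => Subtype.ext (congrArg Subtype.val ((Equiv.injective _) h) :)
  refine (finrank_of_table (isMonomial_span (gens n q r)) (fun α => ∑ l, α l = 0) (B := gens n q r)
    (fun b hb => (exps_span (k := k) (gens n q r)).mpr ⟨b, hb, le_rfl⟩) (fun β hβ => (exps_span (gens n q r)).mp hβ)
    (deg (n := n) (q := q) (r := r)) rep cls ?_ (rep_mem H) ?_ (cls_good H) (cls_closed H) (cls_conn H)
    (separation H) ?_).trans ?_
  · have hsh : ∀ a b, a ≤ n → b ≤ n → ∑ l, sh (n := n) a b l = 0 := fun a b ha hb => by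
      simp [sh, Finset.sum_sub_distrib, sum_ind ha, sum_ind hb]
    rintro (i | v | i | c | p | β)
    · exact hsh _ _ i.2.le le_rfl
    · exact hsh _ _ (Nat.zero_le _) (Nat.lt_succ_iff.mp v.1.isLt)
    · simp [deg, Finset.sum_sub_distrib, Finset.sum_add_distrib, sum_ind (show 1 ≤ n by omega), sum_ind (le_refl n),
        sum_ind (Nat.zero_le n), sum_ind i.2.1.le]
    · simp [deg, Finset.sum_sub_distrib, Finset.sum_add_distrib, ← Finset.mul_sum, sum_ind (show 1 ≤ n by omega), sum_ind (le_refl n),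
        sum_ind (Nat.zero_le n), sum_ind (Nat.lt_succ_iff.mp c.1.isLt)]
    · exact hsh _ _ (Nat.lt_succ_iff.mp p.1.1.isLt) (Nat.lt_succ_iff.mp p.2.1.isLt)
    · have h : ∑ l, (β.1 l : ℤ) = q := by exact_mod_cast β.2.1
      simp [deg, Finset.sum_sub_distrib, ← Finset.mul_sum, sum_ind (show 1 ≤ n by omega), h]
  · rintro (i | v | i | c | p | β) b hb
    · rw [show b = gA n i.1 from hb]; exact mem_gA i.2
    · obtain ⟨j, -, hj, rfl, -⟩ := hb; exact mem_gA hj
    · rw [show b = gA n i.1 from hb]; exact mem_gA i.2.1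
    · rw [show b = gC n q c.1 from hb]; exact mem_gC c.2.1 c.2.2
    · rw [show b = gC n q p.1.1 from hb]; exact mem_gC p.1.2.1 p.1.2.2
    · obtain ⟨d, hd, hds, -, rfl⟩ := hb; exact mem_gC hd hds
  · intro α hs b hb hg
    rcases hb with ⟨i, hi, rfl⟩ | ⟨c, hc, hcs, rfl⟩
    · exact exhaustion_A H hs (by omega) hg
    · exact exhaustion_C H hs hc hcs hg
  · have hEX : Nat.card (EX n q r) = if r = 0 then n else if r = 1 ∧ q = 1 then 1 else 0 := by
      split_ifs with h1 h2
      · rw [Nat.card_congr (Equiv.subtypeEquivRight (q := fun i : Fin (n + 1) => 0 ≤ i.val ∧ i.val < n) fun i => by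
          simp [h1])]
        rw [card_range 0 n (by omega)]; omega
      · rw [Nat.card_congr (Equiv.subtypeEquivRight (q := fun i : Fin (n + 1) => n - 1 ≤ i.val ∧ i.val < n) fun i => by
          simp only [h1, h2.1, h2.2, and_true, true_and, false_or]; omega)]
        rw [card_range (n - 1) n (by omega)]; omega
      · haveI : IsEmpty (EX n q r) := ⟨fun i => by rcases i.2.2 with h | ⟨a, b, -⟩ <;> omega⟩
        exact Nat.card_of_isEmpty
    have hCS : Nat.card (CS n r) = n - r - 1 := by
      rw [Nat.card_congr (Equiv.subtypeEquivRight (q := fun i : Fin (n + 1) => 1 ≤ i.val ∧ i.val < n - r - 1 + 1)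
        fun i => by omega), card_range _ _ (by omega)]; omega
    have hLS : Nat.card (LS n r) = r + 1 := by
      rw [Nat.card_congr (Equiv.subtypeEquivRight (q := fun i : Fin (n + 1) => n - r ≤ i.val ∧ i.val < n + 1)
        fun i => by omega), card_range _ _ le_rfl]; omega
    have hTR : Nat.card (TR n r) = if r = 0 then n - 1 else n := by
      rw [Nat.card_congr (Equiv.subtypeEquivRight (q := fun i : Fin (n + 1) => (if r = 0 then 2 else 1) ≤ i.val ∧ i.val < n + 1)
        fun i => by omega), card_range _ _ le_rfl]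
      split_ifs <;> omega
    have hA : Nat.card {i : Fin (n + 1) // i.val < n} = n := by
      rw [Nat.card_congr (Equiv.subtypeEquivRight (q := fun i : Fin (n + 1) => 0 ≤ i.val ∧ i.val < n) fun i => by omega),
        card_range _ _ (by omega)]; omega
    simp only [Nat.card_sum, Nat.card_prod, hA, hTR, hEX, hCS, hLS]
    have := card_BS H
    omega

theorem gens_eq (H : Hyp n q r) :
    ({f : MvPolynomial (Fin (n + 1)) k | ∃ i : Fin (n + 1), i.val + 1 ≤ n ∧ f = MvPolynomial.X 0 * MvPolynomial.X i} ∪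
      {f : MvPolynomial (Fin (n + 1)) k | ∃ i : Fin (n + 1), 1 ≤ i.val ∧ i.val ≤ n - r - 1 ∧ f = MvPolynomial.X 1 ^ q * MvPolynomial.X i}) =
      (fun b => monomial b (1 : k)) '' gens n q r := by
  have hA : ∀ i : Fin (n + 1), monomial (gA n i) (1 : k) = MvPolynomial.X 0 * MvPolynomial.X i := fun i => by
    simp [gA, MvPolynomial.X, monomial_mul]
  have hC : ∀ i : Fin (n + 1), monomial (gC n q i) (1 : k) = MvPolynomial.X 1 ^ q * MvPolynomial.X i := fun i => by
    rw [gC, X_pow_eq_monomial, MvPolynomial.X, monomial_mul, mul_one]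
  ext f
  constructor
  · rintro (⟨i, hi, rfl⟩ | ⟨i, h1, h2, rfl⟩)
    · exact ⟨_, Or.inl ⟨i, hi, rfl⟩, hA i⟩
    · exact ⟨_, Or.inr ⟨i, h1, h2, rfl⟩, hC i⟩
  · rintro ⟨b, (⟨i, hi, rfl⟩ | ⟨i, h1, h2, rfl⟩), rfl⟩
    · exact Or.inl ⟨i, hi, hA i⟩
    · exact Or.inr ⟨i, h1, h2, hC i⟩

end Groth.Agent.HilbPnLib.Borel
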