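import Groth.Agent.HilbPnLib.Table
import Mathlib.Data.Finsupp.Multiset
import Mathlib.Data.Sym.Card
import Mathlib.Algebra.BigOperators.Fin

/-!
# Degree zero part of the tangent space at `x₀(x₀, …, x_{n-1}) + x₁^q (x₁, …, x_s)`
-/

set_option autoImplicit false

open MvPolynomial W4c1hilbpn

universe u

noncomputable section

namespace Groth.Agent.HilbPnLib.Borel

variable (k : Type u) [Field k] (n q r : ℕ)

/-- `x₀ x_i` -/
def gA (i : Fin (n + 1)) : Fin (n + 1) →₀ ℕ := Finsupp.single 0 1 + Finsupp.single i 1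

/-- `x₁^q x_c` -/
def gC (c : Fin (n + 1)) : Fin (n + 1) →₀ ℕ := Finsupp.single 1 q + Finsupp.single c 1

def gens : Set (Fin (n + 1) →₀ ℕ) :=
  {b | ∃ i : Fin (n + 1), i.val + 1 ≤ n ∧ b = gA n i} ∪
    {b | ∃ c : Fin (n + 1), 1 ≤ c.val ∧ c.val ≤ n - r - 1 ∧ b = gC n q c}

abbrev ideal : Ideal (MvPolynomial (Fin (n + 1)) k) :=
  Ideal.span ((fun b => monomial b (1 : k)) '' gens n q r)

/-- indicator of a coordinate -/
def ind (a : ℕ) (l : Fin (n + 1)) : ℤ := if l.val = a then 1 else 0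

/-- the numerical test for membership -/
def inB (γ : Fin (n + 1) → ℤ) : Prop :=
  2 ≤ γ 0 ∨ (1 ≤ γ 0 ∧ ∃ i : Fin (n + 1), 0 < i.val ∧ i.val < n ∧ 1 ≤ γ i) ∨ (q : ℤ) + 1 ≤ γ 1 ∨
    ((q : ℤ) ≤ γ 1 ∧ ∃ c : Fin (n + 1), 2 ≤ c.val ∧ c.val ≤ n - r - 1 ∧ 1 ≤ γ c)

variable {k n q r}

/-- standing hypotheses -/
structure Hyp (n q r : ℕ) : Prop where
  hn : 3 ≤ n
  hn4 : 1 ≤ r → 4 ≤ n
  hq : 1 ≤ q
  hr : r + 2 ≤ n
  hr3 : 1 ≤ r → r + 3 ≤ n
  h0 : r = 0 → q = 1
  h1 : r = 1 → q ≠ 2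

theorem one_val (H : Hyp n q r) : (1 : Fin (n + 1)).val = 1 := by
  have := H.hn
  rw [Fin.val_one', Nat.mod_eq_of_lt]; omega

theorem gA_val (i l : Fin (n + 1)) : (gA n i l : ℤ) = ind n 0 l + ind n i.val l := by
  simp only [gA, ind, Finsupp.add_apply, Finsupp.single_apply, Nat.cast_add, Nat.cast_ite, Nat.cast_one, Nat.cast_zero]
  refine congr_arg₂ _ (if_congr ?_ rfl rfl) (if_congr ?_ rfl rfl)
  · exact ⟨fun e => by rw [← e]; rfl, fun e => (Fin.ext e).symm⟩
  · exact ⟨fun e => by rw [← e], fun e => (Fin.ext e).symm⟩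

theorem gC_val (H : Hyp n q r) (c l : Fin (n + 1)) : (gC n q c l : ℤ) = q * ind n 1 l + ind n c.val l := by
  simp only [gC, ind, Finsupp.add_apply, Finsupp.single_apply, Nat.cast_add, Nat.cast_ite, Nat.cast_one, Nat.cast_zero,
    mul_ite, mul_one, mul_zero]
  refine congr_arg₂ _ (if_congr ?_ rfl rfl) (if_congr ?_ rfl rfl)
  · exact ⟨fun e => by rw [← e]; exact one_val H, fun e => Fin.ext ((one_val H).trans e.symm)⟩
  · exact ⟨fun e => by rw [← e], fun e => (Fin.ext e).symm⟩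

theorem ind_self (l : Fin (n + 1)) : ind n l.val l = 1 := if_pos rfl

theorem ind_nn (a : ℕ) (l : Fin (n + 1)) : 0 ≤ ind n a l := by unfold ind; split_ifs <;> omega

theorem sum_ind {a : ℕ} (ha : a ≤ n) : ∑ l, ind n a l = 1 := by
  simp only [ind]
  rw [Finset.sum_eq_single (⟨a, by omega⟩ : Fin (n + 1)) (fun l _ hl => if_neg fun e => hl (Fin.ext e)) (by simp)]
  exact if_pos rfl

theorem mem_ideal (H : Hyp n q r) {γ : Fin (n + 1) → ℤ} (hγ : ∀ l, 0 ≤ γ l) :
    unev γ ∈ exps (ideal k n q r) ↔ inB n q r γ := by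
  rw [exps_span]
  have h10 := one_val H
  have := H.hn; have := H.hq; have := H.hr
  have hc : ∀ (b : Fin (n + 1) →₀ ℕ), b ≤ unev γ ↔ ∀ l, (b l : ℤ) ≤ γ l := fun b => by
    rw [Finsupp.le_def]
    refine forall_congr' fun l => ?_
    have := hγ l
    rw [unev_apply]
    omega
  constructor
  · rintro ⟨b, (⟨i, hi, rfl⟩ | ⟨c, hc1, hcs, rfl⟩), hle⟩ <;> rw [hc] at hle
    · have h0 := hle 0; have h1 := hle i
      simp only [gA_val, ind, Fin.val_zero] at h0 h1
      by_cases hi0 : i.val = 0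
      · exact Or.inl (by simp only [hi0, if_true] at h0; omega)
      · refine Or.inr (Or.inl ⟨?_, i, by omega, by omega, ?_⟩)
        · split_ifs at h0 <;> omega
        · split_ifs at h1 <;> omega
    · have h0 := hle 1; have h1 := hle c
      simp only [gC_val H, ind, h10, if_true, mul_one] at h0 h1
      by_cases hc' : c.val = 1
      · refine Or.inr (Or.inr (Or.inl ?_)); simp only [hc', if_true] at h0; omega
      · refine Or.inr (Or.inr (Or.inr ⟨?_, c, by omega, hcs, ?_⟩))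
        · split_ifs at h0 <;> omega
        · rw [if_neg hc', mul_zero] at h1; omega
  · rintro (h | ⟨h, i, hi0, hi, h'⟩ | h | ⟨h, c, hc2, hcs, h'⟩)
    · refine ⟨_, Or.inl ⟨0, by simp; omega, rfl⟩, (hc _).mpr fun l => ?_⟩
      have := hγ l
      simp only [gA_val, ind, Fin.val_zero]
      by_cases hl : l.val = 0
      · rw [show l = 0 from Fin.ext hl]; simp only [Fin.val_zero, if_true]; omega
      · simp only [hl, if_false]; omega
    · refine ⟨_, Or.inl ⟨i, by omega, rfl⟩, (hc _).mpr fun l => ?_⟩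
      have := hγ l
      simp only [gA_val, ind]
      by_cases hl : l.val = 0
      · rw [show l = 0 from Fin.ext hl]; simp only [Fin.val_zero, if_true]; split_ifs <;> omega
      · by_cases hl' : l.val = i.val
        · rw [show l = i from Fin.ext hl']; simp only [if_true]; rw [if_neg (by omega)]; omega
        · simp only [hl, hl', if_false]; omega
    · refine ⟨_, Or.inr ⟨1, by omega, by omega, rfl⟩, (hc _).mpr fun l => ?_⟩
      have := hγ l
      simp only [gC_val H, ind, h10]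
      by_cases hl : l.val = 1
      · rw [show l = 1 from Fin.ext (hl.trans h10.symm)]; simp only [h10, if_true]; omega
      · simp only [hl, if_false]; omega
    · refine ⟨_, Or.inr ⟨c, by omega, hcs, rfl⟩, (hc _).mpr fun l => ?_⟩
      have := hγ l
      simp only [gC_val H, ind]
      by_cases hl : l.val = 1
      · rw [show l = 1 from Fin.ext (hl.trans h10.symm)]; simp only [h10, if_true]; rw [if_neg (by omega)]; omega
      · by_cases hl' : l.val = c.val
        · rw [show l = c from Fin.ext hl']; simp only [if_true]; rw [if_neg (by omega)]; omega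
        · simp only [hl, hl', if_false]; omega

theorem good_B (H : Hyp n q r) {γ : Fin (n + 1) → ℤ} :
    Good (ideal k n q r) γ ↔ (∀ l, 0 ≤ γ l) ∧ ¬ inB n q r γ :=
  and_congr_right fun h => not_congr (mem_ideal H h)

theorem rel_B (H : Hyp n q r) {α : Fin (n + 1) → ℤ} {g h : Fin (n + 1) →₀ ℕ} :
    Rel (ideal k n q r) α g h ↔ ((∀ l, 0 ≤ (ev (g ⊔ h) + α) l) → ¬ inB n q r (ev (g ⊔ h) + α)) :=
  ⟨fun hr hn' hin => hr ⟨hn', (mem_ideal H hn').mpr hin⟩, fun hr hin => hr hin.1 ((mem_ideal H hin.1).mp hin.2)⟩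

/-- a nonnegative vector in the ideal is not related -/
theorem not_rel (H : Hyp n q r) {α : Fin (n + 1) → ℤ} {g h : Fin (n + 1) →₀ ℕ} (hpos : ∀ l, 0 ≤ (ev g + α) l)
    (hin : inB n q r (ev (g ⊔ h) + α)) : ¬ Rel (ideal k n q r) α g h := fun hr =>
  (rel_B H).mp hr (fun l => le_trans (hpos l) (by
    have := Finsupp.le_def.mp (le_sup_left : g ≤ g ⊔ h) l
    simp only [ev, Pi.add_apply]; omega)) hin

theorem supAA (i j l : Fin (n + 1)) : (((gA n i ⊔ gA n j) l : ℕ) : ℤ) =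
    ind n 0 l + max (ind n i.val l) (ind n j.val l) := by
  rw [Finsupp.sup_apply, Nat.cast_max, gA_val, gA_val, max_add_add_left]

theorem supAC (H : Hyp n q r) (i c l : Fin (n + 1)) : (((gA n i ⊔ gC n q c) l : ℕ) : ℤ) =
    max (ind n 0 l + ind n i.val l) (q * ind n 1 l + ind n c.val l) := by
  rw [Finsupp.sup_apply, Nat.cast_max, gA_val, gC_val H]

theorem supCC (H : Hyp n q r) (c d l : Fin (n + 1)) : (((gC n q c ⊔ gC n q d) l : ℕ) : ℤ) =
    q * ind n 1 l + max (ind n c.val l) (ind n d.val l) := by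
  rw [Finsupp.sup_apply, Nat.cast_max, gC_val H, gC_val H, max_add_add_left]

/-- a degree vector with one negative unit -/
def sh (a b : ℕ) : Fin (n + 1) → ℤ := fun l => ind n b l - ind n a l

abbrev TR (n r : ℕ) : Type := {v : Fin (n + 1) // (if r = 0 then 2 else 1) ≤ v.val}

abbrev EX (n q r : ℕ) : Type := {i : Fin (n + 1) // i.val < n ∧ (r = 0 ∨ (r = 1 ∧ q = 1 ∧ i.val + 1 = n))}

abbrev CS (n r : ℕ) : Type := {c : Fin (n + 1) // 1 ≤ c.val ∧ c.val ≤ n - r - 1}

abbrev LS (n r : ℕ) : Type := {l : Fin (n + 1) // n - r - 1 < l.val}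

abbrev BS (n q : ℕ) : Type := {β : Fin (n + 1) → ℕ // ∑ l, β l = q ∧ β 0 = 0 ∧ β 1 < q}

abbrev Idx (n q r : ℕ) : Type :=
  {i : Fin (n + 1) // i.val < n} ⊕ TR n r ⊕ EX n q r ⊕ CS n r ⊕ (CS n r × LS n r) ⊕ BS n q

def deg : Idx n q r → Fin (n + 1) → ℤ :=
  Sum.elim (fun i => sh i.1.val n)
  (Sum.elim (fun v => sh 0 v.1.val)
  (Sum.elim (fun i l => ind n 1 l + ind n n l - ind n 0 l - ind n i.1.val l)
  (Sum.elim (fun c l => ind n 0 l + (q : ℤ) * ind n n l - (q : ℤ) * ind n 1 l - ind n c.1.val l)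
  (Sum.elim (fun p => sh p.1.1.val p.2.1.val)
    (fun β l => (β.1 l : ℤ) - (q : ℤ) * ind n 1 l)))))

def fin' (n a : ℕ) : Fin (n + 1) := if h : a < n + 1 then ⟨a, h⟩ else 0

theorem fin'_val {a : ℕ} (h : a ≤ n) : (fin' n a).val = a := by
  rw [fin', dif_pos (by omega)]

def rep : Idx n q r → Fin (n + 1) →₀ ℕ :=
  Sum.elim (fun i => gA n i.1)
  (Sum.elim (fun _ => gA n (fin' n (if r = 0 then 2 else n - 1)))
  (Sum.elim (fun i => gA n i.1)
  (Sum.elim (fun c => gC n q c.1)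
  (Sum.elim (fun p => gC n q p.1.1)
    (fun _ => gC n q (fin' n 2))))))

def cls : Idx n q r → Set (Fin (n + 1) →₀ ℕ) :=
  Sum.elim (fun i => {gA n i.1})
  (Sum.elim (fun v => {b | ∃ i : Fin (n + 1), (if r = 0 then 2 else 1) ≤ i.val ∧ i.val < n ∧ b = gA n i ∧
      ¬ inB n q r (fun l => ind n v.1.val l + ind n i.val l)})
  (Sum.elim (fun i => {gA n i.1})
  (Sum.elim (fun c => {gC n q c.1})
  (Sum.elim (fun p => {gC n q p.1.1})
    (fun β => {b | ∃ d : Fin (n + 1), 1 ≤ d.val ∧ d.val ≤ n - r - 1 ∧ (d.val = 1 → β.1 1 + 1 < q) ∧ b = gC n q d})))))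

theorem gA_inj {i j : Fin (n + 1)} (h : gA n i = gA n j) : i = j := by
  have h0 := congrArg (fun f : Fin (n + 1) →₀ ℕ => (f i : ℤ)) h
  simp only [gA_val, ind_self] at h0
  by_contra hne
  rw [show ind n j.val i = 0 from if_neg fun e => hne (Fin.ext e)] at h0
  omega

theorem gC_inj (H : Hyp n q r) {c d : Fin (n + 1)} (h : gC n q c = gC n q d) : c = d := by
  have h0 := congrArg (fun f : Fin (n + 1) →₀ ℕ => (f c : ℤ)) h
  simp only [gC_val H, ind_self] at h0
  by_contra hne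
  rw [show ind n d.val c = 0 from if_neg fun e => hne (Fin.ext e)] at h0
  omega

theorem gA_ne_gC (H : Hyp n q r) {i c : Fin (n + 1)} (hc : 1 ≤ c.val) : gA n i ≠ gC n q c := fun h => by
  have h0 := congrArg (fun f : Fin (n + 1) →₀ ℕ => (f 0 : ℤ)) h
  have hC : (gC n q c 0 : ℤ) = 0 := by
    rw [gC_val H, show ind n 1 (0 : Fin (n + 1)) = 0 from if_neg (by simp),
      show ind n c.val (0 : Fin (n + 1)) = 0 from if_neg (by simp; omega), mul_zero, add_zero]
  simp only [gA_val, hC] at h0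
  have := ind_nn i.val (0 : Fin (n + 1))
  rw [show ind n 0 (0 : Fin (n + 1)) = 1 from if_pos rfl] at h0
  omega

theorem mem_gA {i : Fin (n + 1)} (hi : i.val < n) : gA n i ∈ gens n q r := Or.inl ⟨i, hi, rfl⟩

theorem mem_gC {c : Fin (n + 1)} (h : 1 ≤ c.val) (h' : c.val ≤ n - r - 1) : gC n q c ∈ gens n q r :=
  Or.inr ⟨c, h, h', rfl⟩

end Groth.Agent.HilbPnLib.Borel
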