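import Groth.Agent.HilbPnLib.BorelDefs

/-!
# The components of the degree zero part at the Borel fixed point: goodness, closedness, connectedness
-/

set_option autoImplicit false

open MvPolynomial W4c1hilbpn

universe u

noncomputable section

namespace Groth.Agent.HilbPnLib.Borel

variable {k : Type u} [Field k] {n q r : ℕ}

macro "fo" : tactic => `(tactic| first | omega | contradiction | tauto)

theorem inB_of_le (H : Hyp n q r) {b : Fin (n + 1) →₀ ℕ} (hb : b ∈ gens n q r) {γ : Fin (n + 1) → ℤ}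
    (h : ∀ l, (b l : ℤ) ≤ γ l) : inB n q r γ := by
  have hγ : ∀ l, 0 ≤ γ l := fun l => (Int.natCast_nonneg _).trans (h l)
  refine (mem_ideal (k := ℚ) H hγ).mp ((exps_span (k := ℚ) (gens n q r)).mpr ⟨b, hb, Finsupp.le_def.mpr fun l => ?_⟩)
  have := h l
  rw [unev_apply]
  omega

theorem inB_mono {γ γ' : Fin (n + 1) → ℤ} (h : ∀ l, γ l ≤ γ' l) (hin : inB n q r γ) : inB n q r γ' := by
  rcases hin with h' | ⟨h', i, a, b, c⟩ | h' | ⟨h', i, a, b, c⟩
  · exact Or.inl (h'.trans (h 0))
  · exact Or.inr (Or.inl ⟨h'.trans (h 0), i, a, b, c.trans (h i)⟩)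
  · exact Or.inr (Or.inr (Or.inl (h'.trans (h 1))))
  · exact Or.inr (Or.inr (Or.inr ⟨h'.trans (h 1), i, a, b, c.trans (h i)⟩))

theorem target1 (i : {i : Fin (n + 1) // i.val < n}) :
    ev (gA n i.1) + deg (q := q) (r := r) (Sum.inl i) = fun l => ind n 0 l + ind n n l := by
  funext l; simp only [ev, Pi.add_apply, gA_val, deg, Sum.elim_inl, sh]; ring

theorem target2 (v : TR n r) (i : Fin (n + 1)) :
    ev (gA n i) + deg (q := q) (Sum.inr (Sum.inl v)) = fun l => ind n v.1.val l + ind n i.val l := by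
  funext l; simp only [ev, Pi.add_apply, gA_val, deg, Sum.elim_inr, Sum.elim_inl, sh]; ring

theorem target3 (i : EX n q r) :
    ev (gA n i.1) + deg (Sum.inr (Sum.inr (Sum.inl i))) = fun l => ind n 1 l + ind n n l := by
  funext l; simp only [ev, Pi.add_apply, gA_val, deg, Sum.elim_inr, Sum.elim_inl]; ring

theorem target4 (H : Hyp n q r) (c : CS n r) :
    ev (gC n q c.1) + deg (q := q) (Sum.inr (Sum.inr (Sum.inr (Sum.inl c)))) =
      fun l => ind n 0 l + (q : ℤ) * ind n n l := by
  funext l; simp only [ev, Pi.add_apply, gC_val H, deg, Sum.elim_inr, Sum.elim_inl]; ring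

theorem target5 (H : Hyp n q r) (p : CS n r × LS n r) :
    ev (gC n q p.1.1) + deg (q := q) (Sum.inr (Sum.inr (Sum.inr (Sum.inr (Sum.inl p))))) =
      fun l => (q : ℤ) * ind n 1 l + ind n p.2.1.val l := by
  funext l; simp only [ev, Pi.add_apply, gC_val H, deg, Sum.elim_inr, Sum.elim_inl, sh]; ring

theorem target6 (H : Hyp n q r) (β : BS n q) (d : Fin (n + 1)) :
    ev (gC n q d) + deg (r := r) (Sum.inr (Sum.inr (Sum.inr (Sum.inr (Sum.inr β))))) =
      fun l => (β.1 l : ℤ) + ind n d.val l := by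
  funext l; simp only [ev, Pi.add_apply, gC_val H, deg, Sum.elim_inr]; ring

theorem notIn1 (H : Hyp n q r) : ¬ inB n q r (fun l => ind n 0 l + ind n n l) := by
  have h10 := one_val H; have := H.hn; have := H.hq
  rintro (h | ⟨-, i, a, b, c⟩ | h | ⟨h, -⟩)
  · simp only [if_false, if_true, ↓reduceIte, zero_ne_one, one_ne_zero, ind, Fin.val_zero] at h; split_ifs at h <;> fo
  · simp only [if_false, if_true, ↓reduceIte, zero_ne_one, one_ne_zero, ind] at c; split_ifs at c <;> fo
  · simp only [if_false, if_true, ↓reduceIte, zero_ne_one, one_ne_zero, ind, h10] at h; split_ifs at h <;> fo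
  · simp only [if_false, if_true, ↓reduceIte, zero_ne_one, one_ne_zero, ind, h10] at h; split_ifs at h <;> fo

theorem notIn3 (H : Hyp n q r) : ¬ inB n q r (fun l => ind n 1 l + ind n n l) := by
  have h10 := one_val H; have := H.hn; have := H.hq
  rintro (h | ⟨h, -⟩ | h | ⟨-, c, a, b, h⟩)
  · simp only [if_false, if_true, ↓reduceIte, zero_ne_one, one_ne_zero, ind, Fin.val_zero] at h; split_ifs at h <;> fo
  · simp only [if_false, if_true, ↓reduceIte, zero_ne_one, one_ne_zero, ind, Fin.val_zero] at h; split_ifs at h <;> fo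
  · simp only [if_false, if_true, ↓reduceIte, zero_ne_one, one_ne_zero, ind, h10] at h; split_ifs at h <;> fo
  · simp only [if_false, if_true, ↓reduceIte, zero_ne_one, one_ne_zero, ind] at h; split_ifs at h <;> fo

theorem notIn4 (H : Hyp n q r) : ¬ inB n q r (fun l => ind n 0 l + (q : ℤ) * ind n n l) := by
  have h10 := one_val H; have := H.hn; have := H.hq
  rintro (h | ⟨-, i, a, b, c⟩ | h | ⟨h, -⟩)
  · simp only [if_false, if_true, ↓reduceIte, zero_ne_one, one_ne_zero, ind, Fin.val_zero, mul_ite, mul_one, mul_zero] at h; split_ifs at h <;> first | omega | simp_all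
  · simp only [if_false, if_true, ↓reduceIte, zero_ne_one, one_ne_zero, ind, mul_ite, mul_one, mul_zero] at c; split_ifs at c <;> fo
  · simp only [if_false, if_true, ↓reduceIte, zero_ne_one, one_ne_zero, ind, h10, mul_ite, mul_one, mul_zero] at h; split_ifs at h <;> fo
  · simp only [if_false, if_true, ↓reduceIte, zero_ne_one, one_ne_zero, ind, h10, mul_ite, mul_one, mul_zero] at h; split_ifs at h <;> fo

theorem notIn5 (H : Hyp n q r) {l : Fin (n + 1)} (hl : n - r - 1 < l.val) (h2 : 2 ≤ l.val) :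
    ¬ inB n q r (fun x => (q : ℤ) * ind n 1 x + ind n l.val x) := by
  have h10 := one_val H; have := H.hn; have := H.hq
  rintro (h | ⟨h, -⟩ | h | ⟨-, c, a, b, h⟩)
  · simp only [if_false, if_true, ↓reduceIte, zero_ne_one, one_ne_zero, ind, Fin.val_zero, mul_ite, mul_one, mul_zero] at h; split_ifs at h <;> fo
  · simp only [if_false, if_true, ↓reduceIte, zero_ne_one, one_ne_zero, ind, Fin.val_zero, mul_ite, mul_one, mul_zero] at h; split_ifs at h <;> fo
  · simp only [if_false, if_true, ↓reduceIte, zero_ne_one, one_ne_zero, ind, h10, mul_ite, mul_one, mul_zero] at h; split_ifs at h <;> fo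
  · simp only [if_false, if_true, ↓reduceIte, zero_ne_one, one_ne_zero, ind, mul_ite, mul_one, mul_zero] at h; split_ifs at h <;> fo

theorem notIn6 (H : Hyp n q r) (β : BS n q) {d : Fin (n + 1)} (hd : 1 ≤ d.val) (h1 : d.val = 1 → β.1 1 + 1 < q) :
    ¬ inB n q r (fun l => (β.1 l : ℤ) + ind n d.val l) := by
  have h10 := one_val H; have := H.hn; have := β.2.2.1; have := β.2.2.2
  rintro (h | ⟨h, -⟩ | h | ⟨h, -⟩)
  · simp only [if_false, if_true, ↓reduceIte, zero_ne_one, one_ne_zero, ind, Fin.val_zero] at h; split_ifs at h <;> fo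
  · simp only [if_false, if_true, ↓reduceIte, zero_ne_one, one_ne_zero, ind, Fin.val_zero] at h; split_ifs at h <;> fo
  · simp only [if_false, if_true, ↓reduceIte, zero_ne_one, one_ne_zero, ind, h10] at h; split_ifs at h <;> fo
  · simp only [if_false, if_true, ↓reduceIte, zero_ne_one, one_ne_zero, ind, h10] at h; split_ifs at h <;> fo

theorem two_le_s (H : Hyp n q r) : 2 ≤ n - r - 1 := by
  have := H.hn; have := H.hr; have := H.hr3
  omega

theorem cls_good (H : Hyp n q r) : ∀ ω : Idx n q r, ∀ h ∈ cls ω, Good (ideal k n q r) (ev h + deg ω) := by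
  have := two_le_s H
  rintro (i | v | i | c | p | β) h hh
  · rw [show h = gA n i.1 from hh, target1, good_B H]
    exact ⟨fun l => add_nonneg (ind_nn _ _) (ind_nn _ _), notIn1 H⟩
  · obtain ⟨j, -, -, rfl, hin⟩ := hh
    rw [target2, good_B H]
    exact ⟨fun l => add_nonneg (ind_nn _ _) (ind_nn _ _), hin⟩
  · rw [show h = gA n i.1 from hh, target3, good_B H]
    exact ⟨fun l => add_nonneg (ind_nn _ _) (ind_nn _ _), notIn3 H⟩
  · rw [show h = gC n q c.1 from hh, target4 H, good_B H]
    exact ⟨fun l => add_nonneg (ind_nn _ _) (mul_nonneg (Int.natCast_nonneg _) (ind_nn _ _)), notIn4 H⟩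
  · rw [show h = gC n q p.1.1 from hh, target5 H, good_B H]
    exact ⟨fun l => add_nonneg (mul_nonneg (Int.natCast_nonneg _) (ind_nn _ _)) (ind_nn _ _),
      notIn5 H p.2.2 (by have := p.2.2; omega)⟩
  · obtain ⟨d, hd, -, h1, rfl⟩ := hh
    rw [target6 H, good_B H]
    exact ⟨fun l => add_nonneg (Int.natCast_nonneg _) (ind_nn _ _), notIn6 H β hd h1⟩

theorem closed1 (H : Hyp n q r) (i : {i : Fin (n + 1) // i.val < n}) {h' : Fin (n + 1) →₀ ℕ}
    (hh' : h' ∈ gens n q r) (hne : h' ≠ gA n i.1) :
    inB n q r (ev (gA n i.1 ⊔ h') + deg (q := q) (r := r) (Sum.inl i)) := by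
  have h10 := one_val H; have := H.hn; have := H.hq; have := i.2
  rcases hh' with ⟨j, hj, rfl⟩ | ⟨c, hc, hcs, rfl⟩
  · have hji : j.val ≠ i.1.val := fun e => hne (congrArg _ (Fin.ext e))
    by_cases hj0 : j.val = 0
    · refine Or.inl ?_
      simp only [if_false, if_true, ↓reduceIte, zero_ne_one, one_ne_zero, ev, Pi.add_apply, supAA, deg, Sum.elim_inl, sh, ind, Fin.val_zero, hj0, if_true]
      split_ifs <;> fo
    · refine Or.inr (Or.inl ⟨?_, j, by omega, by omega, ?_⟩)
      · simp only [if_false, if_true, ↓reduceIte, zero_ne_one, one_ne_zero, ev, Pi.add_apply, supAA, deg, Sum.elim_inl, sh, ind, Fin.val_zero, if_true]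
        split_ifs <;> fo
      · simp only [if_false, if_true, ↓reduceIte, zero_ne_one, one_ne_zero, ev, Pi.add_apply, supAA, deg, Sum.elim_inl, sh, ind, if_true]
        split_ifs <;> fo
  · by_cases hi1 : i.1.val = 1
    · refine Or.inr (Or.inl ⟨?_, c, by omega, by omega, ?_⟩) <;>
        simp only [if_false, if_true, ↓reduceIte, zero_ne_one, one_ne_zero, ev, Pi.add_apply, supAC H, deg, Sum.elim_inl, sh, ind, Fin.val_zero, if_true, mul_ite, mul_one, mul_zero, hi1] <;>
        split_ifs <;> fo
    · refine Or.inr (Or.inl ⟨?_, 1, by omega, by omega, ?_⟩) <;>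
        simp only [if_false, if_true, ↓reduceIte, zero_ne_one, one_ne_zero, ev, Pi.add_apply, supAC H, deg, Sum.elim_inl, sh, ind, Fin.val_zero, h10, if_true, mul_ite, mul_one, mul_zero] <;>
        split_ifs <;> fo

theorem closed3 (H : Hyp n q r) (i : EX n q r) {h' : Fin (n + 1) →₀ ℕ}
    (hh' : h' ∈ gens n q r) (hne : h' ≠ gA n i.1) :
    inB n q r (ev (gA n i.1 ⊔ h') + deg (Sum.inr (Sum.inr (Sum.inl i)))) := by
  have h10 := one_val H; have := H.hn; have := H.hq; have := i.2.1; have := H.hr
  have hq1 : q = 1 := by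
    rcases i.2.2 with h | ⟨-, h, -⟩
    · exact H.h0 h
    · exact h
  have hr01 : r = 0 ∨ (r = 1 ∧ i.1.val + 1 = n) := by
    rcases i.2.2 with h | ⟨h, -, h'⟩
    · exact Or.inl h
    · exact Or.inr ⟨h, h'⟩
  subst hq1
  rcases hh' with ⟨j, hj, rfl⟩ | ⟨c, hc, hcs, rfl⟩
  · have hji : j.val ≠ i.1.val := fun e => hne (congrArg _ (Fin.ext e))
    by_cases hj0 : j.val = 0
    · refine Or.inr (Or.inl ⟨?_, 1, by omega, by omega, ?_⟩) <;>
        simp only [if_false, if_true, ↓reduceIte, zero_ne_one, one_ne_zero, ev, Pi.add_apply, supAA, deg, Sum.elim_inl, Sum.elim_inr, ind, Fin.val_zero, h10, hj0, if_true] <;>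
        split_ifs <;> fo
    · by_cases hj1 : j.val = 1
      · refine Or.inr (Or.inr (Or.inl ?_))
        simp only [if_false, if_true, ↓reduceIte, zero_ne_one, one_ne_zero, ev, Pi.add_apply, supAA, deg, Sum.elim_inl, Sum.elim_inr, ind, h10, hj1, if_true]
        split_ifs <;> fo
      · refine Or.inr (Or.inr (Or.inr ⟨?_, j, by omega, by omega, ?_⟩)) <;>
          simp only [if_false, if_true, ↓reduceIte, zero_ne_one, one_ne_zero, ev, Pi.add_apply, supAA, deg, Sum.elim_inl, Sum.elim_inr, ind, h10, if_true] <;>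
          split_ifs <;> fo
  · by_cases hi1 : i.1.val = 1
    · by_cases hc1 : c.val = 1
      · refine Or.inr (Or.inr (Or.inl ?_))
        simp only [if_false, if_true, ↓reduceIte, zero_ne_one, one_ne_zero, ev, Pi.add_apply, supAC H, deg, Sum.elim_inl, Sum.elim_inr, ind, h10, hc1, hi1, if_true, mul_ite, mul_one, mul_zero, Nat.cast_one]
        split_ifs <;> fo
      · refine Or.inr (Or.inr (Or.inr ⟨?_, c, by omega, hcs, ?_⟩)) <;>
          simp only [if_false, if_true, ↓reduceIte, zero_ne_one, one_ne_zero, ev, Pi.add_apply, supAC H, deg, Sum.elim_inl, Sum.elim_inr, ind, h10, hi1, if_true, mul_ite, mul_one, mul_zero, Nat.cast_one] <;>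
          split_ifs <;> fo
    · refine Or.inr (Or.inr (Or.inl ?_))
      simp only [if_false, if_true, ↓reduceIte, zero_ne_one, one_ne_zero, ev, Pi.add_apply, supAC H, deg, Sum.elim_inl, Sum.elim_inr, ind, h10, if_true, mul_ite, mul_one, mul_zero, Nat.cast_one]
      split_ifs <;> fo

theorem closed4 (H : Hyp n q r) (c : CS n r) {h' : Fin (n + 1) →₀ ℕ}
    (hh' : h' ∈ gens n q r) (hne : h' ≠ gC n q c.1) :
    inB n q r (ev (gC n q c.1 ⊔ h') + deg (q := q) (Sum.inr (Sum.inr (Sum.inr (Sum.inl c))))) := by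
  have h10 := one_val H; have := H.hn; have := H.hq; have := c.2
  rcases hh' with ⟨j, hj, rfl⟩ | ⟨d, hd, hds, rfl⟩
  · refine Or.inl ?_
    simp only [if_false, if_true, ↓reduceIte, zero_ne_one, one_ne_zero, ev, Pi.add_apply, sup_comm (gC n q c.1), supAC H, deg, Sum.elim_inl, Sum.elim_inr, ind, Fin.val_zero, if_true, mul_ite, mul_one, mul_zero]
    split_ifs <;> fo
  · have hdc : d.val ≠ c.1.val := fun e => hne (congrArg _ (Fin.ext e))
    refine Or.inr (Or.inl ⟨?_, d, by omega, by omega, ?_⟩) <;>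
      simp only [if_false, if_true, ↓reduceIte, zero_ne_one, one_ne_zero, ev, Pi.add_apply, supCC H, deg, Sum.elim_inl, Sum.elim_inr, ind, Fin.val_zero, if_true, mul_ite, mul_one, mul_zero] <;>
      split_ifs <;> fo

theorem closed5 (H : Hyp n q r) (p : CS n r × LS n r) {h' : Fin (n + 1) →₀ ℕ}
    (hh' : h' ∈ gens n q r) (hne : h' ≠ gC n q p.1.1) :
    inB n q r (ev (gC n q p.1.1 ⊔ h') + deg (q := q) (Sum.inr (Sum.inr (Sum.inr (Sum.inr (Sum.inl p)))))) := by
  have h10 := one_val H; have := H.hn; have := H.hq; have := p.1.2; have := p.2.2; have := two_le_s H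
  rcases hh' with ⟨j, hj, rfl⟩ | ⟨d, hd, hds, rfl⟩
  · refine Or.inr (Or.inl ⟨?_, 1, by omega, by omega, ?_⟩) <;>
      simp only [if_false, if_true, ↓reduceIte, zero_ne_one, one_ne_zero, ev, Pi.add_apply, sup_comm (gC n q p.1.1), supAC H, deg, Sum.elim_inl, Sum.elim_inr, sh, ind, Fin.val_zero, h10, if_true, mul_ite, mul_one, mul_zero] <;>
      split_ifs <;> fo
  · have hdc : d.val ≠ p.1.1.val := fun e => hne (congrArg _ (Fin.ext e))
    by_cases hd1 : d.val = 1
    · refine Or.inr (Or.inr (Or.inl ?_))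
      simp only [if_false, if_true, ↓reduceIte, zero_ne_one, one_ne_zero, ev, Pi.add_apply, supCC H, deg, Sum.elim_inl, Sum.elim_inr, sh, ind, h10, hd1, if_true, mul_ite, mul_one, mul_zero]
      split_ifs <;> fo
    · refine Or.inr (Or.inr (Or.inr ⟨?_, d, by omega, hds, ?_⟩)) <;>
        simp only [if_false, if_true, ↓reduceIte, zero_ne_one, one_ne_zero, ev, Pi.add_apply, supCC H, deg, Sum.elim_inl, Sum.elim_inr, sh, ind, h10, if_true, mul_ite, mul_one, mul_zero] <;>
        split_ifs <;> fo

theorem cls_closed (H : Hyp n q r) : ∀ ω : Idx n q r, ∀ h ∈ cls ω, ∀ h' ∈ gens n q r,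
    Rel (ideal k n q r) (deg ω) h h' → h' ∈ cls ω := by
  intro ω h hh h' hh' hrel
  have hpos := (cls_good (k := k) H ω h hh).1
  by_contra hne
  refine not_rel H hpos ?_ hrel
  have h10 := one_val H; have := H.hn; have := H.hq; have := two_le_s H
  rcases ω with i | v | i | c | p | β
  · rw [show h = gA n i.1 from hh]; exact closed1 H i hh' hne
  · obtain ⟨a, ha, han, rfl, hin⟩ := hh
    have hv := v.2
    have hlo : 1 ≤ a.val ∧ 1 ≤ v.1.val ∧ (r = 0 → 2 ≤ a.val ∧ 2 ≤ v.1.val) := by split_ifs at ha hv <;> omega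
    have hge : ∀ l, ind n v.1.val l + ind n a.val l ≤ (ev (gA n a ⊔ h') + deg (q := q) (Sum.inr (Sum.inl v))) l := fun l => by
      have h1 := congrFun (target2 (q := q) v a) l
      have h2 := Finsupp.le_def.mp (le_sup_left : gA n a ≤ gA n a ⊔ h') l
      simp only [ev, Pi.add_apply] at h1 ⊢
      omega
    rcases hh' with ⟨j, hj, rfl⟩ | ⟨c, hc, hcs, rfl⟩
    · by_cases hj0 : j.val = 0
      · refine Or.inr (Or.inl ⟨?_, a, by omega, han, ?_⟩)
        · simp only [if_false, if_true, ↓reduceIte, zero_ne_one, one_ne_zero, ev, Pi.add_apply, supAA, deg, Sum.elim_inl, Sum.elim_inr, sh, ind, Fin.val_zero, hj0, if_true]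
          split_ifs <;> fo
        · have := hge a; have := ind_nn v.1.val a; simp only [ind_self] at *; omega
      · by_cases hjlo : (if r = 0 then 2 else 1) ≤ j.val
        · refine inB_mono (γ := fun l => ind n v.1.val l + ind n j.val l) (fun l => ?_) ?_
          · have h1 := congrFun (target2 (q := q) v j) l
            have h2 := Finsupp.le_def.mp (le_sup_right : gA n j ≤ gA n a ⊔ gA n j) l
            simp only [ev, Pi.add_apply] at h1 ⊢
            omega
          · by_contra hin'
            exact hne ⟨j, hjlo, by omega, rfl, hin'⟩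
        · have hr0 : r = 0 := by by_contra h0; rw [if_neg h0] at hjlo; omega
          have hlo2 := hlo.2.2 hr0
          have := H.h0 hr0
          rw [if_pos hr0] at hjlo
          have hj1 : j.val = 1 := by omega
          refine Or.inr (Or.inr (Or.inr ⟨?_, a, hlo2.1, by omega, ?_⟩))
          · simp only [if_false, if_true, ↓reduceIte, zero_ne_one, one_ne_zero, ev, Pi.add_apply, supAA, deg, Sum.elim_inl, Sum.elim_inr, sh, ind, h10, hj1, if_true]
            split_ifs <;> fo
          · have := hge a; have := ind_nn v.1.val a; simp only [ind_self] at *; omega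
    · refine inB_of_le H (mem_gC hc hcs) fun l => ?_
      have h2 := Finsupp.le_def.mp (le_sup_right : gC n q c ≤ gA n a ⊔ gC n q c) l
      have h0 : ind n 0 l = 1 → gC n q c l = 0 := fun e => by
        have hl : l.val = 0 := by by_contra hl; simp [ind, hl] at e
        have : (gC n q c l : ℤ) = 0 := by
          simp only [if_false, if_true, ↓reduceIte, zero_ne_one, one_ne_zero, gC_val H, ind, hl, mul_ite, mul_one, mul_zero]
          split_ifs <;> fo
        exact_mod_cast this
      have h01 : ind n 0 l = 0 ∨ ind n 0 l = 1 := by unfold ind; split_ifs <;> simp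
      have := ind_nn v.1.val l
      have := hge l
      have := ind_nn a.val l
      simp only [ev, Pi.add_apply, deg, Sum.elim_inl, Sum.elim_inr, sh] at *
      rcases h01 with e | e
      · omega
      · have := h0 e; omega
  · rw [show h = gA n i.1 from hh]; exact closed3 H i hh' hne
  · rw [show h = gC n q c.1 from hh]; exact closed4 H c hh' hne
  · rw [show h = gC n q p.1.1 from hh]; exact closed5 H p hh' hne
  · obtain ⟨d, hd, hds, hd1, rfl⟩ := hh
    have hb0 := β.2.2.1
    rcases hh' with ⟨j, hj, rfl⟩ | ⟨e, he, hes, rfl⟩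
    · refine Or.inr (Or.inl ⟨?_, d, by omega, by omega, ?_⟩) <;>
        simp only [if_false, if_true, ↓reduceIte, zero_ne_one, one_ne_zero, ev, Pi.add_apply, sup_comm (gC n q d), supAC H, deg, Sum.elim_inr, ind, Fin.val_zero, if_true, mul_ite, mul_one, mul_zero] <;>
        split_ifs <;> fo
    · have he1 : e.val = 1 ∧ q ≤ β.1 1 + 1 := by
        by_contra hc'
        exact hne ⟨e, he, hes, fun h1 => by omega, rfl⟩
      have hd2 : 2 ≤ d.val := by
        by_contra hc'
        have := hd1 (by omega)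
        omega
      refine Or.inr (Or.inr (Or.inr ⟨?_, d, hd2, hds, ?_⟩)) <;>
        simp only [if_false, if_true, ↓reduceIte, zero_ne_one, one_ne_zero, ev, Pi.add_apply, supCC H, deg, Sum.elim_inr, ind, h10, he1.1, if_true, mul_ite, mul_one, mul_zero] <;>
        split_ifs <;> fo

theorem rep_mem (H : Hyp n q r) : ∀ ω : Idx n q r, rep ω ∈ cls ω := by
  have h10 := one_val H; have := H.hn; have := H.hq; have := two_le_s H; have := H.hr
  rintro (i | v | i | c | p | β)
  · rfl
  · have hv := v.2
    have hle : (if r = 0 then 2 else n - 1) ≤ n := by split_ifs <;> omega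
    refine ⟨_, ?_, ?_, rfl, ?_⟩
    · rw [fin'_val hle]; split_ifs <;> omega
    · rw [fin'_val hle]; split_ifs <;> omega
    · rw [fin'_val hle]
      rintro (h | ⟨h, -⟩ | h | ⟨h, c, a, b, h'⟩)
      · simp only [if_false, if_true, ↓reduceIte, zero_ne_one, one_ne_zero, ind, Fin.val_zero] at h; split_ifs at h hv <;> fo
      · simp only [if_false, if_true, ↓reduceIte, zero_ne_one, one_ne_zero, ind, Fin.val_zero] at h; split_ifs at h hv <;> first | omega | (simp_all; split_ifs at h <;> omega)
      · simp only [if_false, if_true, ↓reduceIte, zero_ne_one, one_ne_zero, ind, h10] at h; split_ifs at h hv <;> fo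
      · simp only [if_false, if_true, ↓reduceIte, zero_ne_one, one_ne_zero, ind, h10] at h; simp only [ind] at h'; split_ifs at h h' hv <;> fo
  · rfl
  · rfl
  · rfl
  · exact ⟨_, by rw [fin'_val (by omega)]; omega, by rw [fin'_val (by omega)]; omega, by rw [fin'_val (by omega)]; omega, rfl⟩

theorem cls_conn (H : Hyp n q r) : ∀ ω : Idx n q r, ∀ h ∈ cls ω, Rel (ideal k n q r) (deg ω) h (rep ω) := by
  have h10 := one_val H; have := H.hn; have := H.hq; have := two_le_s H; have := H.hr
  intro ω h hh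
  have hg := cls_good (k := k) H ω h hh
  rcases ω with i | v | i | c | p | β
  · rw [show h = gA n i.1 from hh] at hg ⊢
    rw [rel_B H]
    simp only [rep, Sum.elim_inl, sup_idem]
    exact fun _ => ((good_B H).mp hg).2
  · obtain ⟨a, ha, han, rfl, hin⟩ := hh
    have hv := v.2
    have hle : (if r = 0 then 2 else n - 1) ≤ n := by split_ifs <;> omega
    have hρ := fin'_val hle
    have hlo : 1 ≤ a.val ∧ 1 ≤ v.1.val ∧ (r = 0 → 2 ≤ a.val ∧ 2 ≤ v.1.val) := by split_ifs at ha hv <;> omega
    rw [rel_B H]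
    intro _ hin'
    apply hin
    have hval : ∀ l : Fin (n + 1), (ev (gA n a ⊔ rep (q := q) (Sum.inr (Sum.inl v))) + deg (q := q) (Sum.inr (Sum.inl v))) l =
        max (ind n a.val l) (ind n (fin' n (if r = 0 then 2 else n - 1)).val l) + ind n v.1.val l := fun l => by
      simp only [ev, Pi.add_apply, rep, Sum.elim_inl, Sum.elim_inr, supAA, deg, sh]
      ring
    have hρ' : 2 ≤ (fin' n (if r = 0 then 2 else n - 1)).val ∧
        (r ≠ 0 → n - r - 1 < (fin' n (if r = 0 then 2 else n - 1)).val) := by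
      rw [hρ]; split_ifs <;> omega
    unfold inB at hin' ⊢
    simp only [hval] at hin'
    generalize (fin' n (if r = 0 then 2 else n - 1)).val = ρ at hρ' hin'
    rcases hin' with h | ⟨h, -⟩ | h | ⟨h, c, hc2, hcs, h'⟩
    · simp only [if_false, if_true, ↓reduceIte, ind, Fin.val_zero] at h; split_ifs at h <;> fo
    · simp only [if_false, if_true, ↓reduceIte, ind, Fin.val_zero] at h; split_ifs at h <;> fo
    · refine Or.inr (Or.inr (Or.inl ?_))
      simp only [if_false, if_true, ↓reduceIte, ind, h10] at h ⊢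
      split_ifs at h ⊢ <;> fo
    · refine Or.inr (Or.inr (Or.inr ⟨?_, c, hc2, hcs, ?_⟩))
      · simp only [if_false, if_true, ↓reduceIte, ind, h10] at h ⊢
        split_ifs at h ⊢ <;> fo
      · by_cases hr0 : r = 0
        · exfalso
          have := hlo.2.2 hr0
          simp only [if_false, if_true, ↓reduceIte, ind, h10] at h
          split_ifs at h <;> fo
        · have := hρ'.2 hr0
          simp only [if_false, if_true, ↓reduceIte, ind] at h' ⊢
          split_ifs at h' ⊢ <;> fo
  · rw [show h = gA n i.1 from hh] at hg ⊢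
    rw [rel_B H]
    simp only [rep, Sum.elim_inl, Sum.elim_inr, sup_idem]
    exact fun _ => ((good_B H).mp hg).2
  · rw [show h = gC n q c.1 from hh] at hg ⊢
    rw [rel_B H]
    simp only [rep, Sum.elim_inl, Sum.elim_inr, sup_idem]
    exact fun _ => ((good_B H).mp hg).2
  · rw [show h = gC n q p.1.1 from hh] at hg ⊢
    rw [rel_B H]
    simp only [rep, Sum.elim_inl, Sum.elim_inr, sup_idem]
    exact fun _ => ((good_B H).mp hg).2
  · obtain ⟨d, hd, hds, hd1, rfl⟩ := hh
    have := β.2.2.1; have := β.2.2.2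
    have h2 := fin'_val (n := n) (a := 2) (by omega)
    rw [rel_B H]
    rintro - (h | ⟨h, -⟩ | h | ⟨h, -⟩) <;>
      simp only [if_false, if_true, ↓reduceIte, zero_ne_one, one_ne_zero, ev, Pi.add_apply, rep, Sum.elim_inr, supCC H, deg, ind, Fin.val_zero, h10, h2, if_true, mul_ite, mul_one, mul_zero] at h <;>
      split_ifs at h <;> first | omega | simp_all

end Groth.Agent.HilbPnLib.Borel
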