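import Groth.Agent.HilbPnLib.Table
import Mathlib.Data.Finsupp.Multiset
import Mathlib.Data.Sym.Card
import Mathlib.Algebra.BigOperators.Fin

/-!
# Degree zero part of the tangent space at `x₀(x₀, …, x_{n-1}) + (x₁^q)`
-/

set_option autoImplicit false

open MvPolynomial W4c1hilbpn

universe u

noncomputable section

namespace Groth.Agent.HilbPnLib

variable (k : Type u) [Field k] (n q : ℕ)

/-- `x₀ x_i` -/
def genA (i : Fin (n + 1)) : Fin (n + 1) →₀ ℕ := Finsupp.single 0 1 + Finsupp.single i 1

/-- `x₁^q` -/
def genC : Fin (n + 1) →₀ ℕ := Finsupp.single 1 q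

def powGens : Set (Fin (n + 1) →₀ ℕ) := {b | ∃ i : Fin (n + 1), i.val + 1 ≤ n ∧ b = genA n i} ∪ {genC n q}

abbrev powIdeal : Ideal (MvPolynomial (Fin (n + 1)) k) :=
  Ideal.span ((fun b => monomial b (1 : k)) '' powGens n q)

/-- the numerical test for membership -/
def inPow (γ : Fin (n + 1) → ℤ) : Prop :=
  2 ≤ γ 0 ∨ (1 ≤ γ 0 ∧ ∃ i : Fin (n + 1), 0 < i.val ∧ i.val < n ∧ 1 ≤ γ i) ∨ (q : ℤ) ≤ γ 1

variable {k n q}

theorem mem_pow (hn : 2 ≤ n) {γ : Fin (n + 1) → ℤ} (hγ : ∀ l, 0 ≤ γ l) :
    unev γ ∈ exps (powIdeal k n q) ↔ inPow n q γ := by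
  rw [exps_span]
  have h10 : (1 : Fin (n + 1)).val = 1 := by rw [Fin.val_one', Nat.mod_eq_of_lt]; omega
  constructor
  · rintro ⟨b, (⟨i, hi, rfl⟩ | rfl), hle⟩
    · have h0 := Finsupp.le_def.mp hle 0; have h1 := Finsupp.le_def.mp hle i
      have := hγ 0; have := hγ i
      by_cases hi0 : i = 0
      · subst hi0; simp [genA, unev_apply] at h0; exact Or.inl (by omega)
      · simp [genA, unev_apply, hi0, Ne.symm hi0] at h0 h1
        exact Or.inr (Or.inl ⟨by omega, i, Nat.pos_of_ne_zero fun e => hi0 (Fin.ext e), by omega, by omega⟩)
    · have h1 := Finsupp.le_def.mp hle 1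
      have := hγ 1
      simp [genC, unev_apply] at h1
      exact Or.inr (Or.inr (by omega))
  · rintro (h | ⟨h, i, hi0, hi, h'⟩ | h)
    · refine ⟨_, Or.inl ⟨0, by simp; omega, rfl⟩, Finsupp.le_def.mpr fun l => ?_⟩
      by_cases hl : l = 0 <;> simp [genA, unev_apply, hl] <;> omega
    · have hi' : i ≠ 0 := fun e => by rw [e] at hi0; simp at hi0
      refine ⟨_, Or.inl ⟨i, by omega, rfl⟩, Finsupp.le_def.mpr fun l => ?_⟩
      by_cases hl : l = 0
      · subst hl; simp [genA, unev_apply, Ne.symm hi']; omega
      · by_cases hl' : l = i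
        · subst hl'; simp [genA, unev_apply, hl]; omega
        · simp [genA, hl, hl']
    · refine ⟨_, Or.inr rfl, Finsupp.le_def.mpr fun l => ?_⟩
      by_cases hl : l = 1 <;> simp [genC, unev_apply, hl] <;> omega

theorem good_pow (hn : 2 ≤ n) {γ : Fin (n + 1) → ℤ} :
    Good (powIdeal k n q) γ ↔ (∀ l, 0 ≤ γ l) ∧ ¬ inPow n q γ :=
  and_congr_right fun h => not_congr (mem_pow hn h)

theorem rel_pow (hn : 2 ≤ n) {α : Fin (n + 1) → ℤ} {g h : Fin (n + 1) →₀ ℕ} :
    Rel (powIdeal k n q) α g h ↔ ((∀ l, 0 ≤ (ev (g ⊔ h) + α) l) → ¬ inPow n q (ev (g ⊔ h) + α)) :=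
  ⟨fun hr hn' hin => hr ⟨hn', (mem_pow hn hn').mpr hin⟩, fun hr hin => hr hin.1 ((mem_pow hn hin.1).mp hin.2)⟩

variable (n q)

/-- targets of the last generator -/
abbrev powTargets : Type :=
  {m : Fin (n + 1) → ℕ // ∑ l, m l = q ∧ ¬ inPow n q (fun l => (m l : ℤ)) ∧ m (Fin.last n) ≠ q}

/-- the components -/
abbrev powIndex : Type := {i : Fin (n + 1) // i.val < n} ⊕ {v : Fin (n + 1) // 0 < v.val} ⊕ powTargets n q

variable {n q}

def powDeg : powIndex n q → Fin (n + 1) → ℤ :=
  Sum.elim (fun i l => (if l = Fin.last n then 1 else 0) - if l = i.1 then 1 else 0)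
    (Sum.elim (fun v l => (if l = v.1 then 1 else 0) - if l = 0 then 1 else 0)
      (fun m l => (m.1 l : ℤ) - (genC n q l : ℤ)))

def powRep (two : Fin (n + 1)) : powIndex n q → Fin (n + 1) →₀ ℕ :=
  Sum.elim (fun i => genA n i.1) (Sum.elim (fun _ => genA n two) (fun _ => genC n q))

def powClass (I : Ideal (MvPolynomial (Fin (n + 1)) k)) : powIndex n q → Set (Fin (n + 1) →₀ ℕ) :=
  Sum.elim (fun i => {genA n i.1}) (Sum.elim
    (fun v => {b | ∃ i : Fin (n + 1), 0 < i.val ∧ i.val < n ∧ b = genA n i ∧
      Good I (ev b + powDeg (q := q) (Sum.inr (Sum.inl v)))})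
    (fun _ => {genC n q}))

theorem card_powTargets (hn : 3 ≤ n) (hq : 2 ≤ q) :
    Nat.card (powTargets n q) + 1 = Nat.choose (n + q - 1) (n - 1) := by
  classical
  have h10 : (1 : Fin (n + 1)).val = 1 := by rw [Fin.val_one', Nat.mod_eq_of_lt]; omega
  haveI : Finite (powTargets n q) := by
    refine Finite.of_injective (fun m : powTargets n q => (Sym.equivNatSumOfFintype (Fin (n + 1)) q).symm ⟨m.1, m.2.1⟩)
      fun a b h => Subtype.ext (congrArg Subtype.val ((Equiv.injective _) h) :)
  let P := {P : Fin n → ℕ // ∑ l, P l = q}
  let one : Fin n := ⟨0, by omega⟩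
  let top : Fin n := ⟨n - 1, by omega⟩
  let f : powTargets n q → P := fun m =>
    if h : m.1 0 = 0 then ⟨fun l => m.1 l.succ, by have := m.2.1; rw [Fin.sum_univ_succ, h, zero_add] at this; exact this⟩
    else ⟨Pi.single top q, by simp⟩
  have hf0 : ∀ m : powTargets n q, m.1 0 = 0 → ∀ l, (f m).1 l = m.1 l.succ := fun m h l => by simp only [f, dif_pos h]
  have hf1 : ∀ m : powTargets n q, m.1 0 ≠ 0 → (f m).1 = Pi.single top q := fun m h => by simp only [f, dif_neg h]
  have hne : one ≠ top := fun e => by have := congrArg Fin.val e; simp only [one, top] at this; omega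
  have hone : one.succ = (1 : Fin (n + 1)) := Fin.ext (by rw [h10]; rfl)
  have hlast : top.succ = Fin.last n := Fin.ext (by simp only [top, Fin.succ_mk, Fin.val_last]; omega)
  have hm0 : ∀ m : powTargets n q, m.1 0 ≠ 0 → m.1 0 = 1 ∧ ∀ l, l ≠ 0 → l ≠ Fin.last n → m.1 l = 0 := by
    intro m h
    have hin := m.2.2.1
    simp only [inPow, not_or, not_and, not_exists, not_le] at hin
    refine ⟨by have := hin.1; omega, fun l hl hl' => ?_⟩
    have := hin.2.1 (by omega) l (Nat.pos_of_ne_zero fun e => hl (Fin.ext e))
      (lt_of_le_of_ne (Nat.lt_succ_iff.mp l.isLt) fun e => hl' (Fin.ext e))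
    omega
  let F : Option (powTargets n q) → P := fun o => o.elim ⟨Pi.single one q, by simp⟩ f
  have hF : Function.Bijective F := by
    constructor
    · have hsingle : ∀ m : powTargets n q, (f m).1 ≠ Pi.single one q := by
        intro m e
        have e' := congrFun e one
        rw [Pi.single_eq_same] at e'
        by_cases h : m.1 0 = 0
        · rw [hf0 m h, hone] at e'
          exact m.2.2.1 (Or.inr (Or.inr (by show (q : ℤ) ≤ (m.1 1 : ℤ); omega)))
        · rw [hf1 m h, Pi.single_eq_of_ne hne] at e'
          omega
      have hinj : Function.Injective f := by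
        intro m m' e
        have e' := congrArg Subtype.val e
        by_cases h : m.1 0 = 0 <;> by_cases h' : m'.1 0 = 0
        · refine Subtype.ext (funext fun l => ?_)
          induction l using Fin.cases with
          | zero => omega
          | succ l => rw [← hf0 m h l, ← hf0 m' h' l, e']
        · have h2 := congrFun e' top
          rw [hf0 m h, hf1 m' h', hlast, Pi.single_eq_same] at h2
          exact absurd h2 m.2.2.2
        · have h2 := congrFun e' top
          rw [hf0 m' h', hf1 m h, hlast, Pi.single_eq_same] at h2
          exact absurd h2.symm m'.2.2.2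
        · obtain ⟨a0, al⟩ := hm0 m h
          obtain ⟨b0, bl⟩ := hm0 m' h'
          refine Subtype.ext (funext fun l => ?_)
          by_cases hl : l = 0
          · rw [hl, a0, b0]
          · by_cases hl' : l = Fin.last n
            · subst hl'
              have hs := m.2.1; have hs' := m'.2.1
              rw [← Finset.add_sum_erase _ _ (Finset.mem_univ (0 : Fin (n + 1))),
                Finset.sum_eq_single (Fin.last n) (fun x hx hx' => al x (Finset.mem_erase.mp hx).1 hx')
                  (fun h => absurd (Finset.mem_erase.mpr ⟨hl, Finset.mem_univ _⟩) h)] at hs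
              rw [← Finset.add_sum_erase _ _ (Finset.mem_univ (0 : Fin (n + 1))),
                Finset.sum_eq_single (Fin.last n) (fun x hx hx' => bl x (Finset.mem_erase.mp hx).1 hx')
                  (fun h => absurd (Finset.mem_erase.mpr ⟨hl, Finset.mem_univ _⟩) h)] at hs'
              omega
            · rw [al l hl hl', bl l hl hl']
      rintro (_ | m) (_ | m') e
      · rfl
      · exact absurd (congrArg Subtype.val e.symm) (hsingle m')
      · exact absurd (congrArg Subtype.val e) (hsingle m)
      · exact congrArg some (hinj e)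
    · rintro ⟨P, hP⟩
      have hsing : ∀ a : Fin n, P a = q → ∀ l, (Pi.single a q : Fin n → ℕ) l = P l := fun a ha l => by
        by_cases hl : l = a
        · rw [hl, Pi.single_eq_same, ha]
        · rw [Pi.single_eq_of_ne hl]
          rw [← Finset.add_sum_erase _ _ (Finset.mem_univ a)] at hP
          have := Finset.single_le_sum (fun j _ => Nat.zero_le (P j)) (Finset.mem_erase.mpr ⟨hl, Finset.mem_univ l⟩)
          omega
      by_cases hone' : P one = q
      · exact ⟨none, Subtype.ext (funext (hsing one hone'))⟩
      · have hlt : ∀ l, P l ≤ q := fun l => hP ▸ Finset.single_le_sum (fun j _ => Nat.zero_le (P j)) (Finset.mem_univ l)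
        by_cases hlast' : P top = q
        · have h0n : (0 : Fin (n + 1)) ≠ Fin.last n := fun e => by
            have := congrArg Fin.val e; simp only [Fin.val_zero, Fin.val_last] at this; omega
          have hval : ∀ i : Fin (n + 1), i ≠ 0 → i ≠ Fin.last n →
              (Pi.single 0 1 + Pi.single (Fin.last n) (q - 1) : Fin (n + 1) → ℕ) i = 0 := fun i h h' => by
            rw [Pi.add_apply, Pi.single_eq_of_ne h, Pi.single_eq_of_ne h', add_zero]
          have hv0 : (Pi.single 0 1 + Pi.single (Fin.last n) (q - 1) : Fin (n + 1) → ℕ) 0 = 1 := by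
            rw [Pi.add_apply, Pi.single_eq_same, Pi.single_eq_of_ne h0n, add_zero]
          have hvn : (Pi.single 0 1 + Pi.single (Fin.last n) (q - 1) : Fin (n + 1) → ℕ) (Fin.last n) = q - 1 := by
            rw [Pi.add_apply, Pi.single_eq_same, Pi.single_eq_of_ne h0n.symm, zero_add]
          have h1 : (1 : Fin (n + 1)) ≠ 0 ∧ (1 : Fin (n + 1)) ≠ Fin.last n :=
            ⟨fun e => by have := congrArg Fin.val e; rw [h10, Fin.val_zero] at this; omega,
             fun e => by have := congrArg Fin.val e; rw [h10, Fin.val_last] at this; omega⟩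
          let m : powTargets n q := ⟨Pi.single 0 1 + Pi.single (Fin.last n) (q - 1), by
              simp [Finset.sum_add_distrib]; omega, fun h => by
              rcases h with h | ⟨-, i, h2, h3, h4⟩ | h <;> dsimp only at *
              · rw [hv0] at h; omega
              · rw [hval i (fun e => by rw [e] at h2; simp at h2) (fun e => by rw [e] at h3; simp at h3)] at h4; omega
              · rw [hval 1 h1.1 h1.2] at h; omega, by rw [hvn]; omega⟩
          refine ⟨some m, Subtype.ext (funext fun l => ?_)⟩
          show (f m).1 l = P l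
          rw [hf1 m (show (Pi.single 0 1 + Pi.single (Fin.last n) (q - 1) : Fin (n + 1) → ℕ) 0 ≠ 0 by rw [hv0]; omega)]
          exact hsing top hlast' l
        · let m : powTargets n q := ⟨Fin.cons 0 P, by rw [Fin.sum_univ_succ]; simpa using hP, fun h => by
              rcases h with h | ⟨h, -⟩ | h <;> dsimp only at h
              · rw [Fin.cons_zero] at h; omega
              · rw [Fin.cons_zero] at h; omega
              · rw [← hone, Fin.cons_succ] at h
                have := hlt one
                omega, by rw [← hlast, Fin.cons_succ]; exact hlast'⟩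
          refine ⟨some m, Subtype.ext (funext fun l => ?_)⟩
          show (f m).1 l = P l
          rw [hf0 m (show (Fin.cons 0 P : Fin (n + 1) → ℕ) 0 = 0 from Fin.cons_zero _ _) l]
          show (Fin.cons 0 P : Fin (n + 1) → ℕ) l.succ = P l
          exact Fin.cons_succ _ _ _
  have hc := Nat.card_congr (Equiv.ofBijective F hF)
  rw [Finite.card_option] at hc
  rw [hc, ← Nat.card_congr (Sym.equivNatSumOfFintype (Fin n) q), Nat.card_eq_fintype_card, Sym.card_sym_eq_choose,
    Fintype.card_fin]
  exact (Nat.choose_symm_of_eq_add (by omega)).symm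

theorem finrank_pow (hn : 3 ≤ n) (hq : 2 ≤ q) (hq3 : n = 3 → 4 ≤ q) :
    Module.finrank k ↥(⨆ α : {α : Fin (n + 1) → ℤ // ∑ l, α l = 0}, tPiece (powIdeal k n q) α.1) =
      2 * n - 1 + Nat.choose (n + q - 1) (n - 1) := by
  classical
  have hn2 : 2 ≤ n := by omega
  have h10 : (1 : Fin (n + 1)).val = 1 := by rw [Fin.val_one', Nat.mod_eq_of_lt]; omega
  let two : Fin (n + 1) := ⟨2, by omega⟩
  haveI : Finite (powTargets n q) := by
    refine Finite.of_injective (fun m : powTargets n q => (Sym.equivNatSumOfFintype (Fin (n + 1)) q).symm ⟨m.1, m.2.1⟩)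
      fun a b h => Subtype.ext (congrArg Subtype.val ((Equiv.injective _) h) :)
  have hmem : ∀ i : Fin (n + 1), i.val < n → genA n i ∈ powGens n q := fun i hi => Or.inl ⟨i, by omega, rfl⟩
  have hA : ∀ i l : Fin (n + 1), (genA n i l : ℤ) = (if l.val = 0 then 1 else 0) + (if l.val = i.val then 1 else 0) := by
    intro i l
    simp only [genA, Finsupp.add_apply, Finsupp.single_apply, Nat.cast_add, Nat.cast_ite, Nat.cast_one, Nat.cast_zero]
    refine congr_arg₂ _ (if_congr ?_ rfl rfl) (if_congr ?_ rfl rfl)
    · exact ⟨fun e => by rw [← e]; rfl, fun e => (Fin.ext e).symm⟩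
    · exact ⟨fun e => by rw [← e], fun e => (Fin.ext e).symm⟩
  have hC : ∀ l : Fin (n + 1), (genC n q l : ℤ) = if l.val = 1 then (q : ℤ) else 0 := by
    intro l
    simp only [genC, Finsupp.single_apply, Nat.cast_ite, Nat.cast_zero]
    exact if_congr ⟨fun e => by rw [← e]; exact h10, fun e => Fin.ext (h10.trans e.symm)⟩ rfl rfl
  have hAA : ∀ i j l : Fin (n + 1), (((genA n i ⊔ genA n j) l : ℕ) : ℤ) =
      (if l.val = 0 then 1 else 0) + (if l.val = i.val ∨ l.val = j.val then 1 else 0) := fun i j l => by
    rw [Finsupp.sup_apply, Nat.cast_max, hA, hA]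
    by_cases h1 : l.val = i.val <;> by_cases h2 : l.val = j.val <;> simp [h1, h2] <;> split_ifs <;> first | omega | contradiction | tauto
  have hAC : ∀ i l : Fin (n + 1), (((genA n i ⊔ genC n q) l : ℕ) : ℤ) =
      if l.val = 1 then (q : ℤ) else (if l.val = 0 then 1 else 0) + (if l.val = i.val then 1 else 0) := fun i l => by
    rw [Finsupp.sup_apply, Nat.cast_max, hA, hC]
    by_cases h1 : l.val = 1
    · simp only [h1, if_true]; split_ifs <;> first | omega | contradiction | tauto
    · simp only [h1, if_false]; split_ifs <;> first | omega | contradiction | tauto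
  have hCA : ∀ i l : Fin (n + 1), (((genC n q ⊔ genA n i) l : ℕ) : ℤ) =
      if l.val = 1 then (q : ℤ) else (if l.val = 0 then 1 else 0) + (if l.val = i.val then 1 else 0) := fun i l => by
    rw [sup_comm, hAC]
  have hd1 : ∀ (i : {i : Fin (n + 1) // i.val < n}) (l : Fin (n + 1)), powDeg (q := q) (Sum.inl i) l =
      (if l.val = n then 1 else 0) - if l.val = i.1.val then 1 else 0 := fun i l => by
    simp only [powDeg, Sum.elim_inl]
    exact congr_arg₂ _ (if_congr Fin.ext_iff rfl rfl) (if_congr Fin.ext_iff rfl rfl)
  have hd2 : ∀ (v : {v : Fin (n + 1) // 0 < v.val}) (l : Fin (n + 1)), powDeg (q := q) (Sum.inr (Sum.inl v)) l =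
      (if l.val = v.1.val then 1 else 0) - if l.val = 0 then 1 else 0 := fun v l => by
    simp only [powDeg, Sum.elim_inl, Sum.elim_inr]
    exact congr_arg₂ _ (if_congr Fin.ext_iff rfl rfl) (if_congr Fin.ext_iff rfl rfl)
  have hd3 : ∀ (m : powTargets n q) (l : Fin (n + 1)), powDeg (q := q) (Sum.inr (Sum.inr m)) l =
      (m.1 l : ℤ) - if l.val = 1 then (q : ℤ) else 0 := fun m l => by
    simp [powDeg, hC]
  have hgood1 : ∀ i : {i : Fin (n + 1) // i.val < n}, Good (powIdeal k n q) (ev (genA n i.1) + powDeg (q := q) (Sum.inl i)) := by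
    intro i
    refine (good_pow hn2).mpr ⟨fun l => ?_, fun h => ?_⟩
    · simp only [ev, Pi.add_apply, or_true, true_or, if_true, if_false, ↓reduceIte, hA, hd1]; have := i.2; split_ifs <;> first | omega | contradiction | tauto
    · have := i.2
      rcases h with h | ⟨-, j, h1, h2, h3⟩ | h
      · simp only [ev, Pi.add_apply, or_true, true_or, if_true, if_false, ↓reduceIte, hA, hd1, Fin.val_zero] at h; split_ifs at h <;> first | omega | contradiction | tauto
      · simp only [ev, Pi.add_apply, or_true, true_or, if_true, if_false, ↓reduceIte, hA, hd1] at h3; split_ifs at h3 <;> first | omega | contradiction | tauto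
      · simp only [ev, Pi.add_apply, or_true, true_or, if_true, if_false, ↓reduceIte, hA, hd1, h10] at h; split_ifs at h <;> first | omega | contradiction | tauto
  have hgood2 : ∀ (v : {v : Fin (n + 1) // 0 < v.val}) (i : Fin (n + 1)), 0 < i.val → i.val < n →
      ((v.1.val = 1 ∧ i.val = 1) → 2 < q) → Good (powIdeal k n q) (ev (genA n i) + powDeg (q := q) (Sum.inr (Sum.inl v))) := by
    intro v i hi hi' hvi
    have := v.2
    refine (good_pow hn2).mpr ⟨fun l => ?_, fun h => ?_⟩
    · simp only [ev, Pi.add_apply, or_true, true_or, if_true, if_false, ↓reduceIte, hA, hd2]; split_ifs <;> first | omega | contradiction | tauto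
    · rcases h with h | ⟨h, -⟩ | h
      · simp only [ev, Pi.add_apply, or_true, true_or, if_true, if_false, ↓reduceIte, hA, hd2, Fin.val_zero] at h; split_ifs at h <;> first | omega | contradiction | tauto
      · simp only [ev, Pi.add_apply, or_true, true_or, if_true, if_false, ↓reduceIte, hA, hd2, Fin.val_zero] at h; split_ifs at h <;> first | omega | contradiction | tauto
      · simp only [ev, Pi.add_apply, or_true, true_or, if_true, if_false, ↓reduceIte, hA, hd2, h10] at h; split_ifs at h <;> first | omega | contradiction | tauto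
  have hdiff : ∀ i, genA n i ≠ genC n q := fun i h => by
    have h0 := congrArg (fun f : Fin (n + 1) →₀ ℕ => (f 0 : ℤ)) h
    simp only [hA, hC, Fin.val_zero] at h0
    simp at h0
    omega
  have hAinj : ∀ i j, genA n i = genA n j → i = j := fun i j h => by
    have h0 := congrArg (fun f : Fin (n + 1) →₀ ℕ => (f i : ℤ)) h
    simp only [hA] at h0
    apply Fin.ext
    split_ifs at h0 <;> first | omega | contradiction | tauto
  refine (finrank_of_table (isMonomial_span _) (fun α => ∑ l, α l = 0) (B := powGens n q)
    (fun b hb => (exps_span _).mpr ⟨b, hb, le_rfl⟩) (fun β hβ => (exps_span _).mp hβ)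
    (powDeg (n := n) (q := q)) (powRep two) (powClass (powIdeal k n q)) ?_ ?_ ?_ ?_ ?_ ?_ ?_ ?_).trans ?_
  · -- degree zero
    rintro (i | v | m)
    · simp [powDeg, Finset.sum_sub_distrib]
    · simp [powDeg, Finset.sum_sub_distrib]
    · have := congrArg (Nat.cast : ℕ → ℤ) m.2.1
      push_cast at this
      simp [powDeg, genC, Finset.sum_sub_distrib, this, Finsupp.single_apply]
  · -- representatives
    rintro (i | v | m)
    · rfl
    · exact ⟨two, by simp [two], by simp [two]; omega, rfl, hgood2 v two (by simp [two]) (by simp [two]; omega) (by simp [two])⟩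
    · rfl
  · rintro (i | v | m) b hb
    · rw [show b = genA n i.1 from hb]; exact hmem _ i.2
    · obtain ⟨j, -, hj, rfl, -⟩ := hb; exact hmem _ hj
    · rw [show b = genC n q from hb]; exact Or.inr rfl
  · rintro (i | v | m) b hb
    · rw [show b = genA n i.1 from hb]; exact hgood1 i
    · obtain ⟨j, -, -, rfl, h⟩ := hb; exact h
    · rw [show b = genC n q from hb]
      have e : ev (genC n q) + powDeg (Sum.inr (Sum.inr m)) = fun l => (m.1 l : ℤ) := by
        funext l; simp [ev, powDeg]
      rw [e]
      exact (good_pow hn2).mpr ⟨fun l => Int.natCast_nonneg _, m.2.2.1⟩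
  · -- closedness
    rintro (i | v | m) b hb b' hb' hrel <;> rw [rel_pow hn2] at hrel
    · rw [show b = genA n i.1 from hb] at hrel
      show b' = genA n i.1
      by_contra hne
      have := i.2
      rcases hb' with ⟨j, hj, rfl⟩ | rfl
      · have hji : j.val ≠ i.1.val := fun e => hne (congrArg _ (Fin.ext e))
        refine hrel (fun l => ?_) ?_
        · simp only [ev, Pi.add_apply, or_true, true_or, if_true, if_false, ↓reduceIte, hAA, hAC, hCA, hA, hd1]; split_ifs <;> first | omega | contradiction | tauto
        · by_cases hj0 : j.val = 0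
          · refine Or.inl ?_
            simp only [ev, Pi.add_apply, or_true, true_or, if_true, if_false, ↓reduceIte, hAA, hAC, hCA, hA, hd1, Fin.val_zero]; split_ifs <;> first | omega | contradiction | tauto
          · refine Or.inr (Or.inl ⟨?_, j, by omega, by omega, ?_⟩) <;>
              simp only [ev, Pi.add_apply, or_true, true_or, if_true, if_false, ↓reduceIte, hAA, hAC, hCA, hA, hd1, Fin.val_zero] <;> split_ifs <;> first | omega | contradiction | tauto
      · refine hrel (fun l => ?_) ?_
        · simp only [ev, Pi.add_apply, or_true, true_or, if_true, if_false, ↓reduceIte, hAA, hAC, hCA, hA, hC, hd1]; split_ifs <;> first | omega | contradiction | tauto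
        · refine Or.inr (Or.inl ⟨?_, 1, by omega, by omega, ?_⟩) <;>
            simp only [ev, Pi.add_apply, or_true, true_or, if_true, if_false, ↓reduceIte, hAA, hAC, hCA, hA, hC, hd1, Fin.val_zero, h10] <;> split_ifs <;> first | omega | contradiction | tauto
    · obtain ⟨i, hi, hi', rfl, hgi⟩ := hb
      have := v.2
      rcases hb' with ⟨j, hj, rfl⟩ | rfl
      · by_cases hj0 : j.val = 0
        · refine absurd ?_ (hrel fun l => ?_)
          · refine Or.inr (Or.inl ⟨?_, i, hi, hi', ?_⟩) <;>
              simp only [ev, Pi.add_apply, or_true, true_or, if_true, if_false, ↓reduceIte, hAA, hAC, hCA, hA, hd2, Fin.val_zero] <;> split_ifs <;> first | omega | contradiction | tauto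
          · simp only [ev, Pi.add_apply, or_true, true_or, if_true, if_false, ↓reduceIte, hAA, hAC, hCA, hA, hd2]; split_ifs <;> first | omega | contradiction | tauto
        · refine ⟨j, by omega, by omega, rfl, hgood2 v j (by omega) (by omega) fun ⟨h1, h2⟩ => ?_⟩
          by_contra hq2
          refine hrel (fun l => ?_) (Or.inr (Or.inr ?_))
          · simp only [ev, Pi.add_apply, or_true, true_or, if_true, if_false, ↓reduceIte, hAA, hAC, hCA, hA, hd2]; split_ifs <;> first | omega | contradiction | tauto
          · simp only [ev, Pi.add_apply, or_true, true_or, if_true, if_false, ↓reduceIte, hAA, hAC, hCA, hA, hd2, h10]; split_ifs <;> first | omega | contradiction | tauto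
      · refine absurd ?_ (hrel fun l => ?_)
        · refine Or.inr (Or.inr ?_)
          simp only [ev, Pi.add_apply, or_true, true_or, if_true, if_false, ↓reduceIte, hAA, hAC, hCA, hA, hC, hd2, h10]; split_ifs <;> first | omega | contradiction | tauto
        · simp only [ev, Pi.add_apply, or_true, true_or, if_true, if_false, ↓reduceIte, hAA, hAC, hCA, hA, hC, hd2]; split_ifs <;> first | omega | contradiction | tauto
    · rw [show b = genC n q from hb] at hrel
      rcases hb' with ⟨j, hj, rfl⟩ | rfl
      · exfalso
        refine hrel (fun l => ?_) ?_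
        · simp only [ev, Pi.add_apply, or_true, true_or, if_true, if_false, ↓reduceIte, hAA, hAC, hCA, hA, hC, hd3]; split_ifs <;> first | omega | contradiction | tauto
        · by_cases hj0 : j.val = 0
          · refine Or.inl ?_
            simp only [ev, Pi.add_apply, or_true, true_or, if_true, if_false, ↓reduceIte, hAA, hAC, hCA, hA, hC, hd3, Fin.val_zero]; split_ifs <;> first | omega | contradiction | tauto
          · by_cases hj1 : j.val = 1
            · by_cases hm : m.1 0 = 0
              · obtain ⟨l, hl, hl'⟩ : ∃ l, m.1 l ≠ 0 ∧ l ≠ Fin.last n := by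
                  by_contra hc
                  push Not at hc
                  refine m.2.2.2 ?_
                  rw [← Finset.sum_eq_single (Fin.last n) (s := Finset.univ) (f := m.1)
                    (fun x _ hx => by_contra fun h => hx (hc x h)) (by simp)]
                  exact m.2.1
                have hl0 : 0 < l.val := Nat.pos_of_ne_zero fun e => hl (by rw [show l = 0 from Fin.ext e]; exact hm)
                have hln : l.val < n := lt_of_le_of_ne (Nat.lt_succ_iff.mp l.isLt) fun e => hl' (Fin.ext e)
                refine Or.inr (Or.inl ⟨?_, l, hl0, hln, ?_⟩) <;>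
                  simp only [ev, Pi.add_apply, or_true, true_or, if_true, if_false, ↓reduceIte, hAA, hAC, hCA, hA, hC, hd3, Fin.val_zero] <;> split_ifs <;> first | omega | contradiction | tauto
              · refine Or.inl ?_
                simp only [ev, Pi.add_apply, or_true, true_or, if_true, if_false, ↓reduceIte, hAA, hAC, hCA, hA, hC, hd3, Fin.val_zero]; split_ifs <;> first | omega | contradiction | tauto
            · refine Or.inr (Or.inl ⟨?_, j, by omega, by omega, ?_⟩) <;>
                simp only [ev, Pi.add_apply, or_true, true_or, if_true, if_false, ↓reduceIte, hAA, hAC, hCA, hA, hC, hd3, Fin.val_zero] <;> split_ifs <;> first | omega | contradiction | tauto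
      · rfl
  · -- connectedness
    rintro (i | v | m) b hb <;> rw [rel_pow hn2]
    · rw [show b = genA n i.1 from hb]
      simp only [powRep, Sum.elim_inl, sup_idem]
      exact fun _ => ((good_pow hn2).mp (hgood1 i)).2
    · obtain ⟨i, hi, hi', rfl, hgi⟩ := hb
      have := v.2
      have hvi := ((good_pow hn2).mp hgi).2
      simp only [powRep, Sum.elim_inr, Sum.elim_inl]
      intro _ h
      have htwo : two.val = 2 := rfl
      have hne : ¬ (v.1.val = 1 ∧ i.val = 1 ∧ q ≤ 2) := fun ⟨h1, h2, h3⟩ => hvi (Or.inr (Or.inr (by
        simp only [ev, Pi.add_apply, or_true, true_or, if_true, if_false, ↓reduceIte, hA, hd2, h10]; split_ifs <;> first | omega | contradiction | tauto)))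
      rcases h with h | ⟨h, -⟩ | h
      · simp only [ev, Pi.add_apply, or_true, true_or, if_true, if_false, ↓reduceIte, hAA, hAC, hCA, hA, hd2, Fin.val_zero, htwo] at h; split_ifs at h <;> first | omega | contradiction | tauto
      · simp only [ev, Pi.add_apply, or_true, true_or, if_true, if_false, ↓reduceIte, hAA, hAC, hCA, hA, hd2, Fin.val_zero, htwo] at h; split_ifs at h <;> first | omega | contradiction | tauto
      · simp only [ev, Pi.add_apply, or_true, true_or, if_true, if_false, ↓reduceIte, hAA, hAC, hCA, hA, hd2, h10, htwo] at h; split_ifs at h <;> first | omega | contradiction | tauto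
    · rw [show b = genC n q from hb]
      simp only [powRep, Sum.elim_inr, sup_idem]
      intro _
      have e : ev (genC n q) + powDeg (Sum.inr (Sum.inr m)) = fun l => (m.1 l : ℤ) := by
        funext l; simp [ev, powDeg]
      rw [e]
      exact m.2.2.1
  · -- separation
    rintro (i | v | m) (i' | v' | m') he hrep
    · have := hAinj _ _ hrep; rw [Subtype.ext this]
    · exfalso
      have := hAinj _ _ hrep
      have h2 : i.1.val = 2 := by rw [← this]
      have h0 := congrFun he 0
      have := v'.2; have := i.2
      simp only [hd1, hd2, Fin.val_zero, if_true, ↓reduceIte] at h0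
      split_ifs at h0 <;> first | omega | contradiction | tauto
    · exact absurd hrep (fun h => hdiff _ h.symm)
    · exfalso
      obtain ⟨j, hj, hj', e, -⟩ := hrep
      have := congrArg Fin.val (hAinj _ _ e)
      have h0 := congrFun he 0
      have := v.2
      simp only [hd1, hd2, Fin.val_zero, if_true, ↓reduceIte] at h0
      split_ifs at h0 <;> first | omega | contradiction | tauto
    · have := v.2; have := v'.2
      have h0 := congrFun he v.1
      simp only [hd2, if_true, ↓reduceIte] at h0
      have : v.1 = v'.1 := Fin.ext (by split_ifs at h0 <;> first | omega | contradiction | tauto)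
      rw [Subtype.ext this]
    · obtain ⟨j, -, -, e, -⟩ := hrep
      exact absurd e.symm (hdiff _)
    · exact absurd hrep (hdiff _)
    · exact absurd hrep (hdiff _)
    · have : m = m' := Subtype.ext (funext fun l => by
        have := congrFun he l
        simp only [hd3] at this
        omega)
      rw [this]
  · -- exhaustion
    intro α hs b hb hg
    have hg' := (good_pow hn2).mp hg
    have hin := hg'.2
    simp only [inPow, not_or, not_and, not_exists, not_le] at hin
    obtain ⟨hin0, hinA, hinC⟩ := hin
    rcases hb with ⟨i, hi, rfl⟩ | rfl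
    · have hsum : ∑ l, (ev (genA n i) + α) l = 2 := by
        rw [Finset.sum_congr rfl fun l _ => (Pi.add_apply (ev (genA n i)) α l), Finset.sum_add_distrib, hs]
        simp [ev, genA, Finset.sum_add_distrib, Finsupp.single_apply]
      generalize hm : ev (genA n i) + α = m at *
      have hα : ∀ l, α l = m l - (genA n i l : ℤ) := fun l => by rw [← hm]; simp [ev]
      by_cases h0 : 1 ≤ m 0
      · left
        refine ⟨Sum.inl ⟨i, by omega⟩, funext fun l => ?_, rfl⟩
        have hm0 : m 0 = 1 := by omega
        have hrest : ∀ l : Fin (n + 1), 0 < l.val → l.val < n → m l = 0 := fun l h1 h2 => by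
          have := hinA h0 l h1 h2; have := hg'.1 l; omega
        have hlast : m (Fin.last n) = 1 := by
          rw [← Finset.add_sum_erase _ _ (Finset.mem_univ (0 : Fin (n + 1))),
            Finset.sum_eq_single (Fin.last n) (fun x hx hx' => hrest x
              (Nat.pos_of_ne_zero fun e => (Finset.mem_erase.mp hx).1 (Fin.ext e))
              (lt_of_le_of_ne (Nat.lt_succ_iff.mp x.isLt) fun e => hx' (Fin.ext e)))
              (fun h => absurd (Finset.mem_erase.mpr ⟨fun e => by have := congrArg Fin.val e; simp at this; omega, Finset.mem_univ _⟩) h)] at hsum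
          omega
        rw [hα, hd1, hA]
        dsimp only
        by_cases hl0 : l.val = 0
        · rw [show l = 0 from Fin.ext hl0, hm0]; simp only [Fin.val_zero]; split_ifs <;> first | omega | contradiction | tauto
        · by_cases hln : l.val = n
          · rw [show l = Fin.last n from Fin.ext hln, hlast]; simp only [Fin.val_last]; split_ifs <;> first | omega | contradiction | tauto
          · rw [hrest l (by omega) (by omega)]; split_ifs <;> first | omega | contradiction | tauto
      · have hm0 : m 0 = 0 := by have := hg'.1 0; omega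
        by_cases hmi : 0 < i.val ∧ 1 ≤ m i
        · left
          have hrest : ∑ l ∈ Finset.univ.erase i, m l = 2 - m i := by
            rw [← hsum, ← Finset.add_sum_erase _ _ (Finset.mem_univ i)]; ring
          obtain ⟨v, hv0, hv⟩ : ∃ v : Fin (n + 1), 0 < v.val ∧ ∀ l, m l = (if l.val = i.val then 1 else 0) + (if l.val = v.val then 1 else 0) := by
            have hnn : ∀ l ∈ Finset.univ.erase i, 0 ≤ m l := fun l _ => hg'.1 l
            have := Finset.sum_nonneg hnn
            by_cases h2 : m i = 2
            · refine ⟨i, hmi.1, fun l => ?_⟩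
              by_cases hl : l.val = i.val
              · rw [show l = i from Fin.ext hl, h2]; simp
              · have := Finset.single_le_sum hnn (Finset.mem_erase.mpr ⟨fun e => hl (congrArg Fin.val e), Finset.mem_univ l⟩)
                have := hg'.1 l
                simp only [hl, if_false]; omega
            · obtain ⟨v, hv, hv0⟩ := Finset.exists_ne_zero_of_sum_ne_zero (s := Finset.univ.erase i) (f := m) (by omega)
              have hvnn := hg'.1 v
              have hvle := Finset.single_le_sum hnn hv
              refine ⟨v, Nat.pos_of_ne_zero fun e => hv0 (by rw [show v = 0 from Fin.ext e]; exact hm0), fun l => ?_⟩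
              by_cases hl : l.val = i.val
              · rw [show l = i from Fin.ext hl, if_pos rfl, if_neg fun e => (Finset.mem_erase.mp hv).1 (Fin.ext e.symm)]
                omega
              · by_cases hlv : l.val = v.val
                · rw [show l = v from Fin.ext hlv]
                  simp only [if_true]
                  rw [if_neg fun e => (Finset.mem_erase.mp hv).1 (Fin.ext e)]
                  omega
                · have hl2 : l ∈ (Finset.univ.erase i).erase v := Finset.mem_erase.mpr
                    ⟨fun e => hlv (congrArg Fin.val e), Finset.mem_erase.mpr ⟨fun e => hl (congrArg Fin.val e), Finset.mem_univ l⟩⟩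
                  rw [← Finset.add_sum_erase _ _ hv] at hrest
                  have := Finset.single_le_sum (fun x _ => hg'.1 x) hl2
                  have := hg'.1 l
                  simp only [hl, hlv, if_false]
                  omega
          have e : powDeg (q := q) (Sum.inr (Sum.inl ⟨v, hv0⟩)) = α := funext fun l => by
            rw [hα, hd2, hA, hv l]; ring
          exact ⟨_, e, i, hmi.1, by omega, rfl, by rw [e, hm]; exact hg⟩
        · right
          obtain ⟨j, hj0, hjn, hji, hj1⟩ : ∃ j : Fin (n + 1), 0 < j.val ∧ j.val < n ∧ j.val ≠ i.val ∧ (j.val = 1 → n = 3) := by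
            by_cases hi2 : i.val = 2
            · by_cases hn3 : n = 3
              · exact ⟨⟨1, by omega⟩, by simp, by simp; omega, by simp; omega, fun _ => hn3⟩
              · exact ⟨⟨3, by omega⟩, by simp, by simp; omega, by simp; omega, by simp⟩
            · exact ⟨⟨2, by omega⟩, by simp, by simp; omega, by simp; omega, by simp⟩
          have hm2 : ∀ l, m l ≤ 2 := fun l => hsum ▸ Finset.single_le_sum (fun x _ => hg'.1 x) (Finset.mem_univ l)
          refine ⟨genA n j, hmem j hjn, (rel_pow hn2).mpr fun _ h => ?_, i, ?_⟩
          · have hup : ∀ l, (ev (genA n i ⊔ genA n j) + α : Fin (n + 1) → ℤ) l =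
                m l + (if l.val = j.val then 1 else 0) := fun l => by
              simp only [ev, Pi.add_apply, or_true, true_or, if_true, if_false, ↓reduceIte, hAA, hAC, hCA, hA, hα]
              split_ifs <;> first | omega | contradiction | tauto
            rcases h with h | ⟨h, -⟩ | h
            · rw [hup, hm0, Fin.val_zero, if_neg (by omega)] at h; omega
            · rw [hup, hm0, Fin.val_zero, if_neg (by omega)] at h; omega
            · rw [hup] at h
              by_cases hj : j.val = 1
              · have := hq3 (hj1 hj); have := hm2 1; simp only [h10, hj, if_true] at h; omega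
              · rw [h10, if_neg (Ne.symm hj)] at h; omega
          · have hmi' : i.val = 0 ∨ m i ≤ 0 := by
              by_cases h : 0 < i.val
              · exact Or.inr (by have := fun h' => hmi ⟨h, h'⟩; omega)
              · exact Or.inl (by omega)
            simp only [ev, Pi.add_apply, or_true, true_or, if_true, if_false, ↓reduceIte, hA, hα]
            rcases hmi' with h | h
            · rw [show i = 0 from Fin.ext h, hm0]; simp only [Fin.val_zero]; split_ifs <;> first | omega | contradiction | tauto
            · have := hg'.1 i; split_ifs <;> first | omega | contradiction | tauto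
    · have hsum : ∑ l, (ev (genC n q) + α) l = q := by
        rw [Finset.sum_congr rfl fun l _ => (Pi.add_apply (ev (genC n q)) α l), Finset.sum_add_distrib, hs]
        simp [ev, genC, Finsupp.single_apply]
      generalize hm : ev (genC n q) + α = m at *
      have hα : ∀ l, α l = m l - (genC n q l : ℤ) := fun l => by rw [← hm]; simp [ev]
      by_cases hlast : m (Fin.last n) = q
      · right
        have hzero : ∀ l, l ≠ Fin.last n → m l = 0 := fun l hl => by
          rw [← Finset.add_sum_erase _ _ (Finset.mem_univ (Fin.last n)), hlast] at hsum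
          have := Finset.single_le_sum (fun x _ => hg'.1 x) (Finset.mem_erase.mpr ⟨hl, Finset.mem_univ l⟩)
          have := hg'.1 l
          omega
        have hne : ∀ l : Fin (n + 1), l.val < n → l ≠ Fin.last n := fun l h e => by
          have := congrArg Fin.val e; simp at this; omega
        refine ⟨genA n 1, hmem 1 (by omega), (rel_pow hn2).mpr fun _ h => ?_, 1, ?_⟩
        · rcases h with h | ⟨-, j, h1, h2, h3⟩ | h
          · simp only [ev, Pi.add_apply, or_true, true_or, if_true, if_false, ↓reduceIte, hAA, hAC, hCA, hA, hC, hα, Fin.val_zero, h10, hzero 0 (hne 0 (by simp; omega))] at h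
            split_ifs at h <;> first | omega | contradiction | tauto
          · simp only [ev, Pi.add_apply, or_true, true_or, if_true, if_false, ↓reduceIte, hAA, hAC, hCA, hA, hC, hα, h10, hzero j (hne j h2)] at h3
            split_ifs at h3 <;> first | omega | contradiction | tauto
          · simp only [ev, Pi.add_apply, or_true, true_or, if_true, if_false, ↓reduceIte, hAA, hAC, hCA, hA, hC, hα, h10, hzero 1 (hne 1 (by omega))] at h
            omega
        · simp only [ev, Pi.add_apply, or_true, true_or, if_true, if_false, ↓reduceIte, hA, hC, hα, h10, hzero 1 (hne 1 (by omega))]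
          split_ifs <;> first | omega | contradiction | tauto
      · left
        have hcast : ∀ l, ((m l).toNat : ℤ) = m l := fun l => Int.toNat_of_nonneg (hg'.1 l)
        refine ⟨Sum.inr (Sum.inr ⟨fun l => (m l).toNat, ?_, ?_, ?_⟩), funext fun l => ?_, rfl⟩
        · have h : ((∑ l, (m l).toNat : ℕ) : ℤ) = (q : ℤ) := by push_cast; simp only [hcast]; exact hsum
          exact_mod_cast h
        · simp only [hcast]
          exact hg'.2
        · dsimp only; have := hg'.1 (Fin.last n); omega
        · rw [hd3, hα, hC]; simp only [hcast]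
  · rw [Nat.card_sum, Nat.card_sum]
    have h1 : Nat.card {i : Fin (n + 1) // i.val < n} = n := by
      rw [Nat.card_congr (Equiv.ofBijective (fun i : {i : Fin (n + 1) // i.val < n} => (⟨i.1.val, i.2⟩ : Fin n))
        ⟨fun a b h => Subtype.ext (Fin.ext (congrArg Fin.val h :)), fun b => ⟨⟨b.castSucc, b.isLt⟩, rfl⟩⟩), Nat.card_fin]
    have h2 : Nat.card {v : Fin (n + 1) // 0 < v.val} = n := by
      rw [Nat.card_congr (Equiv.ofBijective (fun v : {v : Fin (n + 1) // 0 < v.val} => (⟨v.1.val - 1, by omega⟩ : Fin n))
        ⟨fun a b h => Subtype.ext (Fin.ext (by have := congrArg Fin.val h; have := a.2; have := b.2; simp at *; omega)),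
          fun b => ⟨⟨b.succ, by simp⟩, Fin.ext (by simp)⟩⟩), Nat.card_fin]
    rw [h1, h2]
    have := card_powTargets (n := n) (q := q) hn hq
    omega

end Groth.Agent.HilbPnLib
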