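import Groth.Agent.HilbPnLib.Piece
import Mathlib.LinearAlgebra.FiniteDimensional.Lemmas
import Mathlib.Data.ENat.Lattice

/-!
# `Hom(I, S/I)` is the direct sum of its graded pieces
-/

set_option autoImplicit false

open MvPolynomial W4c1hilbpn

universe u v

noncomputable section

namespace Groth.Agent.HilbPnLib

variable {σ : Type v} [Fintype σ] {k : Type u} [Field k] {I : Ideal (MvPolynomial σ k)}

local notation "S" => MvPolynomial σ k

variable (hI : IsMonomial I)

include hI

theorem qc_monomial_smul {δ ε : σ →₀ ℕ} (hδ : δ ∉ exps I) (q : MvPolynomial σ k ⧸ I) :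
    qc hI δ (monomial ε (1 : k) • q) = if ε ≤ δ then qc hI (δ - ε) q else 0 := by
  classical
  obtain ⟨p, rfl⟩ := Ideal.Quotient.mk_surjective q
  have e : monomial ε (1 : k) • Ideal.Quotient.mk I p = Ideal.Quotient.mk I (monomial ε 1 * p) := rfl
  rw [e, qc_mk, if_neg hδ, coeff_monomial_mul']
  split_ifs with h
  · rw [one_mul, qc_mk, if_neg]
    exact fun h' => hδ (exps_up h' tsub_le_self)
  · rfl

/-- the coordinates of a homomorphism on monomials determine it -/
theorem tgt_ext {φ ψ : Tgt I} (h : ∀ (β : σ →₀ ℕ) (hβ : β ∈ exps I), ∀ δ, δ ∉ exps I →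
    qc hI δ (φ ⟨monomial β 1, hβ⟩) = qc hI δ (ψ ⟨monomial β 1, hβ⟩)) : φ = ψ := by
  classical
  refine LinearMap.ext fun x => ?_
  obtain ⟨x, hx⟩ := x
  have hsum : (⟨x, hx⟩ : I) =
      ∑ β ∈ x.support.attach, (C (coeff β.1 x) : S) • (⟨monomial β.1 1, hI x hx β.1 β.2⟩ : I) := by
    refine Subtype.ext ?_
    rw [Submodule.coe_sum]
    simp only [Submodule.coe_smul, smul_eq_mul, C_mul_monomial, mul_one]
    rw [Finset.sum_attach x.support (fun β => monomial β (coeff β x))]
    exact x.as_sum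
  rw [hsum, map_sum, map_sum]
  refine Finset.sum_congr rfl fun β _ => ?_
  rw [map_smul, map_smul]
  congr 1
  exact ext_qc hI (h β.1 (hI x hx β.1 β.2))

theorem qc_piece {α : σ → ℤ} (φ : tPiece I α) {β : σ →₀ ℕ} (hβ : β ∈ exps I) {δ : σ →₀ ℕ}
    (hδ : δ ∉ exps I) (h : ev δ ≠ ev β + α) : qc hI δ ((φ : Tgt I) ⟨monomial β 1, hβ⟩) = 0 := by
  by_cases hg : Good I (ev β + α)
  · rw [apply_monomial hI φ hβ hg, map_smul, qc_qmon hI hδ, if_neg, smul_zero]
    intro e
    apply h
    rw [← e, shift_eq, ev_unev hg.1]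
  · rw [apply_monomial_eq_zero φ hβ hg, map_zero]

theorem iSupIndep_tPiece : iSupIndep fun α : σ → ℤ => tPiece I α := by
  refine iSupIndep_def.mpr fun α => Submodule.disjoint_def.mpr fun φ hφ hsup => ?_
  refine tgt_ext hI fun β hβ δ hδ => ?_
  rw [LinearMap.zero_apply, map_zero]
  by_cases h : ev δ = ev β + α
  · let L : Tgt I →ₗ[k] k :=
      { toFun := fun ψ => qc hI δ (ψ ⟨monomial β 1, hβ⟩)
        map_add' := fun ψ ψ' => by simp
        map_smul' := fun c ψ => by simp }
    have hle : (⨆ α' ≠ α, tPiece I α') ≤ LinearMap.ker L := iSup₂_le fun α' hne ψ hψ =>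
      LinearMap.mem_ker.mpr (qc_piece hI ⟨ψ, hψ⟩ hβ hδ fun e => hne (add_left_cancel (e.symm.trans h)))
    exact LinearMap.mem_ker.mp (hle hsup)
  · exact qc_piece hI ⟨φ, hφ⟩ hβ hδ h

omit hI in
/-- the coefficient of a homomorphism at a point of the region -/
def rawVal (hI : IsMonomial I) (φ : Tgt I) (α : σ → ℤ) (γ : region I α) : k :=
  let β : σ →₀ ℕ := (mem_region_iff.mp γ.2).1.choose
  open Classical in
  if Good I γ.1 then qc hI (unev γ.1) (φ ⟨monomial β 1, (mem_region_iff.mp γ.2).1.choose_spec.1⟩) else 0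

omit hI in
open Classical in
theorem rawVal_eq (hI : IsMonomial I) (φ : Tgt I) {α : σ → ℤ} {β : σ →₀ ℕ} (hβ : β ∈ exps I)
    (h : ev β + α ∈ region I α) :
    rawVal hI φ α ⟨_, h⟩ =
      if Good I (ev β + α) then qc hI (shift β α) (φ ⟨monomial β 1, hβ⟩) else 0 := by
  have hc : (mem_region_iff.mp h).1.choose = β :=
    ev_injective (add_right_cancel (mem_region_iff.mp h).1.choose_spec.2.symm)
  simp only [rawVal, shift_eq]
  split_ifs
  · congr 1
    exact tgt_congr φ _ _ (by rw [hc])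
  · rfl

theorem rawVal_step (φ : Tgt I) {α : σ → ℤ} {γ γ' : region I α} {i : σ}
    (h : (γ' : σ → ℤ) i = (γ : σ → ℤ) i + 1) (hne : ∀ j, j ≠ i → (γ' : σ → ℤ) j = (γ : σ → ℤ) j) :
    rawVal hI φ α γ = rawVal hI φ α γ' := by
  classical
  obtain ⟨γ, hγ⟩ := γ
  obtain ⟨γ', hγ'⟩ := γ'
  obtain ⟨β, hβ, rfl⟩ := (mem_region_iff.mp hγ).1
  have e : γ' = ev (Finsupp.single i 1 + β) + α := funext fun j => by
    rcases eq_or_ne j i with rfl | hj
    · simp [ev] at h ⊢; omega
    · have := hne j hj; simp [ev, hj] at this ⊢; omega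
  subst e
  have hβ' : Finsupp.single i 1 + β ∈ exps I := exps_up hβ le_add_self
  rw [rawVal_eq hI φ hβ, rawVal_eq hI φ hβ']
  by_cases hg' : Good I (ev (Finsupp.single i 1 + β) + α)
  · rw [if_pos hg', apply_step φ hβ, qc_monomial_smul hI (δ := shift (Finsupp.single i 1 + β) α) hg'.2]
    by_cases hg : Good I (ev β + α)
    · have hs : Finsupp.single i 1 + shift β α = shift (Finsupp.single i 1 + β) α := Finsupp.ext fun j => by
        have := hg.1 j
        rcases eq_or_ne j i with rfl | hj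
        · simp [shift_eq, unev_apply, ev] at this ⊢; omega
        · simp [shift_eq, unev_apply, ev, hj] at this ⊢
      rw [if_pos hg, ← hs, if_pos le_self_add, add_tsub_cancel_left]
    · rw [if_neg hg, if_neg]
      intro hle
      apply hg
      refine good_of_mem_region hγ fun j => ?_
      have h1 := hg'.1 j
      have h2 := Finsupp.le_def.mp hle j
      rcases eq_or_ne j i with rfl | hj
      · simp [shift_eq, unev_apply, ev] at h1 h2 ⊢; omega
      · simp [ev, hj] at h1 ⊢; omega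
  · rw [if_neg hg', if_neg]
    intro hg
    refine hg' (good_of_mem_region hγ' fun j => ?_)
    have h1 := hg.1 j
    rcases eq_or_ne j i with rfl | hj <;> simp_all [ev] <;> omega

theorem rawVal_reach (φ : Tgt I) {α : σ → ℤ} {γ γ' : region I α}
    (h : ((stepGraph σ).induce (region I α)).Reachable γ γ') : rawVal hI φ α γ = rawVal hI φ α γ' := by
  obtain ⟨w⟩ := h
  induction w with
  | nil => rfl
  | @cons a b c hadj _ ih =>
    refine Eq.trans ?_ ih
    obtain ⟨i, hne, h | h⟩ := adj_iff.mp (show (stepGraph σ).Adj a.1 b.1 from hadj)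
    · exact rawVal_step hI φ h hne
    · exact (rawVal_step hI φ h fun j hj => (hne j hj).symm).symm

/-- the component of degree `α` -/
def proj (α : σ → ℤ) (φ : Tgt I) : tPiece I α := ofFun hI fun c => rawVal hI φ α c.1.out

theorem qc_proj {α : σ → ℤ} (φ : Tgt I) {β : σ →₀ ℕ} (hβ : β ∈ exps I) {δ : σ →₀ ℕ} (hδ : δ ∉ exps I)
    (h : ev δ = ev β + α) :
    qc hI δ ((proj hI α φ : Tgt I) ⟨monomial β 1, hβ⟩) = qc hI δ (φ ⟨monomial β 1, hβ⟩) := by
  classical
  have hg : Good I (ev β + α) := h ▸ good_ev hδ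
  have hsh : shift β α = δ := by rw [shift_eq, ← h, unev_ev]
  rw [proj, apply_monomial hI _ hβ hg, hsh, map_smul, qc_qmon hI hδ, if_pos rfl, smul_eq_mul, mul_one,
    val_ofFun hI _ hβ hg, coefOf, dif_pos (good_mem_region hβ hg)]
  have hrv : rawVal hI φ α ⟨_, good_mem_region hβ hg⟩ = qc hI δ (φ ⟨monomial β 1, hβ⟩) := by
    rw [rawVal_eq hI φ hβ, if_pos hg, hsh]
  split_ifs with hc
  · rw [← hrv]
    exact rawVal_reach hI φ (SimpleGraph.ConnectedComponent.exact (Quot.out_eq _))
  · rw [← hrv]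
    push Not at hc
    obtain ⟨γ', hγ', i, hi⟩ := hc
    rw [SimpleGraph.ConnectedComponent.mem_supp_iff] at hγ'
    rw [rawVal_reach hI φ (SimpleGraph.ConnectedComponent.exact hγ'.symm), rawVal, if_neg]
    exact fun hg' => absurd (hg'.1 i) (not_le.mpr hi)

theorem exists_component {δ : σ →₀ ℕ} (hδ : δ ∉ exps I) {β b : σ →₀ ℕ} (hb : b ∈ exps I) (hle : b ≤ β)
    (φ : Tgt I) (h : qc hI δ (φ ⟨monomial β 1, exps_up hb hle⟩) ≠ 0) :
    ∃ δ' : σ →₀ ℕ, δ' ∉ exps I ∧ ev δ - ev β = ev δ' - ev b := by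
  obtain ⟨ε, rfl⟩ : ∃ ε, β = ε + b := ⟨β - b, (tsub_add_cancel_of_le hle).symm⟩
  rw [apply_step φ hb, qc_monomial_smul hI hδ] at h
  split_ifs at h with hεδ
  · refine ⟨δ - ε, fun h' => hδ (exps_up h' tsub_le_self), ?_⟩
    funext i
    have := Finsupp.le_def.mp hεδ i
    simp [ev]
    omega
  · exact absurd rfl h

variable [Module.Finite k (MvPolynomial σ k ⧸ I)]

theorem exists_support :
    ∃ A : Finset (σ → ℤ), (⨆ α ∈ A, tPiece I α) = ⊤ ∧ ∀ α, α ∉ A → tPiece I α = ⊥ := by
  classical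
  obtain ⟨B, hB, hBgen⟩ := exists_gens hI
  let A : Finset (σ → ℤ) := ((finite_compl hI).toFinset ×ˢ B).image fun x => ev x.1 - ev x.2
  have hA : ∀ (δ β : σ →₀ ℕ) (_ : δ ∉ exps I) (hβ : β ∈ exps I) (φ : Tgt I),
      qc hI δ (φ ⟨monomial β 1, hβ⟩) ≠ 0 → ev δ - ev β ∈ A := by
    intro δ β hδ hβ φ h
    obtain ⟨b, hb, hbβ⟩ := hBgen β hβ
    obtain ⟨δ', hδ', e⟩ := exists_component hI hδ (hB b hb) hbβ φ h
    exact Finset.mem_image.mpr ⟨(δ', b), Finset.mem_product.mpr ⟨(finite_compl hI).mem_toFinset.mpr hδ', hb⟩, e.symm⟩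
  have htop : ∀ φ : Tgt I, φ = ∑ α ∈ A, (proj hI α φ : Tgt I) := by
    intro φ
    refine tgt_ext hI fun β hβ δ hδ => ?_
    rw [LinearMap.sum_apply, map_sum]
    by_cases h0 : qc hI δ (φ ⟨monomial β 1, hβ⟩) = 0
    · rw [h0, eq_comm]
      refine Finset.sum_eq_zero fun α _ => ?_
      by_cases h : ev δ = ev β + α
      · rw [qc_proj hI φ hβ hδ h, h0]
      · exact qc_piece hI _ hβ hδ h
    · rw [Finset.sum_eq_single (ev δ - ev β)]
      · rw [qc_proj hI φ hβ hδ (add_sub_cancel _ _).symm]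
      · exact fun α _ hne => qc_piece hI _ hβ hδ fun e => hne (by rw [e, add_sub_cancel_left])
      · exact fun h => absurd (hA δ β hδ hβ φ h0) h
  refine ⟨A, eq_top_iff.mpr fun φ _ => ?_, fun α hα => ?_⟩
  · rw [htop φ]
    exact Submodule.sum_mem _ fun α hα => (le_iSup₂ (f := fun α (_ : α ∈ A) => tPiece I α) α hα) (proj hI α φ).2
  · refine (Submodule.eq_bot_iff _).mpr fun φ hφ => tgt_ext hI fun β hβ δ hδ => ?_
    rw [LinearMap.zero_apply, map_zero]
    by_contra h0
    have h : ev δ = ev β + α := by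
      by_contra h
      exact h0 (qc_piece hI ⟨φ, hφ⟩ hβ hδ h)
    exact hα (by have := hA δ β hδ hβ φ h0; rwa [h, add_sub_cancel_left] at this)

omit [Module.Finite k (MvPolynomial σ k ⧸ I)] in
theorem finrank_sup_finset (A : Finset (σ → ℤ)) :
    Module.Finite k ↥(A.sup (tPiece I)) ∧
      Module.finrank k ↥(A.sup (tPiece I)) = ∑ α ∈ A, Module.finrank k (tPiece I α) := by
  classical
  induction A using Finset.induction_on with
  | empty =>
    refine ⟨?_, ?_⟩
    · rw [Finset.sup_empty]; infer_instance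
    · rw [Finset.sup_empty, Finset.sum_empty, finrank_bot]
  | insert α A hα ih =>
    haveI := ih.1
    haveI := finite_tPiece hI α
    have hdis : Disjoint (tPiece I α) (A.sup (tPiece I)) := by
      refine Disjoint.mono_right ?_ (iSupIndep_def.mp (iSupIndep_tPiece hI) α)
      exact Finset.sup_le fun β hβ =>
        le_iSup₂ (f := fun β (_ : β ≠ α) => tPiece I β) β (fun e => hα (e ▸ hβ))
    refine ⟨?_, ?_⟩
    · rw [Finset.sup_insert]; infer_instance
    · have h := Submodule.finrank_sup_add_finrank_inf_eq (tPiece I α) (A.sup (tPiece I))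
      rw [hdis.eq_bot, finrank_bot, add_zero] at h
      rw [Finset.sup_insert, h, Finset.sum_insert hα, ih.2]

omit [Module.Finite k (MvPolynomial σ k ⧸ I)] in
/-- dimension of the span of a family of pieces -/
theorem finrank_iSup (q : (σ → ℤ) → Prop) (A : Finset (σ → ℤ))
    (hA : ∀ α, q α → α ∉ A → tPiece I α = ⊥) [DecidablePred q] :
    Module.finrank k ↥(⨆ α : {α : σ → ℤ // q α}, tPiece I α.1) =
      ∑ α ∈ A.filter q, Module.finrank k (tPiece I α) := by
  rw [← (finrank_sup_finset hI (A.filter q)).2]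
  have h : (⨆ α : {α : σ → ℤ // q α}, tPiece I α.1) = (A.filter q).sup (tPiece I) := by
    refine le_antisymm (iSup_le fun α => ?_) (Finset.sup_le fun α hα => ?_)
    · by_cases h : α.1 ∈ A
      · exact Finset.le_sup (Finset.mem_filter.mpr ⟨h, α.2⟩)
      · rw [hA α.1 α.2 h]; exact bot_le
    · exact le_iSup (fun α : {α // q α} => tPiece I α.1) ⟨α, (Finset.mem_filter.mp hα).2⟩
  rw [h]

theorem finrank_tgt (A : Finset (σ → ℤ)) (hA : ∀ α, α ∉ A → tPiece I α = ⊥) :
    Module.finrank k (Tgt I) = ∑ α ∈ A, Module.finrank k (tPiece I α) := by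
  classical
  obtain ⟨A', htop, -⟩ := exists_support hI
  have h : A.sup (tPiece I) = ⊤ := by
    rw [eq_top_iff, ← htop]
    refine iSup₂_le fun α _ => ?_
    by_cases hα : α ∈ A
    · exact Finset.le_sup hα
    · rw [hA α hα]; exact bot_le
  rw [← finrank_top k (Tgt I), ← h, (finrank_sup_finset hI A).2]

omit [Module.Finite k (MvPolynomial σ k ⧸ I)] in
/-- infinite components of the region: those with a point having a negative coordinate -/
theorem goodComp_iff_finite [Module.Finite k (MvPolynomial σ k ⧸ I)] (hn : 2 ≤ Fintype.card σ) {α : σ → ℤ}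
    (c : Comp I α) : (∀ γ ∈ c.supp, ∀ i, 0 ≤ (γ : σ → ℤ) i) ↔ c.supp.Finite := by
  classical
  constructor
  · intro h
    refine Set.Finite.of_finite_image ?_ (Subtype.val_injective.injOn)
    refine ((finite_compl hI).image ev).subset ?_
    rintro _ ⟨γ, hγ, rfl⟩
    exact ⟨unev γ.1, (good_of_mem_region γ.2 (h γ hγ)).2, ev_unev (h γ hγ)⟩
  · intro hfin
    by_contra h
    push Not at h
    obtain ⟨γ, hγ, i, hi⟩ := h
    obtain ⟨j, hj⟩ : ∃ j, j ≠ i := Fintype.exists_ne_of_one_lt_card (by omega) i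
    obtain ⟨β, hβ, e⟩ := (mem_region_iff.mp γ.2).1
    have hmem : ∀ t : ℕ, ev (Finsupp.single j t + β) + α ∈ region I α := fun t =>
      ev_add_mem_region (exps_up hβ le_add_self) fun h' => by
        have := h'.1 i
        rw [e] at hi
        simp [ev, hj.symm] at this hi
        omega
    have hcomp : ∀ t : ℕ, (⟨_, hmem t⟩ : region I α) ∈ c.supp := by
      intro t
      induction t with
      | zero =>
        convert hγ using 1
        exact Subtype.ext (by simp [e])
      | succ t ih =>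
        rw [SimpleGraph.ConnectedComponent.mem_supp_iff] at ih ⊢
        rw [← ih]
        refine (compOf_eq_of_adj (hmem t) (hmem (t + 1)) (step_adj (i := j) ?_ fun l hl => ?_)).symm
        · simp [ev]; omega
        · simp [ev, hl]
    refine Set.infinite_of_injective_forall_mem (f := fun t : ℕ => (⟨_, hmem t⟩ : region I α)) ?_ hcomp hfin
    intro t t' h'
    have := congrFun (congrArg Subtype.val h') j
    simp [ev] at this
    omega

omit [Module.Finite k (MvPolynomial σ k ⧸ I)] in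
theorem finrank_eq_nBddComp [Module.Finite k (MvPolynomial σ k ⧸ I)] (hn : 2 ≤ Fintype.card σ) (α : σ → ℤ) :
    Module.finrank k (tPiece I α) = nBddComp I α := by
  rw [finrank_tPiece hI, nBddComp]
  exact Nat.card_congr (Equiv.subtypeEquivRight fun c => goodComp_iff_finite hI hn c)

omit [Module.Finite k (MvPolynomial σ k ⧸ I)] in
theorem piece_eq_bot_of_nonneg {α : σ → ℤ} (hα : ∀ i, 0 ≤ α i) : tPiece I α = ⊥ := by
  refine eq_bot_of_isEmpty hI α ⟨fun c => ?_⟩
  obtain ⟨γ, hγ⟩ := c.1.out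
  obtain ⟨β, hβ, rfl⟩ := (mem_region_iff.mp hγ).1
  have hn : ∀ i, 0 ≤ (ev β + α) i := fun i => add_nonneg (ev_nonneg β i) (hα i)
  refine (good_of_mem_region hγ hn).2 (exps_up hβ (Finsupp.le_def.mpr fun i => ?_))
  rw [unev_apply]
  have := hα i
  simp [ev]
  omega

omit [Module.Finite k (MvPolynomial σ k ⧸ I)] in
theorem piece_eq_bot_of_neg [Module.Finite k (MvPolynomial σ k ⧸ I)] (hn : 2 ≤ Fintype.card σ) {α : σ → ℤ}
    (hα : ∀ i, α i < 0) : tPiece I α = ⊥ := by
  classical
  refine eq_bot_of_isEmpty hI α ⟨fun c => ?_⟩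
  obtain ⟨i₁, i₂, hne⟩ := Fintype.exists_pair_of_one_lt_card (α := σ) (by omega)
  have key : ∀ (m : ℕ) (β : σ →₀ ℕ), β i₁ ≤ m → β ∈ exps I → ∀ h : ev β + α ∈ region I α,
      ∃ γ : region I α, compOf h = SimpleGraph.connectedComponentMk _ γ ∧ (γ : σ → ℤ) i₁ < 0 := by
    intro m
    induction m with
    | zero =>
      intro β hβ0 hβ h
      refine ⟨⟨_, h⟩, rfl, ?_⟩
      have := hα i₁
      simp [ev]
      omega
    | succ m ih =>
      intro β hβm hβ h
      by_cases hb0 : β i₁ = 0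
      · exact ih β (by omega) hβ h
      let β' := β - Finsupp.single i₁ 1
      have hex : ∃ t : ℕ, β' + Finsupp.single i₂ t ∈ exps I := by
        by_contra hcon
        push Not at hcon
        exact Set.infinite_of_injective_forall_mem (f := fun t : ℕ => β' + Finsupp.single i₂ t)
          (fun t t' e => by
            have := DFunLike.congr_fun e i₂
            simpa using this) hcon (finite_compl hI)
      let t₀ := Nat.find hex
      have ht₀ : β' + Finsupp.single i₂ t₀ ∈ exps I := Nat.find_spec hex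
      have hin : ∀ t, t ≤ t₀ → ev (β + Finsupp.single i₂ t) + α ∈ region I α := by
        intro t ht
        refine ev_add_mem_region (exps_up hβ le_self_add) fun ⟨h1, h2⟩ => ?_
        rcases Nat.eq_zero_or_pos t with rfl | htp
        · simp only [Finsupp.single_zero, add_zero] at h1 h2
          exact (mem_region_iff.mp h).2 ⟨h1, h2⟩
        · refine Nat.find_min hex (show t - 1 < t₀ by omega) (exps_up h2 (Finsupp.le_def.mpr fun j => ?_))
          have := hα j
          have := h1 j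
          rcases eq_or_ne j i₁ with rfl | h1j
          · simp [β', unev_apply, ev, hne.symm, hne] at *
            omega
          · rcases eq_or_ne j i₂ with rfl | h2j
            · simp [β', unev_apply, ev, h1j] at *
              omega
            · simp [β', unev_apply, ev, h1j, h2j] at *
              omega
      have hchain : ∀ t (ht : t ≤ t₀), compOf (hin t ht) = compOf h := by
        intro t
        induction t with
        | zero => intro ht; exact congrArg (SimpleGraph.connectedComponentMk _) (Subtype.ext (by simp))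
        | succ t iht =>
          intro ht
          rw [← iht (by omega)]
          refine (compOf_eq_of_adj (hin t (by omega)) (hin (t + 1) ht) (step_adj (i := i₂) ?_ fun l hl => ?_)).symm
          · simp [ev]; omega
          · simp [ev, hl]
      have hr' : ev (β' + Finsupp.single i₂ t₀) + α ∈ region I α := by
        refine ev_add_mem_region ht₀ fun ⟨h1, h2⟩ => (mem_region_iff.mp (hin t₀ le_rfl)).2 ?_
        have hmono : ∀ j, (ev (β' + Finsupp.single i₂ t₀) + α) j ≤ (ev (β + Finsupp.single i₂ t₀) + α) j :=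
          fun j => by simp [β', ev]
        refine ⟨fun j => (h1 j).trans (hmono j), exps_up h2 (Finsupp.le_def.mpr fun j => ?_)⟩
        rw [unev_apply, unev_apply]
        exact Int.toNat_le_toNat (hmono j)
      obtain ⟨γ, hγc, hγn⟩ := ih (β' + Finsupp.single i₂ t₀) (by simp [β', hne]; omega) ht₀ hr'
      refine ⟨γ, ?_, hγn⟩
      rw [← hγc, ← hchain t₀ le_rfl]
      refine (compOf_eq_of_adj hr' (hin t₀ le_rfl) (step_adj (i := i₁) ?_ fun l hl => ?_)).symm
      · simp [β', ev, hne]; omega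
      · simp [β', ev, hl]
  obtain ⟨β, hβ, e⟩ := (mem_region_iff.mp c.1.out.2).1
  have hr : ev β + α ∈ region I α := e ▸ c.1.out.2
  obtain ⟨γ, hγc, hγn⟩ := key (β i₁) β le_rfl hβ hr
  refine absurd (c.2 γ ?_ i₁) (not_le.mpr hγn)
  rw [SimpleGraph.ConnectedComponent.mem_supp_iff, ← hγc]
  exact (congrArg (SimpleGraph.connectedComponentMk _) (Subtype.ext e.symm : (⟨_, hr⟩ : region I α) = c.1.out)).trans
    (Quot.out_eq c.1)

theorem iSup_sigPiece_eq_top (hn : 2 ≤ Fintype.card σ) :
    (⨆ N : {N : Set σ // N.Nonempty ∧ N ≠ Set.univ}, sigPiece I N.1) = ⊤ := by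
  obtain ⟨A, htop, -⟩ := exists_support hI
  rw [eq_top_iff, ← htop]
  refine iSup₂_le fun α _ => ?_
  by_cases h : (∀ i, 0 ≤ α i) ∨ ∀ i, α i < 0
  · rcases h with h | h
    · rw [piece_eq_bot_of_nonneg hI h]; exact bot_le
    · rw [piece_eq_bot_of_neg hI hn h]; exact bot_le
  · push Not at h
    obtain ⟨⟨i, hi⟩, ⟨j, hj⟩⟩ := h
    refine le_trans ?_ (le_iSup (fun N : {N : Set σ // N.Nonempty ∧ N ≠ Set.univ} => sigPiece I N.1)
      ⟨{l | α l < 0}, ⟨i, hi⟩, fun e => absurd (e ▸ Set.mem_univ j : j ∈ {l | α l < 0}) (not_lt.mpr hj)⟩)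
    exact le_iSup (fun β : {β : σ → ℤ // ∀ l, β l < 0 ↔ l ∈ {l | α l < 0}} => tPiece I β.1) ⟨α, fun l => Iff.rfl⟩

end Groth.Agent.HilbPnLib
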