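import Groth.Agent.HilbPnLib.Decomp
import Mathlib.RingTheory.MvPolynomial.Ideal

/-!
# Counting the good components in a set of degrees
-/

set_option autoImplicit false

open MvPolynomial W4c1hilbpn

universe u v

noncomputable section

namespace Groth.Agent.HilbPnLib

variable {σ : Type v} {k : Type u} [Field k]

theorem exps_span (B : Set (σ →₀ ℕ)) {β : σ →₀ ℕ} :
    β ∈ exps (Ideal.span ((fun b => monomial b (1 : k)) '' B)) ↔ ∃ b ∈ B, b ≤ β := by
  classical
  show monomial β (1 : k) ∈ Ideal.span ((fun b => monomial b (1 : k)) '' B) ↔ _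
  rw [mem_ideal_span_monomial_image, support_monomial, if_neg one_ne_zero]
  simp

theorem isMonomial_span (B : Set (σ →₀ ℕ)) : IsMonomial (Ideal.span ((fun b => monomial b (1 : k)) '' B)) :=
  fun _ hp β hβ => (exps_span B).mpr (mem_ideal_span_monomial_image.mp hp β hβ)

variable [Fintype σ] {I : Ideal (MvPolynomial σ k)} {α : σ → ℤ}

/-- A predicate containing a point, closed under the steps of the region and consisting of nonnegative points,
makes the component of the point good. -/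
theorem good_of_invariant {β : σ →₀ ℕ} (h : ev β + α ∈ region I α) (P : (σ →₀ ℕ) → Prop) (hP : P β)
    (hstep : ∀ (x : σ →₀ ℕ) (i : σ), x ∈ exps I → ev x + α ∈ region I α → P x → P (x + Finsupp.single i 1))
    (hdown : ∀ (x : σ →₀ ℕ) (i : σ), x ∈ exps I → ev x + α ∈ region I α →
      ev (x + Finsupp.single i 1) + α ∈ region I α → P (x + Finsupp.single i 1) → P x)
    (hpos : ∀ x, P x → ∀ i, 0 ≤ (ev x + α) i) :
    ∀ γ ∈ (compOf h).supp, ∀ i, 0 ≤ (γ : σ → ℤ) i := by
  classical
  have key : ∀ (a b : region I α), ((stepGraph σ).induce (region I α)).Reachable a b →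
      (∃ x, x ∈ exps I ∧ P x ∧ a.1 = ev x + α) → ∃ x, x ∈ exps I ∧ P x ∧ b.1 = ev x + α := by
    rintro a b ⟨w⟩
    induction w with
    | nil => exact id
    | @cons a b c hadj _ ih =>
      rintro ⟨x, hx, hPx, e⟩
      refine ih ?_
      obtain ⟨y, hy, e'⟩ := (mem_region_iff.mp b.2).1
      refine ⟨y, hy, ?_, e'⟩
      obtain ⟨i, hne, h1 | h1⟩ := adj_iff.mp (show (stepGraph σ).Adj a.1 b.1 from hadj)
      · have hyx : y = x + Finsupp.single i 1 := by
          ext j
          rcases eq_or_ne j i with rfl | hj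
          · rw [e, e'] at h1; simp [ev] at h1 ⊢; omega
          · have := hne j hj; rw [e, e'] at this; simp [ev, hj] at this ⊢; omega
        exact hyx ▸ hstep x i hx (e ▸ a.2) hPx
      · have hxy : x = y + Finsupp.single i 1 := by
          ext j
          rcases eq_or_ne j i with rfl | hj
          · rw [e, e'] at h1; simp [ev] at h1 ⊢; omega
          · have := hne j hj; rw [e, e'] at this; simp [ev, hj] at this ⊢; omega
        exact hdown y i hy (e' ▸ b.2) (hxy ▸ e ▸ a.2) (hxy ▸ hPx)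
  intro γ hγ i
  obtain ⟨β₀, hβ₀, e0⟩ := (mem_region_iff.mp h).1
  obtain rfl : β = β₀ := ev_injective (add_right_cancel e0)
  obtain ⟨x, -, hPx, e⟩ := key ⟨_, h⟩ γ
    (SimpleGraph.ConnectedComponent.exact ((SimpleGraph.ConnectedComponent.mem_supp_iff _ _).mp hγ).symm)
    ⟨β, hβ₀, hP, rfl⟩
  rw [e]
  exact hpos x hPx i

variable (hI : IsMonomial I)

include hI

/-- counting the good components in a set of degrees -/
theorem finrank_of_classification (q : (σ → ℤ) → Prop) {Ω : Type*} [Finite Ω]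
    (deg : Ω → σ → ℤ) (g : Ω → σ →₀ ℕ) (hq : ∀ ω, q (deg ω)) (hinj : Function.Injective deg)
    (hg : ∀ ω, g ω ∈ exps I) (hgood : ∀ ω, Good I (ev (g ω) + deg ω))
    (hcomp : ∀ ω, ∀ γ ∈ (compOf (good_mem_region (hg ω) (hgood ω))).supp, ∀ i, 0 ≤ (γ : σ → ℤ) i)
    (hex : ∀ α, q α → ∀ c : GoodComp I α, ∃ ω, ∃ e : deg ω = α,
      compOf (good_mem_region (hg ω) (hgood ω)) = e ▸ c.1) :
    Module.finrank k ↥(⨆ α : {α : σ → ℤ // q α}, tPiece I α.1) = Nat.card Ω := by
  classical
  haveI : ∀ α : σ → ℤ, Finite (GoodComp I α) := finite_goodComp hI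
  haveI := Fintype.ofFinite Ω
  have hout : ∀ α, q α → α ∉ Finset.univ.image deg → tPiece I α = ⊥ := fun α hα hnot =>
    eq_bot_of_isEmpty hI α ⟨fun c => by
      obtain ⟨ω, e, -⟩ := hex α hα c
      exact hnot (Finset.mem_image.mpr ⟨ω, Finset.mem_univ _, e⟩)⟩
  rw [finrank_iSup hI q (Finset.univ.image deg) hout, Finset.filter_true_of_mem (fun α hα => by
      obtain ⟨ω, -, rfl⟩ := Finset.mem_image.mp hα; exact hq ω),
    Finset.sum_image hinj.injOn, Nat.card_eq_fintype_card, ← Finset.card_univ, Finset.card_eq_sum_ones]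
  refine Finset.sum_congr rfl fun ω _ => ?_
  rw [finrank_tPiece hI, Nat.card_eq_one_iff_unique]
  refine ⟨⟨fun c c' => ?_⟩, ⟨⟨_, hcomp ω⟩⟩⟩
  obtain ⟨ω', e, h⟩ := hex (deg ω) (hq ω) c
  obtain ⟨ω'', e', h'⟩ := hex (deg ω) (hq ω) c'
  obtain rfl := hinj e
  obtain rfl := hinj e'
  exact Subtype.ext (h.symm.trans h')

omit hI in
/-- a good component contains a point over any lower exponent of the ideal -/
theorem goodComp_rep {B : Set (σ →₀ ℕ)} (hB : B ⊆ exps I) (hgen : ∀ β ∈ exps I, ∃ b ∈ B, b ≤ β)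
    (c : GoodComp I α) : ∃ b ∈ B, ∃ h : ev b + α ∈ region I α, compOf h = c.1 ∧ Good I (ev b + α) := by
  obtain ⟨β, hβ, e⟩ := (mem_region_iff.mp c.1.out.2).1
  obtain ⟨b, hb, hbβ⟩ := hgen β hβ
  have hr : ev β + α ∈ region I α := e ▸ c.1.out.2
  obtain ⟨h', e'⟩ := reach_down (hB hb) hbβ hr
  have hcc : compOf hr = c.1 :=
    (congrArg (SimpleGraph.connectedComponentMk _) (Subtype.ext e : c.1.out = (⟨_, hr⟩ : region I α))).symm.trans
      (Quot.out_eq c.1)
  exact ⟨b, hb, h', e'.trans hcc, good_of_mem_region h' (c.2 _ (e'.trans hcc))⟩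

omit hI in
/-- two points over `b`, `b'` below a common `u` whose translate stays outside are connected -/
theorem comp_eq_of_ub {b b' u : σ →₀ ℕ} (hb : b ∈ exps I) (hb' : b' ∈ exps I) (h : b ≤ u) (h' : b' ≤ u)
    (hu : ev u + α ∈ region I α) :
    ∃ (hr : ev b + α ∈ region I α) (hr' : ev b' + α ∈ region I α), compOf hr = compOf hr' := by
  obtain ⟨hr, e⟩ := reach_down hb h hu
  obtain ⟨hr', e'⟩ := reach_down hb' h' hu
  exact ⟨hr, hr', e.trans e'.symm⟩

end Groth.Agent.HilbPnLib
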