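import Groth.Agent.HilbPnLib.Deg0
import Mathlib.RingTheory.MvPolynomial.Groebner

/-!
# The tangent space of an ideal is bounded by the one of its initial ideal

For an ideal `I` of finite colength and a monomial order, `Hom(I, S/I)` is filtered by the largest shift
between the degree of an element of `I` and the exponents in the normal form of its image; every layer
embeds into a graded piece of `Hom(in I, S/in I)`.
-/

set_option autoImplicit false
set_option linter.style.haveILetI false

open MvPolynomial W4c1hilbpn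
open scoped MonomialOrder

universe u v

noncomputable section

namespace Groth.Agent.HilbPnLib.Degen

variable {σ : Type v} [Fintype σ] {k : Type u} [Field k] (m : MonomialOrder σ) (I : Ideal (MvPolynomial σ k))

/-- The degrees of the nonzero elements of the ideal. -/
def degs : Set (σ →₀ ℕ) := {δ | ∃ f ∈ I, f ≠ 0 ∧ m.degree f = δ}

/-- The initial ideal. -/
def init : Ideal (MvPolynomial σ k) := Ideal.span ((fun b => monomial b (1 : k)) '' degs m I)

variable {m I}

omit [Fintype σ] in
theorem degs_up {β γ : σ →₀ ℕ} (h : β ∈ degs m I) (hle : β ≤ γ) : γ ∈ degs m I := by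
  classical
  obtain ⟨f, hf, hne, rfl⟩ := h
  have hmon : monomial (γ - m.degree f) (1 : k) ≠ 0 := by simp
  refine ⟨monomial (γ - m.degree f) 1 * f, I.mul_mem_left _ hf, mul_ne_zero hmon hne, ?_⟩
  rw [MonomialOrder.degree_mul hmon hne, MonomialOrder.degree_monomial, if_neg one_ne_zero,
    tsub_add_cancel_of_le hle]

omit [Fintype σ] in
theorem exps_init : exps (init m I) = degs m I := by
  ext β
  exact (exps_span _).trans ⟨fun ⟨b, hb, hle⟩ => degs_up hb hle, fun h => ⟨β, h, le_rfl⟩⟩

omit [Fintype σ] in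
theorem isMonomial_init : IsMonomial (init m I) := isMonomial_span _

omit [Fintype σ] in
theorem exists_monic {β : σ →₀ ℕ} (h : β ∈ degs m I) : ∃ f ∈ I, m.Monic f ∧ m.degree f = β := by
  obtain ⟨f, hf, hne, rfl⟩ := h
  have hlc : m.leadingCoeff f ≠ 0 := MonomialOrder.leadingCoeff_ne_zero_iff.mpr hne
  have hdeg : m.degree ((m.leadingCoeff f)⁻¹ • f) = m.degree f :=
    MonomialOrder.degree_smul_of_isRegular (IsRegular.of_ne_zero (inv_ne_zero hlc))
  refine ⟨(m.leadingCoeff f)⁻¹ • f, Submodule.smul_of_tower_mem I _ hf, ?_, hdeg⟩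
  show m.leadingCoeff _ = 1
  rw [MonomialOrder.leadingCoeff, hdeg, coeff_smul, smul_eq_mul]
  exact inv_mul_cancel₀ hlc

variable (m I) in
open Classical in
/-- A monic element of the ideal of given degree. -/
def mon (β : σ →₀ ℕ) : I :=
  if h : β ∈ degs m I then ⟨(exists_monic h).choose, (exists_monic h).choose_spec.1⟩ else 0

omit [Fintype σ] in
theorem mon_spec {β : σ →₀ ℕ} (h : β ∈ degs m I) :
    m.Monic (mon m I β : MvPolynomial σ k) ∧ m.degree (mon m I β : MvPolynomial σ k) = β := by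
  rw [mon, dif_pos h]
  exact (exists_monic h).choose_spec.2

omit [Fintype σ] in
theorem eq_zero_of_support {r : MvPolynomial σ k} (hr : r ∈ I) (h : ∀ c ∈ r.support, c ∉ degs m I) : r = 0 := by
  by_contra hne
  exact h _ (MonomialOrder.degree_mem_support hne) ⟨r, hr, hne, rfl⟩

omit [Fintype σ] in
/-- Division by monic elements of the ideal whose degrees generate the degrees of the ideal. -/
theorem exists_div {B : Set (σ →₀ ℕ)} (hB : B ⊆ degs m I) (hgen : ∀ β ∈ degs m I, ∃ b ∈ B, b ≤ β)
    (f : MvPolynomial σ k) :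
    ∃ (g : B →₀ MvPolynomial σ k) (r : MvPolynomial σ k),
      f = g.sum (fun b c => c * (mon m I b.1 : MvPolynomial σ k)) + r ∧
        (∀ b : B, m.degree ((mon m I b.1 : MvPolynomial σ k) * g b) ≼[m] m.degree f) ∧
          ∀ c ∈ r.support, c ∉ degs m I := by
  obtain ⟨g, r, e, h1, h2⟩ := m.div (b := fun b : B => (mon m I b.1 : MvPolynomial σ k))
    (fun b => by rw [(mon_spec (hB b.2)).1.leadingCoeff_eq_one]; exact isUnit_one) f
  refine ⟨g, r, ?_, h1, fun c hc hcd => ?_⟩
  · rw [e, Finsupp.linearCombination_apply]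
    simp [smul_eq_mul]
  · obtain ⟨b, hb, hle⟩ := hgen c hcd
    exact h2 c hc ⟨b, hb⟩ (le_of_eq_of_le (mon_spec (hB hb)).2 hle)

omit [Fintype σ] in
theorem sum_mon_mem {B : Set (σ →₀ ℕ)} (g : B →₀ MvPolynomial σ k) :
    g.sum (fun b c => c * (mon m I b.1 : MvPolynomial σ k)) ∈ I :=
  I.sum_mem fun b _ => I.mul_mem_left _ (mon m I b.1).2

variable (m I) in
/-- The classes of the standard polynomials. -/
def stdMap : restrictSupport k (degs m I)ᶜ →ₗ[k] MvPolynomial σ k ⧸ I :=
  (Ideal.Quotient.mkₐ k I).toLinearMap ∘ₗ Submodule.subtype _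

omit [Fintype σ] in
theorem exists_rem (f : MvPolynomial σ k) :
    ∃ r : MvPolynomial σ k, f - r ∈ I ∧ (∀ c ∈ r.support, c ∉ degs m I) ∧ m.degree r ≼[m] m.degree f := by
  obtain ⟨g, r, e, h1, h2⟩ := exists_div (B := degs m I) subset_rfl (fun β h => ⟨β, h, le_rfl⟩) f
  have hr : f - r = g.sum (fun b c => c * (mon m I b.1 : MvPolynomial σ k)) := sub_eq_of_eq_add e
  refine ⟨r, hr ▸ sum_mon_mem g, h2, ?_⟩
  have e' : r = f - g.sum (fun b c => c * (mon m I b.1 : MvPolynomial σ k)) := by rw [← hr, sub_sub_cancel]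
  rw [e']
  refine le_trans MonomialOrder.degree_sub_le (sup_le le_rfl ?_)
  refine le_trans MonomialOrder.degree_sum_le (Finset.sup_le fun b _ => ?_)
  dsimp only
  rw [mul_comm]
  exact h1 b

omit [Fintype σ] in
theorem stdMap_bijective : Function.Bijective (stdMap m I) := by
  refine ⟨?_, fun q => ?_⟩
  · rw [injective_iff_map_eq_zero]
    intro x hx
    refine Subtype.ext (eq_zero_of_support (m := m) (Ideal.Quotient.eq_zero_iff_mem.mp hx) fun c hc => ?_)
    exact (MvPolynomial.mem_restrictSupport_iff k).1 x.2 hc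
  · obtain ⟨f, rfl⟩ := Ideal.Quotient.mk_surjective q
    obtain ⟨r, hr, hs, -⟩ := exists_rem (m := m) (I := I) f
    exact ⟨⟨r, (MvPolynomial.mem_restrictSupport_iff k).2 fun c hc => hs c hc⟩, (Ideal.Quotient.eq.mpr hr).symm⟩

variable (m I) in
/-- The normal form. -/
def nf : (MvPolynomial σ k ⧸ I) →ₗ[k] MvPolynomial σ k :=
  Submodule.subtype _ ∘ₗ (LinearEquiv.ofBijective (stdMap m I) stdMap_bijective).symm.toLinearMap

omit [Fintype σ] in
theorem mk_nf (q : MvPolynomial σ k ⧸ I) : Ideal.Quotient.mk I (nf m I q) = q :=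
  (LinearEquiv.ofBijective (stdMap m I) stdMap_bijective).apply_symm_apply q

omit [Fintype σ] in
theorem nf_support (q : MvPolynomial σ k ⧸ I) {c : σ →₀ ℕ} (h : coeff c (nf m I q) ≠ 0) : c ∉ degs m I :=
  (MvPolynomial.mem_restrictSupport_iff k).1 ((LinearEquiv.ofBijective (stdMap m I) stdMap_bijective).symm q).2
    (mem_support_iff.mpr h)

omit [Fintype σ] in
theorem nf_mk {r : MvPolynomial σ k} (h : ∀ c ∈ r.support, c ∉ degs m I) : nf m I (Ideal.Quotient.mk I r) = r :=
  congrArg Subtype.val ((LinearEquiv.ofBijective (stdMap m I) stdMap_bijective).symm_apply_apply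
    ⟨r, (MvPolynomial.mem_restrictSupport_iff k).2 fun c hc => h c hc⟩)

omit [Fintype σ] in
theorem nf_le (f : MvPolynomial σ k) {c : σ →₀ ℕ} (h : coeff c (nf m I (Ideal.Quotient.mk I f)) ≠ 0) :
    c ≼[m] m.degree f := by
  obtain ⟨r, hr, hs, hle⟩ := exists_rem (m := m) (I := I) f
  rw [Ideal.Quotient.eq.mpr hr, nf_mk hs] at h
  exact le_trans (MonomialOrder.le_degree (mem_support_iff.mpr h)) hle

omit [Fintype σ] in
theorem smul_eq_mk (g : MvPolynomial σ k) (q : MvPolynomial σ k ⧸ I) :
    g • q = Ideal.Quotient.mk I (g * nf m I q) := by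
  conv_lhs => rw [← mk_nf (m := m) q]
  rfl

variable (m I)

section Finite

variable [Module.Finite k (MvPolynomial σ k ⧸ I)]

omit [Fintype σ] in
theorem finite_compl_degs : (degs m I)ᶜ.Finite := by
  haveI : Module.Finite k (restrictSupport k (degs m I)ᶜ) :=
    Module.Finite.equiv (LinearEquiv.ofBijective (stdMap m I) stdMap_bijective).symm
  exact Set.finite_coe_iff.mp (Module.Finite.finite_basis (basisRestrictSupport k (degs m I)ᶜ))

omit [Fintype σ] in
theorem finite_init : Module.Finite k (MvPolynomial σ k ⧸ init m I) := by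
  haveI : Finite {δ : σ →₀ ℕ | δ ∉ exps (init m I)} := by
    rw [exps_init]; exact (finite_compl_degs m I).to_subtype
  exact ⟨Submodule.fg_def.mpr ⟨_, Set.finite_range _, qmon_span (init m I) isMonomial_init⟩⟩

omit [Fintype σ] in
theorem finrank_init :
    Module.finrank k (MvPolynomial σ k ⧸ init m I) = Module.finrank k (MvPolynomial σ k ⧸ I) := by
  haveI := finite_init m I
  rw [finrank_quot isMonomial_init, ← (LinearEquiv.ofBijective (stdMap m I) stdMap_bijective).finrank_eq,
    Module.finrank_eq_nat_card_basis (basisRestrictSupport k (degs m I)ᶜ)]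
  exact Nat.card_congr (Equiv.subtypeEquivRight fun δ => by rw [exps_init]; rfl)

end Finite

variable (N : σ →₀ ℕ)

/-- Evaluation at an element of the ideal. -/
def evalAt (f : I) : Tgt I →ₗ[k] MvPolynomial σ k ⧸ I where
  toFun φ := φ f
  map_add' _ _ := rfl
  map_smul' _ _ := rfl

/-- The coefficient of shift `a - N`. -/
def top (a : σ →₀ ℕ) (f : I) (β : σ →₀ ℕ) : Tgt I →ₗ[k] k :=
  if N ≤ β + a then lcoeff k (β + a - N) ∘ₗ nf m I ∘ₗ evalAt I f else 0

omit [Fintype σ] in
theorem top_apply (a : σ →₀ ℕ) (f : I) (β : σ →₀ ℕ) (φ : Tgt I) :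
    top m I N a f β φ = if N ≤ β + a then coeff (β + a - N) (nf m I (φ f)) else 0 := by
  unfold top
  split_ifs <;> rfl

/-- The homomorphisms with shifts bounded by a member of `Q`. -/
def H (Q : Finset (σ →₀ ℕ)) : Submodule k (Tgt I) where
  carrier := {φ | ∀ f : I, (f : MvPolynomial σ k) ≠ 0 → ∀ δ, coeff δ (nf m I (φ f)) ≠ 0 →
    ∃ γ ∈ Q, δ + N ≼[m] m.degree (f : MvPolynomial σ k) + γ}
  zero_mem' f _ δ h := absurd (by simp) h
  add_mem' {φ ψ} hφ hψ f hf δ h := by
    rw [LinearMap.add_apply, map_add, coeff_add] at h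
    rcases (show coeff δ (nf m I (φ f)) ≠ 0 ∨ coeff δ (nf m I (ψ f)) ≠ 0 by
      by_contra h'; push Not at h'; exact h (by rw [h'.1, h'.2, add_zero])) with h' | h'
    · exact hφ f hf δ h'
    · exact hψ f hf δ h'
  smul_mem' c φ hφ f hf δ h := hφ f hf δ fun h' => h (by rw [LinearMap.smul_apply, map_smul, coeff_smul, h', smul_zero])

variable {m I N}

omit [Fintype σ] in
theorem mem_H_of_gens {B : Set (σ →₀ ℕ)} (hB : B ⊆ degs m I) (hgen : ∀ β ∈ degs m I, ∃ b ∈ B, b ≤ β)
    {Q : Finset (σ →₀ ℕ)} (φ : Tgt I)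
    (h : ∀ b ∈ B, ∀ δ, coeff δ (nf m I (φ (mon m I b))) ≠ 0 → ∃ γ ∈ Q, δ + N ≼[m] b + γ) :
    φ ∈ H m I N Q := by
  classical
  intro f hf δ hδ
  obtain ⟨g, r, e, h1, h2⟩ := exists_div hB hgen (f : MvPolynomial σ k)
  have hr : r = 0 := eq_zero_of_support (by
    rw [eq_sub_of_add_eq' e.symm]; exact I.sub_mem f.2 (sum_mon_mem g)) h2
  have e' : f = ∑ b ∈ g.support, g b • mon m I b.1 := Subtype.ext (by
    rw [e, hr, add_zero, Submodule.coe_sum, Finsupp.sum]; rfl)
  rw [e', map_sum, map_sum, coeff_sum] at hδ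
  obtain ⟨b, hb, hb'⟩ := Finset.exists_ne_zero_of_sum_ne_zero hδ
  have hg : g b ≠ 0 := Finsupp.mem_support_iff.mp hb
  rw [map_smul, smul_eq_mk (m := m)] at hb'
  have hw : nf m I (φ (mon m I b.1)) ≠ 0 := fun h0 => by
    rw [h0, mul_zero, map_zero, map_zero, coeff_zero] at hb'
    exact hb' rfl
  obtain ⟨γ, hγ, hle⟩ := h b.1 b.2 _ (MonomialOrder.coeff_degree_ne_zero_iff (m := m) |>.mpr hw)
  refine ⟨γ, hγ, ?_⟩
  have h3 : δ ≼[m] m.degree (g b) + m.degree (nf m I (φ (mon m I b.1))) :=
    le_trans (nf_le _ hb') MonomialOrder.degree_mul_le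
  have h4 : b.1 + m.degree (g b) ≼[m] m.degree (f : MvPolynomial σ k) := by
    have h5 := h1 b
    rwa [MonomialOrder.degree_mul (mon_spec (hB b.2)).1.ne_zero hg, (mon_spec (hB b.2)).2] at h5
  simp only [map_add] at h3 h4 hle ⊢
  calc m.toSyn δ + m.toSyn N ≤ m.toSyn (m.degree (g b)) + m.toSyn (m.degree (nf m I (φ (mon m I b.1)))) + m.toSyn N := by
        gcongr
    _ ≤ m.toSyn (m.degree (g b)) + (m.toSyn b.1 + m.toSyn γ) := by rw [add_assoc]; gcongr
    _ = m.toSyn b.1 + m.toSyn (m.degree (g b)) + m.toSyn γ := by abel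
    _ ≤ m.toSyn (m.degree (f : MvPolynomial σ k)) + m.toSyn γ := by gcongr

/-- All shifts of `φ` are at most `a - N`. -/
def Bnd (m : MonomialOrder σ) (I : Ideal (MvPolynomial σ k)) (N a : σ →₀ ℕ) (φ : Tgt I) : Prop :=
  ∀ f : I, (f : MvPolynomial σ k) ≠ 0 → ∀ δ, coeff δ (nf m I (φ f)) ≠ 0 → δ + N ≼[m] m.degree (f : MvPolynomial σ k) + a

omit [Fintype σ] in
theorem top_step {a : σ →₀ ℕ} {φ : Tgt I} (hφ : Bnd m I N a φ) {β : σ →₀ ℕ} (hβ : β ∈ degs m I) (ε : σ →₀ ℕ)
    (hle : N ≤ ε + β + a) (hout : ε + β + a - N ∉ degs m I) :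
    top m I N a (mon m I (ε + β)) (ε + β) φ = top m I N a (mon m I β) β φ := by
  classical
  set δ' := ε + β + a - N with hδdef
  have hδ' : δ' + N = ε + β + a := tsub_add_cancel_of_le hle
  have hβ' : ε + β ∈ degs m I := degs_up hβ le_add_self
  set f := mon m I β
  set w := nf m I (φ f)
  set F : I := monomial ε (1 : k) • f
  have hmon : monomial ε (1 : k) ≠ 0 := by simp
  have hfne : (f : MvPolynomial σ k) ≠ 0 := (mon_spec hβ).1.ne_zero
  have hFdeg : m.degree (F : MvPolynomial σ k) = ε + β := by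
    show m.degree (monomial ε (1 : k) * (f : MvPolynomial σ k)) = _
    rw [MonomialOrder.degree_mul hmon hfne, (mon_spec hβ).2, MonomialOrder.degree_monomial, if_neg one_ne_zero]
  have hFc : coeff (ε + β) (F : MvPolynomial σ k) = 1 := by
    show coeff (ε + β) (monomial ε (1 : k) * (f : MvPolynomial σ k)) = 1
    rw [coeff_monomial_mul, one_mul]
    exact (mon_spec hβ).2 ▸ (mon_spec hβ).1
  have hGc : coeff (ε + β) (mon m I (ε + β) : MvPolynomial σ k) = 1 := by
    have := (mon_spec hβ').1.coeff_degree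
    rwa [(mon_spec hβ').2] at this
  -- changing the monic element of degree `ε + β`
  have hA : coeff δ' (nf m I (φ (mon m I (ε + β)))) = coeff δ' (nf m I (φ F)) := by
    rw [← sub_eq_zero, ← coeff_sub, ← map_sub, ← map_sub]
    by_contra h
    set g := mon m I (ε + β) - F
    have hg : (g : MvPolynomial σ k) ≠ 0 := fun h0 => by
      rw [show g = 0 from Subtype.ext h0, map_zero, map_zero, coeff_zero] at h
      exact h rfl
    have h1 : m.degree (g : MvPolynomial σ k) ≼[m] ε + β := by
      refine le_trans MonomialOrder.degree_sub_le (sup_le ?_ ?_)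
      · rw [(mon_spec hβ').2]
      · exact le_of_eq (congrArg m.toSyn hFdeg)
    have h2 : m.degree (g : MvPolynomial σ k) ≠ ε + β := fun h2 => by
      have h3 := MonomialOrder.coeff_degree_ne_zero_iff (m := m) |>.mpr hg
      rw [h2] at h3
      exact h3 (by rw [Submodule.coe_sub, coeff_sub, hFc, hGc, sub_self])
    have h3 : m.degree (g : MvPolynomial σ k) ≺[m] ε + β := lt_of_le_of_ne h1 fun e => h2 (m.toSyn.injective e)
    have h4 := hφ g hg δ' h
    rw [hδ'] at h4
    simp only [map_add] at h4 h3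
    exact not_lt.mpr h4 (by gcongr)
  -- multiplying by the monomial
  set T : MvPolynomial σ k := if N ≤ β + a then monomial (β + a - N) (coeff (β + a - N) w) else 0
  have hB : coeff δ' (nf m I (φ F)) = coeff δ' (nf m I (Ideal.Quotient.mk I (monomial ε 1 * T))) := by
    have e : φ F = Ideal.Quotient.mk I (monomial ε 1 * (w - T)) + Ideal.Quotient.mk I (monomial ε 1 * T) := by
      rw [← map_add, ← mul_add, sub_add_cancel]
      exact (map_smul φ _ _).trans (smul_eq_mk _ _)
    rw [e, map_add, coeff_add, add_eq_right]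
    by_contra h
    have hwT : w - T ≠ 0 := fun h0 => by
      rw [h0, mul_zero, map_zero, map_zero, coeff_zero] at h
      exact h rfl
    set δ'' := m.degree (w - T)
    have hc : coeff δ'' (w - T) ≠ 0 := MonomialOrder.coeff_degree_ne_zero_iff (m := m) |>.mpr hwT
    have hne : δ'' + N ≠ β + a := fun e => hc (by
      have hle' : N ≤ β + a := e ▸ le_add_self
      have hd : δ'' = β + a - N := by rw [← e, add_tsub_cancel_right]
      rw [coeff_sub, show T = monomial (β + a - N) (coeff (β + a - N) w) from if_pos hle', hd, coeff_monomial,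
        if_pos rfl, sub_self])
    have hcw : coeff δ'' w ≠ 0 := fun h0 => by
      apply hc
      rw [coeff_sub, h0, zero_sub, neg_eq_zero]
      simp only [T]
      split_ifs with hle'
      · rw [coeff_monomial, if_neg fun e => hne (by rw [← e, tsub_add_cancel_of_le hle'])]
      · exact coeff_zero _
    have h1 : δ'' + N ≼[m] β + a := by
      have := hφ f hfne δ'' hcw
      rwa [(mon_spec hβ).2] at this
    have h2 : δ'' + N ≺[m] β + a := lt_of_le_of_ne h1 fun e => hne (m.toSyn.injective e)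
    have h3 : δ' ≼[m] ε + δ'' := by
      refine le_trans (nf_le _ h) (le_trans MonomialOrder.degree_mul_le ?_)
      rw [MonomialOrder.degree_monomial, if_neg one_ne_zero]
    have h4 : m.toSyn δ' + m.toSyn N = m.toSyn ε + (m.toSyn β + m.toSyn a) := by
      rw [← map_add, hδ', map_add, map_add, add_assoc]
    simp only [map_add] at h2 h3
    refine lt_irrefl (m.toSyn δ' + m.toSyn N) ?_
    calc m.toSyn δ' + m.toSyn N ≤ m.toSyn ε + (m.toSyn δ'' + m.toSyn N) := by rw [← add_assoc]; gcongr
      _ < m.toSyn ε + (m.toSyn β + m.toSyn a) := by gcongr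
      _ = m.toSyn δ' + m.toSyn N := h4.symm
  rw [top_apply, top_apply, if_pos hle, ← hδdef, hA, hB]
  by_cases hle' : N ≤ β + a
  · have hT : monomial ε (1 : k) * T = monomial δ' (coeff (β + a - N) w) := by
      rw [show T = monomial (β + a - N) (coeff (β + a - N) w) from if_pos hle', monomial_mul, one_mul,
        ← add_tsub_assoc_of_le hle', ← add_assoc]
    rw [if_pos hle', hT, nf_mk (fun c hc => by
      rw [Finset.mem_singleton.mp (support_monomial_subset hc)]; exact hout), coeff_monomial, if_pos rfl]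
  · rw [if_neg hle', show T = 0 from if_neg hle', mul_zero, map_zero, map_zero, coeff_zero]

/-- The shift of a bound. -/
def shiftOf (N a : σ →₀ ℕ) : σ → ℤ := ev a - ev N

omit [Fintype σ] in
theorem ev_shiftOf {a β : σ →₀ ℕ} (h : N ≤ β + a) : ev β + shiftOf N a = ev (β + a - N) := funext fun i => by
  have := Finsupp.le_def.mp h i
  simp [ev, shiftOf] at this ⊢
  omega

omit [Fintype σ] in
theorem le_of_nonneg {a β : σ →₀ ℕ} (h : ∀ i, 0 ≤ (ev β + shiftOf N a) i) : N ≤ β + a :=
  Finsupp.le_def.mpr fun i => by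
    have := h i
    simp [ev, shiftOf] at this ⊢
    omega

omit [Fintype σ] in
theorem shiftOf_injective : Function.Injective (shiftOf N : (σ →₀ ℕ) → σ → ℤ) := fun _ _ h =>
  ev_injective (sub_left_inj.mp h)

variable (m I N) in
/-- The value at a point of the region. -/
def val (a : σ →₀ ℕ) (γ : region (init m I) (shiftOf N a)) : Tgt I →ₗ[k] k :=
  top m I N a (mon m I (mem_region_iff.mp γ.2).1.choose) (mem_region_iff.mp γ.2).1.choose

theorem val_eq {a β : σ →₀ ℕ} (h : ev β + shiftOf N a ∈ region (init m I) (shiftOf N a)) :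
    val m I N a ⟨_, h⟩ = top m I N a (mon m I β) β := by
  have hc : (mem_region_iff.mp h).1.choose = β :=
    ev_injective (add_right_cancel (mem_region_iff.mp h).1.choose_spec.2.symm)
  simp only [val, hc]

theorem val_step {a : σ →₀ ℕ} {φ : Tgt I} (hφ : Bnd m I N a φ) {γ γ' : region (init m I) (shiftOf N a)} {i : σ}
    (h : (γ' : σ → ℤ) i = (γ : σ → ℤ) i + 1) (hne : ∀ j, j ≠ i → (γ' : σ → ℤ) j = (γ : σ → ℤ) j) :
    val m I N a γ φ = val m I N a γ' φ := by
  classical
  obtain ⟨γ, hγ⟩ := γ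
  obtain ⟨γ', hγ'⟩ := γ'
  obtain ⟨β, hβ, rfl⟩ := (mem_region_iff.mp hγ).1
  have e : γ' = ev (Finsupp.single i 1 + β) + shiftOf N a := funext fun j => by
    rcases eq_or_ne j i with rfl | hj
    · simp [ev] at h ⊢; omega
    · have := hne j hj; simp [ev, hj] at this ⊢; omega
  subst e
  rw [val_eq hγ, val_eq hγ']
  by_cases hle : N ≤ Finsupp.single i 1 + β + a
  · refine (top_step hφ (exps_init (m := m) (I := I) ▸ hβ) _ hle fun hin => (mem_region_iff.mp hγ').2 ?_).symm
    rw [ev_shiftOf hle]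
    exact ⟨ev_nonneg _, by rwa [unev_ev, exps_init]⟩
  · rw [top_apply, top_apply, if_neg hle, if_neg fun h' => hle (h'.trans (by gcongr; exact le_add_self))]

theorem val_reach {a : σ →₀ ℕ} {φ : Tgt I} (hφ : Bnd m I N a φ) {γ γ' : region (init m I) (shiftOf N a)}
    (h : ((stepGraph σ).induce (region (init m I) (shiftOf N a))).Reachable γ γ') :
    val m I N a γ φ = val m I N a γ' φ := by
  obtain ⟨w⟩ := h
  induction w with
  | nil => rfl
  | @cons a' b c hadj _ ih =>
    refine Eq.trans ?_ ih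
    obtain ⟨i, hne, h | h⟩ := adj_iff.mp (show (stepGraph σ).Adj a'.1 b.1 from hadj)
    · exact val_step hφ h hne
    · exact (val_step hφ h fun j hj => (hne j hj).symm).symm

theorem val_eq_zero_of_neg {a : σ →₀ ℕ} (φ : Tgt I) {γ : region (init m I) (shiftOf N a)} {i : σ}
    (hi : (γ : σ → ℤ) i < 0) : val m I N a γ φ = 0 := by
  classical
  obtain ⟨γ, hγ⟩ := γ
  obtain ⟨β, hβ, rfl⟩ := (mem_region_iff.mp hγ).1
  rw [val_eq hγ, top_apply, if_neg]
  intro hle
  rw [show (⟨ev β + shiftOf N a, hγ⟩ : region (init m I) (shiftOf N a)).1 = ev (β + a - N) from ev_shiftOf hle] at hi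
  exact absurd (ev_nonneg _ i) (not_le.mpr hi)

variable (m I N)

omit [Fintype σ] in
/-- rank-nullity for a map on a subspace -/
theorem finrank_le_add {V : Type*} [AddCommGroup V] [Module k V] [Module.Finite k V] (A T : Submodule k V)
    {W : Type*} [AddCommGroup W] [Module k W] [Module.Finite k W] (L : A →ₗ[k] W)
    (h : (LinearMap.ker L).map A.subtype ≤ T) :
    Module.finrank k A ≤ Module.finrank k T + Module.finrank k W := by
  have h1 := LinearMap.finrank_range_add_finrank_ker L
  have h2 := Submodule.finrank_le (LinearMap.range L)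
  have h3 := Submodule.finrank_mono h
  rw [Submodule.finrank_map_subtype_eq] at h3
  omega

set_option maxHeartbeats 800000 in
/-- One layer of the filtration embeds into a graded piece of the initial ideal. -/
theorem layer [Module.Finite k (MvPolynomial σ k ⧸ I)] [Module.Finite k (Tgt I)] {B : Set (σ →₀ ℕ)}
    (hB : B ⊆ degs m I) (hgen : ∀ β ∈ degs m I, ∃ b ∈ B, b ≤ β) (hN : ∀ b ∈ B, b ≤ N)
    {Q : Finset (σ →₀ ℕ)} {a : σ →₀ ℕ} (ha : ∀ x ∈ Q, x ≺[m] a)
    (hclosed : ∀ b ∈ B, ∀ δ, δ ∉ degs m I → δ + (N - b) ≺[m] a → δ + (N - b) ∈ Q) [DecidableEq σ] :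
    Module.finrank k (H m I N (insert a Q)) ≤
      Module.finrank k (H m I N Q) + Module.finrank k (tPiece (init m I) (shiftOf N a)) := by
  classical
  haveI := finite_init m I
  haveI : Finite (GoodComp (init m I) (shiftOf N a)) := finite_goodComp isMonomial_init _
  haveI := Fintype.ofFinite (GoodComp (init m I) (shiftOf N a))
  let L : H m I N (insert a Q) →ₗ[k] (GoodComp (init m I) (shiftOf N a) → k) :=
    (LinearMap.pi fun c => val m I N a c.1.out) ∘ₗ Submodule.subtype _
  have hker : (LinearMap.ker L).map (Submodule.subtype _) ≤ H m I N Q := by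
    rintro _ ⟨⟨φ, hφ⟩, hL, rfl⟩
    have hb : Bnd m I N a φ := fun f hf δ hδ => by
      obtain ⟨γ, hγ, hle⟩ := hφ f hf δ hδ
      rcases Finset.mem_insert.mp hγ with rfl | hγ'
      · exact hle
      · refine le_trans hle ?_
        rw [map_add, map_add]
        exact add_le_add le_rfl (ha γ hγ').le
    have hzero : ∀ γ, val m I N a γ φ = 0 := fun γ => by
      by_cases hc : ∀ γ' ∈ (SimpleGraph.connectedComponentMk _ γ : Comp (init m I) (shiftOf N a)).supp,
          ∀ i, 0 ≤ (γ' : σ → ℤ) i
      · refine (val_reach hb (γ' := Quot.out (SimpleGraph.connectedComponentMk _ γ)) ?_).trans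
          (congrFun (LinearMap.mem_ker.mp hL) ⟨_, hc⟩)
        exact SimpleGraph.ConnectedComponent.exact (Quot.out_eq _).symm
      · push Not at hc
        obtain ⟨γ', hγ', i, hi⟩ := hc
        rw [SimpleGraph.ConnectedComponent.mem_supp_iff] at hγ'
        rw [val_reach hb (SimpleGraph.ConnectedComponent.exact hγ'.symm)]
        exact val_eq_zero_of_neg φ hi
    refine mem_H_of_gens hB hgen φ fun b hbB δ hδ => ?_
    have hbne : (mon m I b : MvPolynomial σ k) ≠ 0 := (mon_spec (hB hbB)).1.ne_zero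
    have hle := hb (mon m I b) hbne δ hδ
    rw [(mon_spec (hB hbB)).2] at hle
    have hsum : b + (δ + (N - b)) = δ + N := by rw [add_left_comm, add_tsub_cancel_of_le (hN b hbB)]
    have hδout : δ ∉ degs m I := nf_support _ hδ
    refine ⟨δ + (N - b), hclosed b hbB δ hδout (lt_of_le_of_ne ?_ fun e => ?_), le_of_eq (congrArg m.toSyn hsum.symm)⟩
    · have h1 : m.toSyn b + m.toSyn (δ + (N - b)) ≤ m.toSyn b + m.toSyn a := by rwa [← map_add, ← map_add, hsum]
      exact le_of_add_le_add_left h1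
    · have e' : δ + N = b + a := by rw [← hsum, m.toSyn.injective e]
      have hle' : N ≤ b + a := e' ▸ le_add_self
      have hd : b + a - N = δ := by rw [← e', add_tsub_cancel_right]
      have hr : ev b + shiftOf N a ∈ region (init m I) (shiftOf N a) := by
        refine ev_add_mem_region (exps_init (m := m) (I := I) ▸ hB hbB) fun h => hδout ?_
        have h2 := h.2
        rwa [ev_shiftOf hle', unev_ev, exps_init, hd] at h2
      have h0 := hzero ⟨_, hr⟩
      rw [val_eq hr, top_apply, if_pos hle', hd] at h0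
      exact hδ h0
  refine (finrank_le_add (H m I N (insert a Q)) (H m I N Q) L hker).trans (le_of_eq ?_)
  rw [Module.finrank_fintype_fun_eq_card, finrank_tPiece isMonomial_init, Nat.card_eq_fintype_card]

omit [Fintype σ] in
theorem finite_tgt [Finite σ] (J : Ideal (MvPolynomial σ k)) [Module.Finite k (MvPolynomial σ k ⧸ J)] :
    Module.Finite k (Tgt J) := by
  obtain ⟨G, hG⟩ := (Module.finite_def.mp
    (inferInstance : Module.Finite (MvPolynomial σ k) J))
  let L : Tgt J →ₗ[k] (G → MvPolynomial σ k ⧸ J) := LinearMap.pi fun g => evalAt J g.1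
  refine Module.Finite.of_injective L fun φ ψ h => LinearMap.ext_on hG fun g hg => ?_
  exact congrFun h ⟨g, hg⟩

theorem finrank_tgt_le_init [Module.Finite k (MvPolynomial σ k ⧸ I)] :
    Module.finrank k (Tgt I) ≤ Module.finrank k (Tgt (init m I)) := by
  classical
  haveI := finite_init m I
  haveI := finite_tgt (σ := σ) I
  haveI := finite_tgt (σ := σ) (init m I)
  obtain ⟨B, hB, hgen⟩ := exists_gens (isMonomial_init (m := m) (I := I))
  rw [exps_init] at hgen
  have hB' : (B : Set (σ →₀ ℕ)) ⊆ degs m I := fun b hb => exps_init (m := m) (I := I) ▸ hB b hb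
  let N : σ →₀ ℕ := ∑ b ∈ B, b
  have hN : ∀ b ∈ (B : Set (σ →₀ ℕ)), b ≤ N := fun b hb => Finset.single_le_sum (f := fun b : σ →₀ ℕ => b) (fun _ _ => bot_le) hb
  let P : Finset (σ →₀ ℕ) := ((finite_compl_degs m I).toFinset ×ˢ B).image fun x => x.1 + (N - x.2)
  have hP : ∀ b ∈ (B : Set (σ →₀ ℕ)), ∀ δ, δ ∉ degs m I → δ + (N - b) ∈ P := fun b hb δ hδ =>
    Finset.mem_image.mpr ⟨(δ, b), Finset.mem_product.mpr ⟨(finite_compl_degs m I).mem_toFinset.mpr hδ, hb⟩, rfl⟩
  have hind : ∀ Q : Finset (σ →₀ ℕ), Q ⊆ P → (∀ x ∈ P, ∀ y ∈ Q, x ≼[m] y → x ∈ Q) →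
      Module.finrank k (H m I N Q) ≤ ∑ γ ∈ Q, Module.finrank k (tPiece (init m I) (shiftOf N γ)) := by
    intro Q
    induction Q using Finset.induction_on_max_value (fun x => m.toSyn x) with
    | empty =>
      intro _ _
      rw [Finset.sum_empty, Nat.le_zero, Submodule.finrank_eq_zero, Submodule.eq_bot_iff]
      intro φ hφ
      refine LinearMap.ext fun f => ?_
      rw [LinearMap.zero_apply, ← mk_nf (m := m) (φ f)]
      rw [show nf m I (φ f) = 0 from MvPolynomial.ext _ _ fun δ => ?_, map_zero]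
      rw [coeff_zero]
      by_contra h
      by_cases hf : (f : MvPolynomial σ k) = 0
      · rw [show f = 0 from Subtype.ext hf, map_zero, map_zero, coeff_zero] at h
        exact h rfl
      · obtain ⟨γ, hγ, -⟩ := hφ f hf δ h
        exact absurd hγ (Finset.notMem_empty _)
    | insert a Q haQ hmax ih =>
      intro hsub hcl
      have hlt : ∀ x ∈ Q, x ≺[m] a := fun x hx =>
        lt_of_le_of_ne (hmax x hx) fun e => haQ (m.toSyn.injective e ▸ hx)
      have hsub' : Q ⊆ P := (Finset.subset_insert a Q).trans hsub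
      have hcl' : ∀ x ∈ P, ∀ y ∈ Q, x ≼[m] y → x ∈ Q := fun x hx y hy hxy =>
        (Finset.mem_insert.mp (hcl x hx y (Finset.mem_insert_of_mem hy) hxy)).resolve_left fun e =>
          absurd (hlt y hy) (not_lt.mpr (e ▸ hxy))
      rw [Finset.sum_insert haQ, add_comm]
      refine (layer m I N hB' hgen hN hlt fun b hb δ hδ hlt' => ?_).trans (Nat.add_le_add_right (ih hsub' hcl') _)
      exact (Finset.mem_insert.mp (hcl _ (hP b hb δ hδ) a (Finset.mem_insert_self a Q) hlt'.le)).resolve_left
        fun e => lt_irrefl _ (e ▸ hlt')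
  have htop : H m I N P = ⊤ := by
    refine eq_top_iff.mpr fun φ _ => mem_H_of_gens hB' hgen φ fun b hb δ hδ =>
      ⟨δ + (N - b), hP b hb δ (nf_support _ hδ), le_of_eq (congrArg m.toSyn ?_)⟩
    rw [add_left_comm, add_tsub_cancel_of_le (hN b hb)]
  calc Module.finrank k (Tgt I) = Module.finrank k (H m I N P) := by rw [htop, finrank_top]
    _ ≤ ∑ γ ∈ P, Module.finrank k (tPiece (init m I) (shiftOf N γ)) := hind P subset_rfl fun x hx _ _ _ => hx
    _ = Module.finrank k ↥((P.image (shiftOf N)).sup (tPiece (init m I))) := by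
        rw [(finrank_sup_finset isMonomial_init _).2, Finset.sum_image shiftOf_injective.injOn]
    _ ≤ Module.finrank k (Tgt (init m I)) := Submodule.finrank_le _

end Groth.Agent.HilbPnLib.Degen
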