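import Groth.Agent.HilbPnLib.Basic
import Mathlib.Data.Set.Card
import Mathlib.Algebra.MvPolynomial.Rename

/-!
# Strongly stable ideals: staircases and slices
-/

set_option autoImplicit false

open MvPolynomial W4c1hilbpn

universe u

noncomputable section

namespace Groth.Agent.HilbPnLib

variable {k : Type u} [Field k] {I : Ideal (MvPolynomial (Fin 3) k)}

theorem e3_apply (a b c : ℕ) (i : Fin 3) : e3 a b c i = ![a, b, c] i := rfl

theorem e3_le {a b c a' b' c' : ℕ} (h0 : a ≤ a') (h1 : b ≤ b') (h2 : c ≤ c') : e3 a b c ≤ e3 a' b' c' :=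
  Finsupp.le_def.mpr fun i => by fin_cases i <;> simp [e3_apply, h0, h1, h2]

theorem e3_eta (δ : Fin 3 →₀ ℕ) : e3 (δ 0) (δ 1) (δ 2) = δ :=
  Finsupp.ext fun i => by fin_cases i <;> simp [e3_apply]

theorem finite_stairZ [Module.Finite k (MvPolynomial (Fin 3) k ⧸ I)] (hI : IsMonomial I) (a b : ℕ) :
    Finite {c : ℕ // e3 a b c ∉ exps I} := by
  haveI := (finite_compl hI).to_subtype
  exact Finite.of_injective (fun c : {c : ℕ // e3 a b c ∉ exps I} =>
    (⟨e3 a b c.1, c.2⟩ : {δ : Fin 3 →₀ ℕ | δ ∉ exps I}))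
    (fun c c' h => Subtype.ext (by simpa [e3_apply] using DFunLike.congr_fun (congrArg Subtype.val h) 2))

theorem finite_stairY [Module.Finite k (MvPolynomial (Fin 3) k ⧸ I)] (hI : IsMonomial I) (a c : ℕ) :
    Finite {b : ℕ // e3 a b c ∉ exps I} := by
  haveI := (finite_compl hI).to_subtype
  exact Finite.of_injective (fun b : {b : ℕ // e3 a b c ∉ exps I} =>
    (⟨e3 a b.1 c, b.2⟩ : {δ : Fin 3 →₀ ℕ | δ ∉ exps I}))
    (fun b b' h => Subtype.ext (by simpa [e3_apply] using DFunLike.congr_fun (congrArg Subtype.val h) 1))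

theorem stair_succ_le [Module.Finite k (MvPolynomial (Fin 3) k ⧸ I)] (hI : IsStronglyStable I) (i j : ℕ) :
    stairZ I (i + 1) j ≤ stairZ I i (j + 1) ∧ stairY I (i + 1) j ≤ stairY I i (j + 1) := by
  constructor
  · haveI := finite_stairZ hI.1 i (j + 1)
    refine Nat.card_le_card_of_injective
      (fun c : {c : ℕ // e3 (i + 1) j c ∉ exps I} => (⟨c.1, fun h => c.2 ?_⟩ : {c : ℕ // e3 i (j + 1) c ∉ exps I}))
      (fun c c' h => Subtype.ext (congrArg Subtype.val h :))
    have := hI.2 _ h 0 1 (by decide) (by simp [e3_apply])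
    convert this using 1
    ext l
    fin_cases l <;> simp [e3_apply]
  · haveI := finite_stairY hI.1 i (j + 1)
    refine Nat.card_le_card_of_injective
      (fun c : {b : ℕ // e3 (i + 1) b j ∉ exps I} => (⟨c.1, fun h => c.2 ?_⟩ : {b : ℕ // e3 i b (j + 1) ∉ exps I}))
      (fun c c' h => Subtype.ext (congrArg Subtype.val h :))
    have := hI.2 _ h 0 2 (by decide) (by simp [e3_apply])
    convert this using 1
    ext l
    fin_cases l <;> simp [e3_apply]

theorem mem_sliceX (a : ℕ) {f : MvPolynomial (Fin 2) k} :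
    f ∈ sliceX I a ↔ rename Fin.succ f * X 0 ^ a ∈ I := by
  rw [sliceX, Ideal.mem_comap, Submodule.mem_colon_singleton, smul_eq_mul]
  rfl

theorem mapDomain_succ (β : Fin 2 →₀ ℕ) (a : ℕ) :
    β.mapDomain Fin.succ + Finsupp.single 0 a = e3 a (β 0) (β 1) := by
  have hi : Function.Injective (Fin.succ : Fin 2 → Fin 3) := Fin.succ_injective 2
  ext l
  rw [Finsupp.add_apply]
  fin_cases l
  · rw [Finsupp.mapDomain_notin_range _ _ (by rintro ⟨x, h⟩; exact Fin.succ_ne_zero x h)]
    simp [e3_apply]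
  · show β.mapDomain Fin.succ ((0 : Fin 2).succ) + _ = _
    rw [Finsupp.mapDomain_apply hi]
    simp [e3_apply]
  · show β.mapDomain Fin.succ ((1 : Fin 2).succ) + _ = _
    rw [Finsupp.mapDomain_apply hi]
    simp [e3_apply]

theorem exps_sliceX (a : ℕ) (β : Fin 2 →₀ ℕ) : β ∈ exps (sliceX I a) ↔ e3 a (β 0) (β 1) ∈ exps I := by
  show monomial β (1 : k) ∈ sliceX I a ↔ monomial _ (1 : k) ∈ I
  rw [mem_sliceX, rename_monomial, X_pow_eq_monomial, monomial_mul, one_mul, mapDomain_succ]

theorem isMonomial_sliceX (hI : IsMonomial I) (a : ℕ) : IsMonomial (sliceX I a) := by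
  classical
  intro f hf β hβ
  rw [mem_sliceX] at hf
  show β ∈ exps (sliceX I a)
  rw [exps_sliceX, ← mapDomain_succ]
  refine hI _ hf _ ?_
  rw [mem_support_iff, X_pow_eq_monomial, coeff_mul_monomial, mul_one,
    coeff_rename_mapDomain _ (Fin.succ_injective 2)]
  exact mem_support_iff.mp hβ

theorem slice_stable (hI : IsStronglyStable I) (a : ℕ) :
    IsStronglyStable (sliceX I a) ∧
      (sliceX I a).colon {(MvPolynomial.X 0 : MvPolynomial (Fin 2) k)} ≤ sliceX I (a + 1) := by
  refine ⟨⟨isMonomial_sliceX hI.1 a, fun β hβ i j hij hj => ?_⟩, fun f hf => ?_⟩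
  · rw [exps_sliceX] at hβ ⊢
    obtain ⟨rfl, rfl⟩ : i = 0 ∧ j = 1 := by
      fin_cases i <;> fin_cases j <;> simp_all
    have := hI.2 _ hβ 1 2 (by decide) (by simpa [e3_apply] using hj)
    convert this using 1
    ext l
    fin_cases l <;> simp [e3_apply]
  · rw [Submodule.mem_colon_singleton, smul_eq_mul] at hf
    refine mem_of_support fun β hβ => ?_
    have h1 : β + Finsupp.single 0 1 ∈ exps (sliceX I a) := by
      refine (isMonomial_sliceX hI.1 a) _ hf _ ?_
      classical
      rw [mem_support_iff, X, coeff_mul_monomial, mul_one]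
      exact mem_support_iff.mp hβ
    rw [exps_sliceX] at h1 ⊢
    have := hI.2 _ h1 0 1 (by decide) (by simp [e3_apply])
    convert this using 1
    ext l
    fin_cases l <;> simp [e3_apply]

end Groth.Agent.HilbPnLib
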