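import Groth.Agent.HilbPnLib.DualSum
import Groth.Agent.HilbPnLib.Stable

/-!
# Consequences of the duality: the sign-pattern pieces, the rows, parity
-/

set_option autoImplicit false

open MvPolynomial W4c1hilbpn

universe u

noncomputable section

namespace Groth.Agent.HilbPnLib

variable {k : Type u} [Field k] {I : Ideal (MvPolynomial (Fin 3) k)}

open Classical in
/-- a half of the coordinate window -/
def half (R : ℕ) (b : Prop) : Finset ℤ :=
  if b then Finset.Ico (-(R : ℤ)) 0 else Finset.Ico 0 R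

theorem mem_half {R : ℕ} {b : Prop} {a : ℤ} :
    a ∈ half R b ↔ -(R : ℤ) ≤ a ∧ a < R ∧ (a < 0 ↔ b) := by
  unfold half
  split_ifs with h <;> simp [Finset.mem_Ico, h] <;> omega

theorem sum_dual (A B : Fin 3 → Finset ℤ) (h : ∀ i a, a ∈ A i ↔ -a - 1 ∈ B i) (f : (Fin 3 → ℤ) → ℤ) :
    ∑ α ∈ Fintype.piFinset A, f (dual α) = ∑ α ∈ Fintype.piFinset B, f α := by
  refine Finset.sum_nbij' dual dual ?_ ?_ (fun α _ => dual_dual α) (fun α _ => dual_dual α) (fun α _ => rfl)
  · intro α hα
    rw [Fintype.mem_piFinset] at hα ⊢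
    exact fun i => by simpa [dual] using (h i _).mp (hα i)
  · intro α hα
    rw [Fintype.mem_piFinset] at hα ⊢
    exact fun i => (h i _).mpr (by simpa [dual] using hα i)

variable [Module.Finite k (MvPolynomial (Fin 3) k ⧸ I)] (hI : IsMonomial I)

include hI

open Classical in
theorem finrank_sig {R : ℕ} (hR : ∀ α, α ∉ box R → tPiece I α = ⊥) (N : Set (Fin 3)) :
    Module.finrank k ↥(sigPiece I N) =
      ∑ α ∈ Fintype.piFinset (fun j => half R (j ∈ N)), Module.finrank k (tPiece I α) := by
  refine finrank_family hI hR _ _ (fun α hα i => ?_) fun α hb hq => Fintype.mem_piFinset.mpr fun i => ?_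
  · exact (mem_half.mp (Fintype.mem_piFinset.mp hα i)).2.2
  · have := Finset.mem_Ico.mp (Fintype.mem_piFinset.mp hb i)
    exact mem_half.mpr ⟨this.1, this.2, hq i⟩

open Classical in
theorem sig_single (i : Fin 3) :
    Module.finrank k ↥(sigPiece I {i}) =
      Module.finrank k ↥(sigPiece I ({i}ᶜ : Set (Fin 3))) + Module.finrank k (MvPolynomial (Fin 3) k ⧸ I) := by
  classical
  obtain ⟨R, hR, hG⟩ := exists_box hI
  have h := sum_diff hI fun j => half R (j ∈ ({i} : Set (Fin 3)))
  rw [sum_dual _ (fun j => half R (j ∈ ({i}ᶜ : Set (Fin 3)))) (fun j a => by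
    simp only [mem_half, Set.mem_compl_iff, Set.mem_singleton_iff]; omega)
    (fun α => (Module.finrank k (tPiece I α) : ℤ))] at h
  rw [Finset.sum_eq_zero (f := fun α => ((if Good I α then 1 else 0) - (if Good I (dual α) then 1 else 0) : ℤ)) (fun α hα => ?_),
    zero_sub] at h
  · have hp : ∀ p ∈ goodSet hI ×ˢ goodSet hI, ∏ j, ((if p.2 j - p.1 j ∈ half R (j ∈ ({i} : Set (Fin 3))) then 1 else 0) -
        (if p.2 j - p.1 j - 1 ∈ half R (j ∈ ({i} : Set (Fin 3))) then 1 else 0) : ℤ) =
        -(if p.1 = p.2 then (1 : ℤ) else 0) := by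
      rintro ⟨δ, ε⟩ hp
      rw [Finset.mem_product, mem_goodSet, mem_goodSet] at hp
      simp only at hp
      have e : ∀ j, ((if ε j - δ j ∈ half R (j ∈ ({i} : Set (Fin 3))) then 1 else 0) -
          (if ε j - δ j - 1 ∈ half R (j ∈ ({i} : Set (Fin 3))) then 1 else 0) : ℤ) =
          (if j = i then -1 else 1) * (if δ j = ε j then 1 else 0) := by
        intro j
        have := hG _ hp.1 j; have := hG _ hp.2 j; have := hp.1.1 j; have := hp.2.1 j
        simp only [mem_half, Set.mem_singleton_iff]
        by_cases hj : j = i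
        · subst hj; simp only [if_true, iff_true]; split_ifs <;> omega
        · simp only [hj, if_false, iff_false]; split_ifs <;> omega
      simp only [Finset.prod_congr rfl fun j _ => e j, Finset.prod_mul_distrib, Finset.prod_ite_eq',
        Finset.mem_univ, if_true, Fin.prod_univ_three]
      simp only [funext_iff, Fin.forall_fin_succ, Fin.forall_fin_two]
      fin_cases i <;> simp <;> split_ifs <;> simp_all
    rw [Finset.sum_congr rfl hp, Finset.sum_neg_distrib, neg_neg] at h
    rw [Finset.sum_boole] at h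
    rw [finrank_sig hI hR, finrank_sig hI hR, ← card_goodSet hI]
    have hd : ((goodSet hI ×ˢ goodSet hI).filter fun p => p.1 = p.2).card = (goodSet hI).card := by
      rw [← Finset.diag_card (goodSet hI)]
      congr 1
      ext ⟨a, b⟩
      simp only [Finset.mem_filter, Finset.mem_product, Finset.mem_diag]
      exact ⟨fun h => ⟨h.1.1, h.2⟩, fun h => ⟨⟨h.1, h.2 ▸ h.1⟩, h.2⟩⟩
    rw [hd] at h
    zify
    linarith
  · have h1 := Fintype.mem_piFinset.mp hα
    obtain ⟨j, hj⟩ := exists_ne i
    have hi : α i < 0 := (mem_half.mp (h1 i)).2.2.mpr rfl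
    have hj' : ¬ α j < 0 := fun hh => hj ((mem_half.mp (h1 j)).2.2.mp hh)
    rw [if_neg (not_good_of_neg hi), if_neg (not_good_of_neg (i := j) (by simp [dual]; omega)), sub_zero]

theorem row_eq (i j : ℕ) :
    Module.finrank k ↥(⨆ α : {α : Fin 3 → ℤ // α 0 = (i : ℤ) ∧ α 1 = (j : ℤ)}, tPiece I α.1) =
      stairZ I i j +
        Module.finrank k ↥(⨆ α : {α : Fin 3 → ℤ // α 0 = -(i : ℤ) - 1 ∧ α 1 = -(j : ℤ) - 1}, tPiece I α.1) := by
  classical
  obtain ⟨R, hR, hG⟩ := exists_box hI
  let A : Fin 3 → Finset ℤ := ![{(i : ℤ)}, {(j : ℤ)}, Finset.Ico (-(R : ℤ)) R]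
  let B : Fin 3 → Finset ℤ := ![{-(i : ℤ) - 1}, {-(j : ℤ) - 1}, Finset.Ico (-(R : ℤ)) R]
  have h := sum_diff hI A
  rw [sum_dual A B (fun l a => by
      fin_cases l <;> simp [A, B] <;> omega)
    (fun α => (Module.finrank k (tPiece I α) : ℤ))] at h
  have hz : ∀ p ∈ goodSet hI ×ˢ goodSet hI, ∏ l, ((if p.2 l - p.1 l ∈ A l then 1 else 0) -
      (if p.2 l - p.1 l - 1 ∈ A l then 1 else 0) : ℤ) = 0 := by
    intro p hp
    rw [Finset.mem_product, mem_goodSet, mem_goodSet] at hp
    refine Finset.prod_eq_zero (Finset.mem_univ 2) ?_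
    have := hG _ hp.1 2; have := hG _ hp.2 2; have := hp.1.1 2; have := hp.2.1 2
    simp only [A, Finset.mem_Ico, show ∀ x y z : Finset ℤ, ![x, y, z] (2 : Fin 3) = z from fun _ _ _ => rfl]
    split_ifs <;> omega
  rw [Finset.sum_eq_zero hz, sub_zero, Finset.sum_sub_distrib,
    Finset.sum_eq_zero (f := fun α => (if Good I (dual α) then (1 : ℤ) else 0)) (fun α hα => if_neg ?_), sub_zero,
    Finset.sum_boole] at h
  · have hcard : ((Fintype.piFinset A).filter fun α => Good I α).card = stairZ I i j := by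
      rw [← Nat.card_eq_finsetCard, stairZ]
      refine Nat.card_congr
        { toFun := fun α => ⟨(α.1 2).toNat, ?_⟩
          invFun := fun c => ⟨ev (e3 i j c.1), ?_⟩
          left_inv := fun α => ?_
          right_inv := fun c => Subtype.ext (by simp [ev, e3_apply]) }
      · have hm := Finset.mem_filter.mp α.2
        have h0 := Fintype.mem_piFinset.mp hm.1
        convert hm.2.2 using 2
        ext l
        have := hm.2.1 l
        have e0 := h0 0; have e1 := h0 1
        simp [A] at e0 e1
        fin_cases l <;> simp [e3_apply, unev_apply, e0, e1]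
      · refine Finset.mem_filter.mpr ⟨Fintype.mem_piFinset.mpr fun l => ?_, good_ev c.2⟩
        have := hG _ (good_ev c.2) 2
        fin_cases l <;> simp [A, ev, e3_apply] at this ⊢ <;> omega
      · refine Subtype.ext (funext fun l => ?_)
        have hm := Finset.mem_filter.mp α.2
        have h0 := Fintype.mem_piFinset.mp hm.1
        have := hm.2.1 l
        have e0 := h0 0; have e1 := h0 1
        simp [A] at e0 e1
        fin_cases l <;> simp_all [ev, e3_apply]
    rw [finrank_family hI hR _ A ?_ ?_, finrank_family hI hR _ B ?_ ?_]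
    · rw [hcard] at h
      zify
      linarith
    all_goals intro α hα
    all_goals first
      | (have h0 := Fintype.mem_piFinset.mp hα 0; have h1 := Fintype.mem_piFinset.mp hα 1
         simp [A, B] at h0 h1; exact ⟨h0, h1⟩)
      | (intro hq; refine Fintype.mem_piFinset.mpr fun l => ?_
         have := Fintype.mem_piFinset.mp hα l
         fin_cases l <;> simp_all [A, B])
  · refine not_good_of_neg (i := 0) ?_
    have h0 := Fintype.mem_piFinset.mp hα 0
    simp [A] at h0
    simp [dual, h0]
    omega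

theorem finrank_tgt_three :
    Module.finrank k (Tgt I) =
      ∑ i, (Module.finrank k ↥(sigPiece I {i}) + Module.finrank k ↥(sigPiece I ({i}ᶜ : Set (Fin 3)))) := by
  classical
  obtain ⟨R, hR, -⟩ := exists_box hI
  have hfil : ∀ N : Set (Fin 3), Fintype.piFinset (fun j => half R (j ∈ N)) =
      (box R).filter fun α => ∀ j, α j < 0 ↔ j ∈ N := by
    intro N
    ext α
    simp only [Fintype.mem_piFinset, mem_half, box, Finset.mem_filter, Finset.mem_Ico, ← forall_and, and_assoc]
  rw [finrank_tgt hI (box R) hR]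
  simp only [finrank_sig hI hR, hfil, Finset.sum_filter, ← Finset.sum_add_distrib]
  rw [Finset.sum_comm]
  refine Finset.sum_congr rfl fun α _ => ?_
  by_cases hn : ∀ j, 0 ≤ α j
  · rw [piece_eq_bot_of_nonneg hI hn]; simp
  · by_cases hm : ∀ j, α j < 0
    · rw [piece_eq_bot_of_neg hI (by simp) hm]; simp
    · simp only [Fin.forall_fin_succ, Fin.forall_fin_two, Fin.sum_univ_three, Set.mem_singleton_iff,
        Set.mem_compl_iff] at hn hm ⊢
      simp only [Fin.reduceEq, ← not_lt] at hn hm ⊢
      by_cases a : α 0 < 0 <;> by_cases b : α 1 < 0 <;> by_cases c : α 2 < 0 <;> simp_all <;> split_ifs <;> omega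

theorem parity :
    Module.finrank k (Tgt I) % 2 = Module.finrank k (MvPolynomial (Fin 3) k ⧸ I) % 2 := by
  rw [finrank_tgt_three hI, Fin.sum_univ_three, sig_single hI 0, sig_single hI 1, sig_single hI 2]
  omega

end Groth.Agent.HilbPnLib
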