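import Groth.Agent.HilbPnLib.PowVars
import Groth.Agent.HilbPnLib.DualApps
import Mathlib.Data.Finset.NatAntidiagonal
import Mathlib.Data.Finsupp.Interval

/-!
# The tangent space at a power of the irrelevant ideal in three variables
-/

set_option autoImplicit false

open MvPolynomial W4c1hilbpn

universe u

noncomputable section

namespace Groth.Agent.HilbPnLib

variable (k : Type u) [Field k] (r : ℕ)

theorem finite_quot_mPow : Module.Finite k (MvPolynomial (Fin 3) k ⧸ mPow k r (Fin 3)) := by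
  classical
  refine ⟨Submodule.fg_def.mpr ⟨_, ?_, qmon_span _ (isMonomial_mPow k r)⟩⟩
  haveI : Finite {δ : Fin 3 →₀ ℕ | δ ∉ exps (mPow k r (Fin 3))} := by
    refine Set.Finite.to_subtype (Set.Finite.subset (Set.finite_Iic
      (Finsupp.equivFunOnFinite.symm fun _ : Fin 3 => r)) fun δ hδ => ?_)
    have h' : ¬ r ≤ ∑ i, δ i := fun h => hδ ((mem_exps_mPow k r).mpr h)
    refine Set.mem_Iic.mpr (Finsupp.le_def.mpr fun i => ?_)
    have := Finset.single_le_sum (fun j _ => Nat.zero_le (δ j)) (Finset.mem_univ i)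
    simp
    omega
  exact Set.finite_range _

theorem hockey : ∀ r : ℕ, ∑ t ∈ Finset.range r, (t + 2).choose 2 = (r + 2).choose 3
  | 0 => rfl
  | r + 1 => by rw [Finset.sum_range_succ, hockey r, Nat.choose_succ_succ (r + 2) 2, add_comm]

theorem finrank_quot_mPow :
    Module.finrank k (MvPolynomial (Fin 3) k ⧸ mPow k r (Fin 3)) = (r + 2).choose 3 := by
  classical
  haveI := finite_quot_mPow k r
  rw [finrank_quot (isMonomial_mPow k r), Nat.card_congr (α := {δ : Fin 3 →₀ ℕ // δ ∉ exps (mPow k r (Fin 3))}) (β := Σ s : Fin r, {P : Fin 3 → ℕ // ∑ i, P i = s.1})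
    { toFun := fun δ => ⟨⟨∑ i, δ.1 i, Nat.lt_of_not_le fun h => δ.2 ((mem_exps_mPow k r).mpr h)⟩, ⟨δ.1, rfl⟩⟩
      invFun := fun x => ⟨Finsupp.equivFunOnFinite.symm x.2.1, fun h => by
        have h1 : r ≤ ∑ i, x.2.1 i := (mem_exps_mPow k r).mp h
        have := x.2.2; have := x.1.2; omega⟩
      left_inv := fun δ => Subtype.ext (Finsupp.ext fun i => rfl)
      right_inv := fun x => by
        obtain ⟨⟨s, hs⟩, P, hP⟩ := x
        have e : s = ∑ i, P i := hP.symm
        subst e
        rfl },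
    Nat.card_congr (Equiv.sigmaCongrRight fun s : Fin r => (Sym.equivNatSumOfFintype (Fin 3) s.1).symm),
    Nat.card_eq_fintype_card, Fintype.card_sigma]
  simp only [Sym.card_sym_eq_choose, Fintype.card_fin]
  rw [Fin.sum_univ_eq_sum_range (fun s => (3 + s - 1).choose s) r, ← hockey r]
  refine Finset.sum_congr rfl fun s _ => ?_
  rw [show 3 + s - 1 = s + 2 by omega, Nat.choose_symm_add]

theorem weighted : ∀ r : ℕ, ∑ t ∈ Finset.range r, (r - t) * (t + 2).choose 2 = (r + 3).choose 4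
  | 0 => rfl
  | r + 1 => by
    rw [Nat.choose_succ_succ (r + 3) 3, ← weighted r, ← hockey (r + 1), Finset.sum_range_succ,
      Finset.sum_range_succ (fun t => (t + 2).choose 2)]
    have : ∑ t ∈ Finset.range r, (r + 1 - t) * (t + 2).choose 2 =
        ∑ t ∈ Finset.range r, ((t + 2).choose 2 + (r - t) * (t + 2).choose 2) :=
      Finset.sum_congr rfl fun t ht => by
        rw [Nat.sub_add_comm (Finset.mem_range.mp ht).le]; ring
    rw [this, Finset.sum_add_distrib, Nat.add_sub_cancel_left]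
    omega

theorem sig_single_mPow (i : Fin 3) :
    Module.finrank k ↥(sigPiece (mPow k r (Fin 3)) {i}) = (r + 3).choose 4 := by
  classical
  haveI := finite_quot_mPow k r
  have hI : IsMonomial (mPow k r (Fin 3)) := isMonomial_mPow k r
  have hf := fun α => finrank_piece_mPow (k := k) (r := r) (σ := Fin 3) (by simp) α
  simp only [Fintype.card_fin] at hf
  let g : (Σ _ : ℕ, ℕ × ℕ) → (Fin 3 → ℤ) := fun x j =>
    if j = i then -((x.1 : ℤ) + 1) else if j = i + 1 then (x.2.1 : ℤ) else (x.2.2 : ℤ)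
  let D : Finset (Σ _ : ℕ, ℕ × ℕ) := (Finset.range r).sigma Finset.antidiagonal
  have hi : i + 1 ≠ i ∧ i + 2 ≠ i ∧ i + 2 ≠ i + 1 := by fin_cases i <;> decide
  have h3 : ∀ j : Fin 3, j = i ∨ j = i + 1 ∨ j = i + 2 := by fin_cases i <;> decide
  have hsum : ∀ f : Fin 3 → ℤ, ∑ j, f j = f i + f (i + 1) + f (i + 2) := fun f => by
    rw [Fin.sum_univ_three]; fin_cases i <;> simp <;> ring
  have hsum' : ∀ f : Fin 3 → ℕ, ∑ j, f j = f i + f (i + 1) + f (i + 2) := fun f => by
    rw [Fin.sum_univ_three]; fin_cases i <;> simp <;> ring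
  have hq : ∀ x, ∀ j, g x j < 0 ↔ j ∈ ({i} : Set (Fin 3)) := fun x j => by
    rcases h3 j with rfl | rfl | rfl <;> simp [g, hi] <;> omega
  have hinj : Set.InjOn g D := fun x hx y hy e => by
    have e0 := congrFun e i; have e1 := congrFun e (i + 1); have e2 := congrFun e (i + 2)
    simp [g, hi] at e0 e1 e2
    exact Sigma.ext e0 (heq_of_eq (Prod.ext e1 e2))
  have hout : ∀ α : Fin 3 → ℤ, (∀ j, α j < 0 ↔ j ∈ ({i} : Set (Fin 3))) → α ∉ D.image g →
      tPiece (mPow k r (Fin 3)) α = ⊥ := by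
    intro α hα hnot
    haveI := finite_tPiece hI α
    refine Submodule.finrank_eq_zero.mp ?_
    rw [hf, if_neg]
    rintro ⟨hs, hw⟩
    have n0 : α i < 0 := (hα i).mpr rfl
    have n1 : ¬ α (i + 1) < 0 := fun h => hi.1 ((hα _).mp h)
    have n2 : ¬ α (i + 2) < 0 := fun h => hi.2.1 ((hα _).mp h)
    rw [hsum] at hs
    rw [hsum'] at hw
    refine hnot (Finset.mem_image.mpr ⟨⟨((α (i + 1)).toNat + (α (i + 2)).toNat), ((α (i + 1)).toNat, (α (i + 2)).toNat)⟩,
      Finset.mem_sigma.mpr ⟨Finset.mem_range.mpr (by dsimp only; omega), Finset.HasAntidiagonal.mem_antidiagonal.mpr rfl⟩, funext fun j => ?_⟩)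
    rcases h3 j with h | h | h <;> rw [h] <;> simp only [g, hi.1, hi.2.1, hi.2.2, if_true, if_false] <;> omega
  show Module.finrank k ↥(⨆ α : {α : Fin 3 → ℤ // ∀ j, α j < 0 ↔ j ∈ ({i} : Set (Fin 3))},
    tPiece (mPow k r (Fin 3)) α.1) = _
  rw [finrank_iSup hI _ (D.image g) hout, Finset.filter_true_of_mem (fun α hα => by
      obtain ⟨x, -, rfl⟩ := Finset.mem_image.mp hα; exact hq x),
    Finset.sum_image hinj, Finset.sum_sigma, ← weighted r, ← Finset.sum_range_reflect (fun t => (r - t) * (t + 2).choose 2)]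
  refine Finset.sum_congr rfl fun s hs => ?_
  have hs' := Finset.mem_range.mp hs
  rw [Finset.sum_congr rfl (g := fun _ => (r - 1 - s + 2).choose 2) fun x hx => ?_, Finset.sum_const,
    Finset.Nat.card_antidiagonal, smul_eq_mul, show r - (r - 1 - s) = s + 1 by omega]
  rw [Finset.HasAntidiagonal.mem_antidiagonal] at hx
  rw [hf, hsum, hsum']
  simp only [g, hi.1, hi.2.1, hi.2.2, if_true, if_false]
  rw [if_pos ⟨by push_cast [← hx]; ring, by omega⟩]
  congr 1 <;> omega

theorem tgt_mPow (i : Fin 3) :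
    Module.finrank k ↥(sigPiece (mPow k r (Fin 3)) {i}) = (r + 3).choose 4 ∧
      Module.finrank k ↥(sigPiece (mPow k r (Fin 3)) ({i}ᶜ : Set (Fin 3))) = (r + 2).choose 4 ∧
        Module.finrank k (Tgt (mPow k r (Fin 3))) = (r + 2).choose 2 * (r + 1).choose 2 := by
  haveI := finite_quot_mPow k r
  have hI : IsMonomial (mPow k r (Fin 3)) := isMonomial_mPow k r
  have hc : ∀ j : Fin 3, Module.finrank k ↥(sigPiece (mPow k r (Fin 3)) ({j}ᶜ : Set (Fin 3))) = (r + 2).choose 4 := by
    intro j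
    have h := sig_single hI j
    rw [sig_single_mPow, finrank_quot_mPow] at h
    have h' : (r + 3).choose 4 = (r + 2).choose 3 + (r + 2).choose 4 := Nat.choose_succ_succ (r + 2) 3
    omega
  refine ⟨sig_single_mPow k r i, hc i, ?_⟩
  rw [finrank_tgt_three hI]
  simp only [sig_single_mPow, hc, Fin.sum_univ_three]
  have h2 : ∀ n : ℕ, 2 * (n + 1).choose 2 = (n + 1) * n := fun n => by
    induction n with
    | zero => rfl
    | succ n ih => rw [Nat.choose_succ_succ (n + 1) 1, Nat.choose_one_right]; nlinarith [ih]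
  have h3 : ∀ n : ℕ, 6 * (n + 2).choose 3 = (n + 2) * (n + 1) * n := fun n => by
    induction n with
    | zero => rfl
    | succ n ih => rw [Nat.choose_succ_succ (n + 2) 2]; nlinarith [ih, h2 (n + 1)]
  have h4 : ∀ n : ℕ, 24 * (n + 3).choose 4 = (n + 3) * (n + 2) * (n + 1) * n := fun n => by
    induction n with
    | zero => rfl
    | succ n ih => rw [Nat.choose_succ_succ (n + 3) 3]; nlinarith [ih, h3 (n + 1)]
  have e : (r + 3).choose 4 = (r + 2).choose 3 + (r + 2).choose 4 := Nat.choose_succ_succ (r + 2) 3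
  have a := h2 (r + 1); have b := h2 r; have c := h3 r; have d := h4 r
  have hm : 4 * ((r + 2).choose 2 * (r + 1).choose 2) = (r + 2) * (r + 1) * ((r + 1) * r) := by
    rw [← a, ← b]; ring
  nlinarith [hm, c, d, e]

end Groth.Agent.HilbPnLib
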