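import Groth.Agent.HilbPnLib.Degen
import Groth.Agent.HilbPnLib.PowVars3
import Mathlib.Data.Finsupp.MonomialOrder.DegLex
import Mathlib.RingTheory.MvPolynomial.Homogeneous
import Mathlib.Algebra.MvPolynomial.Funext

/-!
# Coordinates in which the initial ideal contains a small power of the first variable
-/

set_option autoImplicit false
set_option linter.style.haveILetI false

open MvPolynomial W4c1hilbpn
open scoped MonomialOrder

universe u

noncomputable section

namespace Groth.Agent.HilbPnLib.DegenCoord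

variable {k : Type u} [Field k]

/-- The images of the variables. -/
def img (a : Fin 3 → k) : Fin 3 → MvPolynomial (Fin 3) k :=
  ![C (a 0) * X 0, C (a 1) * X 0 + X 1, C (a 2) * X 0 + X 2]

/-- A linear change of coordinates. -/
def change (a : Fin 3 → k) (h : a 0 ≠ 0) : MvPolynomial (Fin 3) k ≃ₐ[k] MvPolynomial (Fin 3) k :=
  AlgEquiv.ofAlgHom (aeval (img a))
    (aeval (![C (a 0)⁻¹ * X 0, X 1 - C (a 1 * (a 0)⁻¹) * X 0, X 2 - C (a 2 * (a 0)⁻¹) * X 0] :
      Fin 3 → MvPolynomial (Fin 3) k))
    (algHom_ext fun i => by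
      have h1 : (C (a 0) : MvPolynomial (Fin 3) k) * C (a 0)⁻¹ = 1 := by rw [← C_mul, mul_inv_cancel₀ h, C_1]
      fin_cases i <;> simp [img]
      · linear_combination (X 0 : MvPolynomial (Fin 3) k) * h1
      · linear_combination -(C (a 1) * X 0) * h1
      · linear_combination -(C (a 2) * X 0) * h1)
    (algHom_ext fun i => by
      have h1 : (C (a 0) : MvPolynomial (Fin 3) k) * C (a 0)⁻¹ = 1 := by rw [← C_mul, mul_inv_cancel₀ h, C_1]
      fin_cases i <;> simp [img]
      · linear_combination (X 0 : MvPolynomial (Fin 3) k) * h1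
      · ring
      · ring)

theorem change_apply (a : Fin 3 → k) (h : a 0 ≠ 0) (f : MvPolynomial (Fin 3) k) : change a h f = aeval (img a) f := rfl

theorem totalDegree_img (a : Fin 3 → k) (i : Fin 3) : (img a i).totalDegree ≤ 1 := by
  have hx : ∀ (c : k) (j : Fin 3), (C c * X j : MvPolynomial (Fin 3) k).totalDegree ≤ 1 := fun c j =>
    (totalDegree_mul _ _).trans (by rw [totalDegree_C, totalDegree_X])
  fin_cases i
  · exact hx _ _
  · exact (totalDegree_add _ _).trans (max_le (hx _ _) (totalDegree_X _).le)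
  · exact (totalDegree_add _ _).trans (max_le (hx _ _) (totalDegree_X _).le)

theorem totalDegree_change (a : Fin 3 → k) (h : a 0 ≠ 0) (f : MvPolynomial (Fin 3) k) :
    (change a h f).totalDegree ≤ f.totalDegree := by
  rw [change_apply, aeval_def, eval₂_eq']
  refine totalDegree_finsetSum_le fun c hc => ?_
  refine (totalDegree_mul _ _).trans ?_
  rw [algebraMap_eq, totalDegree_C, zero_add]
  refine (totalDegree_finsetProd _ _).trans ?_
  refine (Finset.sum_le_sum (g := fun i => c i) fun i _ => ?_).trans ?_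
  · exact (totalDegree_pow _ _).trans ((Nat.mul_le_mul_left _ (totalDegree_img a i)).trans (mul_one _).le)
  · refine le_trans (le_of_eq ?_) (le_totalDegree hc)
    rw [Finsupp.sum_fintype _ _ fun _ => rfl]

/-- The restriction to the first axis. -/
def axis : MvPolynomial (Fin 3) k →ₐ[k] Polynomial k := aeval ![Polynomial.X, 0, 0]

theorem coeff_axis (g : MvPolynomial (Fin 3) k) (t : ℕ) :
    (axis g).coeff t = coeff (Finsupp.single 0 t) g := by
  classical
  induction g using MvPolynomial.induction_on' with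
  | add p q hp hq => rw [map_add, Polynomial.coeff_add, coeff_add, hp, hq]
  | monomial c x =>
    rw [axis, aeval_monomial, coeff_monomial, Finsupp.prod_fintype _ _ (fun i => pow_zero _), Fin.prod_univ_three]
    by_cases h1 : c 1 = 0
    · by_cases h2 : c 2 = 0
      · have hc : c = Finsupp.single 0 (c 0) := Finsupp.ext fun i => by fin_cases i <;> simp [h1, h2]
        simp only [h1, h2, pow_zero, mul_one, Matrix.cons_val_zero]
        rw [← Polynomial.C_eq_algebraMap, Polynomial.coeff_C_mul_X_pow]
        refine if_congr ⟨fun e => hc.trans (by rw [e]), fun e => ?_⟩ rfl rfl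
        rw [e, Finsupp.single_eq_same]
      · rw [if_neg fun e => h2 (by rw [e]; simp)]
        simp [zero_pow h2]
    · rw [if_neg fun e => h1 (by rw [e]; simp)]
      simp [zero_pow h1]

theorem coeff_change (a : Fin 3 → k) (h : a 0 ≠ 0) (f : MvPolynomial (Fin 3) k) (t : ℕ) :
    coeff (Finsupp.single 0 t) (change a h f) = eval a (homogeneousComponent t f) := by
  classical
  rw [← coeff_axis, change_apply]
  have e : (axis (k := k)).comp (aeval (img a)) = aeval (fun i => Polynomial.C (a i) * Polynomial.X) := by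
    refine algHom_ext fun i => ?_
    fin_cases i <;> simp [axis, img]
  rw [show axis (aeval (img a) f) = aeval (fun i => Polynomial.C (a i) * Polynomial.X) f from DFunLike.congr_fun e f]
  induction f using MvPolynomial.induction_on' with
  | add p q hp hq => rw [map_add, Polynomial.coeff_add, map_add, map_add, hp, hq]
  | monomial c x =>
    rw [aeval_monomial, Finsupp.prod_fintype _ _ (fun i => pow_zero _),
      homogeneousComponent_of_mem ((mem_homogeneousSubmodule _ _).mpr (isHomogeneous_monomial x rfl))]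
    simp only [mul_pow, Finset.prod_mul_distrib, ← Polynomial.C_pow, Finset.prod_pow_eq_pow_sum, ← map_prod,
      ← Polynomial.C_eq_algebraMap, ← mul_assoc, ← map_mul, Polynomial.coeff_C_mul_X_pow]
    rw [← Finsupp.degree_eq_sum]
    by_cases ht : t = c.degree
    · rw [if_pos ht, if_pos ht, eval_monomial, Finsupp.prod_fintype _ _ (fun i => pow_zero _)]
    · rw [if_neg ht, if_neg ht, map_zero]

theorem le_single_zero {t : ℕ} {c : Fin 3 →₀ ℕ} (h : c.degree ≤ t) :
    c ≼[MonomialOrder.degLex] Finsupp.single 0 t := by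
  rw [MonomialOrder.degLex_le_iff, Finsupp.DegLex.le_iff]
  simp only [ofDegLex_toDegLex, Finsupp.degree_single]
  rcases h.lt_or_eq with h' | h'
  · exact Or.inl h'
  · refine Or.inr ⟨h', ?_⟩
    rw [Finsupp.degree_eq_sum, Fin.sum_univ_three] at h'
    rcases (show c 0 ≤ t by omega).lt_or_eq with h0 | h0
    · refine le_of_lt (Finsupp.Lex.lt_iff.mpr ⟨0, fun j hj => absurd hj (Fin.not_lt_zero j), ?_⟩)
      simpa using h0
    · exact le_of_eq (congrArg toLex (Finsupp.ext fun i => by fin_cases i <;> simp <;> omega))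

/-- An element of the ideal of small degree. -/
theorem exists_low (I : Ideal (MvPolynomial (Fin 3) k)) [Module.Finite k (MvPolynomial (Fin 3) k ⧸ I)] (r : ℕ)
    (hd : Module.finrank k (MvPolynomial (Fin 3) k ⧸ I) ≤ (r + 2).choose 3) :
    ∃ f ∈ I, ∃ t ≤ r, f.totalDegree ≤ t ∧ homogeneousComponent t f ≠ 0 := by
  classical
  set m : MonomialOrder (Fin 3) := MonomialOrder.degLex
  obtain ⟨δ, hδ, hr⟩ : ∃ δ ∈ Degen.degs m I, δ.degree ≤ r := by
    by_contra hcon
    push Not at hcon
    haveI := Degen.finite_init m I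
    haveI := finite_quot_mPow k (r + 1)
    haveI : Finite {δ : Fin 3 →₀ ℕ // δ ∉ exps (Degen.init m I)} :=
      (finite_compl Degen.isMonomial_init).to_subtype
    have hmap : ∀ δ : Fin 3 →₀ ℕ, δ ∉ exps (mPow k (r + 1) (Fin 3)) → δ ∉ exps (Degen.init m I) := fun δ hδ h => by
      rw [Degen.exps_init] at h
      have := hcon δ h
      rw [mem_exps_mPow, ← Finsupp.degree_eq_sum] at hδ
      omega
    have h1 := Nat.card_le_card_of_injective
      (fun δ : {δ : Fin 3 →₀ ℕ // δ ∉ exps (mPow k (r + 1) (Fin 3))} =>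
        (⟨δ.1, hmap δ.1 δ.2⟩ : {δ : Fin 3 →₀ ℕ // δ ∉ exps (Degen.init m I)}))
      fun x y e => Subtype.ext (congrArg Subtype.val e :)
    rw [← finrank_quot (isMonomial_mPow k (r + 1)), ← finrank_quot Degen.isMonomial_init, finrank_quot_mPow,
      Degen.finrank_init, Nat.choose_succ_succ (r + 2) 2] at h1
    have := Nat.choose_pos (show 2 ≤ r + 2 by omega)
    simp only [Nat.reduceSucc] at h1 hd ⊢
    omega
  obtain ⟨f, hf, hne, rfl⟩ := hδ
  refine ⟨f, hf, _, hr, ?_, fun h => ?_⟩
  · refine Finset.sup_le fun c hc => ?_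
    have h := Finsupp.DegLex.monotone_degree (MonomialOrder.degLex_le_iff.mp (m.le_degree hc))
    simpa [Finsupp.degree_apply, Finsupp.sum] using h
  · have h1 := congrArg (coeff (m.degree f)) h
    rw [coeff_homogeneousComponent, if_pos rfl, coeff_zero] at h1
    exact MonomialOrder.coeff_degree_ne_zero_iff.mpr hne h1

theorem exists_coords [Infinite k] (I : Ideal (MvPolynomial (Fin 3) k)) [Module.Finite k (MvPolynomial (Fin 3) k ⧸ I)]
    (r : ℕ) (hd : Module.finrank k (MvPolynomial (Fin 3) k ⧸ I) ≤ (r + 2).choose 3) :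
    ∃ e : MvPolynomial (Fin 3) k ≃ₐ[k] MvPolynomial (Fin 3) k,
      e3 r 0 0 ∈ Degen.degs MonomialOrder.degLex (I.map (e : MvPolynomial (Fin 3) k →+* MvPolynomial (Fin 3) k)) := by
  classical
  obtain ⟨f, hf, t, ht, hdeg, hF⟩ := exists_low I r hd
  obtain ⟨a, ha⟩ : ∃ a, eval a (X 0 * homogeneousComponent t f) ≠ 0 := by
    by_contra h
    push Not at h
    exact mul_ne_zero (X_ne_zero 0) hF (MvPolynomial.funext fun x => by rw [h x, map_zero])
  rw [map_mul, eval_X, mul_ne_zero_iff] at ha
  refine ⟨change a ha.1, ?_⟩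
  set g := change a ha.1 f
  have hc : coeff (Finsupp.single 0 t) g ≠ 0 := by rw [coeff_change]; exact ha.2
  have hgd : (MonomialOrder.degLex : MonomialOrder (Fin 3)).degree g = Finsupp.single 0 t := by
    refine (MonomialOrder.degLex : MonomialOrder (Fin 3)).toSyn.injective (le_antisymm ?_ ?_)
    · refine MonomialOrder.degree_le_iff.mpr fun c hc' => le_single_zero ?_
      refine le_trans (le_of_eq_of_le ?_ (le_totalDegree hc')) ((totalDegree_change a ha.1 f).trans hdeg)
      rfl
    · exact MonomialOrder.le_degree (mem_support_iff.mpr hc)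
  refine Degen.degs_up (β := Finsupp.single 0 t)
    ⟨g, Ideal.mem_map_of_mem _ hf, fun h0 => hc (by rw [h0, coeff_zero]), hgd⟩
    (Finsupp.le_def.mpr fun i => ?_)
  fin_cases i <;> simp [e3_apply, ht]

/-- The tangent space is unchanged by an automorphism of the polynomial ring. -/
theorem tgt_le_map (I : Ideal (MvPolynomial (Fin 3) k)) [Module.Finite k (MvPolynomial (Fin 3) k ⧸ I)]
    (e : MvPolynomial (Fin 3) k ≃ₐ[k] MvPolynomial (Fin 3) k) :
    ∃ (_ : Module.Finite k (MvPolynomial (Fin 3) k ⧸ I.map (e : MvPolynomial (Fin 3) k →+* MvPolynomial (Fin 3) k))),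
      Module.finrank k (MvPolynomial (Fin 3) k ⧸ I.map (e : MvPolynomial (Fin 3) k →+* MvPolynomial (Fin 3) k)) =
          Module.finrank k (MvPolynomial (Fin 3) k ⧸ I) ∧
        Module.finrank k (Tgt I) ≤
          Module.finrank k (Tgt (I.map (e : MvPolynomial (Fin 3) k →+* MvPolynomial (Fin 3) k))) := by
  set J := I.map (e : MvPolynomial (Fin 3) k →+* MvPolynomial (Fin 3) k) with hJ
  let eb : (MvPolynomial (Fin 3) k ⧸ I) ≃ₐ[k] MvPolynomial (Fin 3) k ⧸ J := Ideal.quotientEquivAlg I J e hJ
  haveI : Module.Finite k (MvPolynomial (Fin 3) k ⧸ J) := Module.Finite.equiv eb.toLinearEquiv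
  have hmem : ∀ y : J, e.symm (y : MvPolynomial (Fin 3) k) ∈ I := fun y => by
    obtain ⟨x, hx, hxy⟩ := (Ideal.mem_map_iff_of_surjective _ e.surjective).mp y.2
    rw [← hxy]
    exact (e.symm_apply_apply x).symm ▸ hx
  have hsmul : ∀ (t : MvPolynomial (Fin 3) k) (q : MvPolynomial (Fin 3) k ⧸ I), eb (t • q) = e t • eb q := by
    intro t q
    obtain ⟨x, rfl⟩ := Ideal.Quotient.mk_surjective q
    show Ideal.Quotient.mk J (e (t * x)) = Ideal.Quotient.mk J (e t * e x)
    rw [map_mul]
  let tr : Tgt I → Tgt J := fun φ =>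
    { toFun := fun y => eb (φ ⟨e.symm y, hmem y⟩)
      map_add' := fun y y' => by
        rw [← map_add, ← map_add]
        exact congrArg _ (congrArg _ (Subtype.ext (map_add e.symm _ _)))
      map_smul' := fun s y => by
        rw [RingHom.id_apply, ← e.apply_symm_apply s, ← hsmul, ← map_smul φ]
        refine congrArg _ (congrArg _ (Subtype.ext ?_))
        show e.symm (e (e.symm s) * y) = e.symm s * e.symm y
        rw [map_mul, e.apply_symm_apply] }
  let T : Tgt I →ₗ[k] Tgt J :=
    { toFun := tr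
      map_add' := fun φ ψ => LinearMap.ext fun y => map_add eb _ _
      map_smul' := fun c φ => LinearMap.ext fun y => map_smul eb c _ }
  have hT : Function.Injective T := fun φ ψ h => LinearMap.ext fun x => eb.injective <| by
    have hy : e (x : MvPolynomial (Fin 3) k) ∈ J := Ideal.mem_map_of_mem _ x.2
    have h2 := LinearMap.congr_fun h ⟨_, hy⟩
    rw [show x = ⟨e.symm (e x.1), hmem ⟨_, hy⟩⟩ from Subtype.ext (e.symm_apply_apply _).symm]
    exact h2
  haveI := Degen.finite_tgt (σ := Fin 3) J
  exact ⟨‹_›, eb.toLinearEquiv.finrank_eq.symm, LinearMap.finrank_le_finrank_of_injective hT⟩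

end Groth.Agent.HilbPnLib.DegenCoord
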