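import Groth.Agent.HilbPnLib.Duality
import Mathlib.Algebra.BigOperators.Ring.Finset
import Mathlib.Data.Int.Interval

/-!
# The dimensions of the pieces of degrees `α` and `-α-1`, and their sums over boxes
-/

set_option autoImplicit false

open MvPolynomial W4c1hilbpn

universe u

noncomputable section

namespace Groth.Agent.HilbPnLib

variable {k : Type u} [Field k] {I : Ideal (MvPolynomial (Fin 3) k)}

/-- the dual degree -/
abbrev dual (α : Fin 3 → ℤ) : Fin 3 → ℤ := -α - 1

theorem dual_dual (α : Fin 3 → ℤ) : dual (dual α) = α := by funext i; simp [dual]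

theorem dual_uv (α : Fin 3 → ℤ) (i : Fin 3) : dual α + uv i = -(α + vv i) := by
  funext j; fin_cases i <;> fin_cases j <;> simp [dual, uv, vv] <;> ring

theorem dual_vv (α : Fin 3 → ℤ) (i : Fin 3) : dual α + vv i = -(α + uv i) := by
  funext j; fin_cases i <;> fin_cases j <;> simp [dual, uv, vv] <;> ring

/-- the transposition of pairs -/
def shiftEquiv {ν ν' : Fin 3 → ℤ} (h : ν' = -ν) : XP I ν ≃ XP I ν' where
  toFun γ := ⟨γ.1 + ν, γ.2.2, by rw [h, add_neg_cancel_right]; exact γ.2.1⟩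
  invFun γ := ⟨γ.1 + ν', γ.2.2, by have := γ.2.1; subst h; rwa [neg_add_cancel_right]⟩
  left_inv γ := Subtype.ext (by simp [h])
  right_inv γ := Subtype.ext (by simp [h])

def rowEquiv (I : Ideal (MvPolynomial (Fin 3) k)) (α : Fin 3 → ℤ) : Rw' I α ≃ Cl I (dual α) :=
  Equiv.sigmaCongrRight fun l => shiftEquiv (dual_uv α l)

def colEquiv (I : Ideal (MvPolynomial (Fin 3) k)) (α : Fin 3 → ℤ) : Cl I α ≃ Rw' I (dual α) :=
  Equiv.sigmaCongrRight fun i => shiftEquiv (dual_vv α i)

open Classical in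
theorem fe_single {α : Fin 3 → ℤ} (c : Cl I α) (i : Fin 3) (γ : Fin 3 → ℤ) :
    fe (Pi.single c (1 : k)) i γ = if i = c.1 ∧ γ = c.2.1 then 1 else 0 := by
  obtain ⟨j, η, hη⟩ := c
  unfold fe ext0
  split_ifs with hg h h
  · obtain ⟨rfl, rfl⟩ := h
    simp [Pi.single_apply]
  · dsimp only
    rw [Pi.single_apply, if_neg]
    intro e
    obtain ⟨rfl, e2⟩ := Sigma.mk.inj_iff.mp e
    exact h ⟨rfl, congrArg Subtype.val (eq_of_heq e2)⟩
  · obtain ⟨rfl, rfl⟩ := h
    exact absurd hη hg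
  · rfl

variable [Module.Finite k (MvPolynomial (Fin 3) k ⧸ I)] (hI : IsMonomial I)

include hI

open Classical in
theorem rank_d1 (α : Fin 3 → ℤ) :
    Module.finrank k (LinearMap.range (d1 I α)) = Module.finrank k (LinearMap.range (d1 I (dual α))) := by
  haveI : ∀ ν : Fin 3 → ℤ, Fintype (XP I ν) := fun ν => @Fintype.ofFinite _ (finite_XP hI ν)
  have hM : LinearMap.toMatrix' (d1 I α) =
      (LinearMap.toMatrix' (d1 I (dual α))).transpose.submatrix (rowEquiv I α) (colEquiv I α) := by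
    ext ⟨l, γ, hγ⟩ ⟨i, η, hη⟩
    rw [Matrix.submatrix_apply, Matrix.transpose_apply, LinearMap.toMatrix'_apply, LinearMap.toMatrix'_apply]
    show ((fe (Pi.single (⟨i, η, hη⟩ : Cl I α) (1 : k)) (l + 2) (γ + uv (l + 1)) - _) - (_ - _) : k) =
      (fe _ (i + 2) (η + (α + uv i) + uv (i + 1)) - fe _ (i + 2) (η + (α + uv i))) -
        (fe _ (i + 1) (η + (α + uv i) + uv (i + 2)) - fe _ (i + 1) (η + (α + uv i)))
    simp only [fe_single]
    have e1 : (rowEquiv I α ⟨l, γ, hγ⟩).1 = l := rfl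
    have e2 : (rowEquiv I α ⟨l, γ, hγ⟩).2.1 = γ + (α + vv l) := rfl
    simp only [e1, e2]
    have h3 : ∀ i l : Fin 3, i = l ∨ i = l + 1 ∨ i = l + 2 := by decide
    obtain rfl | rfl | rfl := h3 i l
    · have h1 : ∀ m : Fin 3, m + 2 ≠ m ∧ m + 1 ≠ m := by decide
      simp [(h1 i).1, (h1 i).2]
    · have h1 : ∀ m : Fin 3, m + 2 ≠ m + 1 ∧ m + 1 + 2 = m ∧ m + 1 + 1 ≠ m ∧ m + 1 + 1 = m + 2 := by decide
      obtain ⟨ha, hb, hc, hd⟩ := h1 l
      have i1 : (η + (α + uv (l + 1)) + uv (l + 1 + 1) = γ + (α + vv l)) ↔ (γ = η) := by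
        simp only [vv, hd, funext_iff, Pi.add_apply]
        exact ⟨fun h j => by linarith [h j], fun h j => by linarith [h j]⟩
      have i2 : (η + (α + uv (l + 1)) = γ + (α + vv l)) ↔ (γ + uv (l + 2) = η) := by
        simp only [vv, funext_iff, Pi.add_apply]
        exact ⟨fun h j => by linarith [h j], fun h j => by linarith [h j]⟩
      simp only [hb, i1, i2, ha, hc, true_and, false_and, ite_false, sub_zero, zero_sub, neg_sub]
    · have h1 : ∀ m : Fin 3, m + 1 ≠ m + 2 ∧ m + 2 + 1 = m ∧ m + 2 + 2 ≠ m ∧ m + 2 + 2 = m + 1 := by decide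
      obtain ⟨ha, hb, hc, hd⟩ := h1 l
      have i1 : (η + (α + uv (l + 2)) + uv (l + 2 + 2) = γ + (α + vv l)) ↔ (γ = η) := by
        simp only [vv, hd, funext_iff, Pi.add_apply]
        exact ⟨fun h j => by linarith [h j], fun h j => by linarith [h j]⟩
      have i2 : (η + (α + uv (l + 2)) = γ + (α + vv l)) ↔ (γ + uv (l + 1) = η) := by
        simp only [vv, funext_iff, Pi.add_apply]
        exact ⟨fun h j => by linarith [h j], fun h j => by linarith [h j]⟩
      simp only [hb, i1, i2, ha, hc, true_and, false_and, ite_false, sub_zero, zero_sub, neg_sub]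
  have key : ∀ {m n : Type} [Fintype n] [DecidableEq n] (f : (n → k) →ₗ[k] (m → k)),
      Module.finrank k (LinearMap.range f) = (LinearMap.toMatrix' f).rank := fun f => by
    rw [Matrix.rank, ← Matrix.toLin'_apply', Matrix.toLin'_toMatrix']
  rw [key, key, hM, Matrix.rank_submatrix, Matrix.rank_transpose]

/-- the points outside the ideal -/
def goodSet : Finset (Fin 3 → ℤ) := (finite_good hI).toFinset

theorem mem_goodSet {γ : Fin 3 → ℤ} : γ ∈ goodSet hI ↔ Good I γ := (finite_good hI).mem_toFinset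

theorem card_goodSet : (goodSet hI).card = Module.finrank k (MvPolynomial (Fin 3) k ⧸ I) := by
  rw [finrank_quot hI, ← Nat.card_eq_finsetCard]
  exact Nat.card_congr
    { toFun := fun γ => ⟨unev γ.1, ((mem_goodSet hI).mp γ.2).2⟩
      invFun := fun δ => ⟨ev δ.1, (mem_goodSet hI).mpr (good_ev δ.2)⟩
      left_inv := fun γ => Subtype.ext (ev_unev ((mem_goodSet hI).mp γ.2).1)
      right_inv := fun δ => Subtype.ext (unev_ev δ.1) }

open Classical in
theorem card_XP (ν : Fin 3 → ℤ) :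
    (Nat.card (XP I ν) : ℤ) = ∑ p ∈ goodSet hI ×ˢ goodSet hI, if p.2 - p.1 = ν then (1 : ℤ) else 0 := by
  rw [Finset.sum_boole]
  congr 1
  rw [← Nat.card_eq_finsetCard]
  exact Nat.card_congr
    { toFun := fun γ => ⟨(γ.1, γ.1 + ν), Finset.mem_filter.mpr
        ⟨Finset.mem_product.mpr ⟨(mem_goodSet hI).mpr γ.2.1, (mem_goodSet hI).mpr γ.2.2⟩, add_sub_cancel_left _ _⟩⟩
      invFun := fun p => ⟨p.1.1, (mem_goodSet hI).mp (Finset.mem_product.mp (Finset.mem_filter.mp p.2).1).1, 
        (sub_eq_iff_eq_add'.mp (Finset.mem_filter.mp p.2).2) ▸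
          (mem_goodSet hI).mp (Finset.mem_product.mp (Finset.mem_filter.mp p.2).1).2⟩
      left_inv := fun γ => rfl
      right_inv := fun p => Subtype.ext (Prod.ext rfl (sub_eq_iff_eq_add'.mp (Finset.mem_filter.mp p.2).2).symm) }

omit [Module.Finite k (MvPolynomial (Fin 3) k ⧸ I)] hI in
/-- `[t = 0] - [t = 1]` -/
def kap (t : ℤ) : ℤ := (if t = 0 then 1 else 0) - (if t = 1 then 1 else 0)

open Classical in
theorem finrank_diff (α : Fin 3 → ℤ) :
    (Module.finrank k (tPiece I α) : ℤ) - Module.finrank k (tPiece I (dual α)) =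
      (if Good I α then 1 else 0) - (if Good I (dual α) then 1 else 0) -
        ∑ p ∈ goodSet hI ×ˢ goodSet hI, ∏ i, kap (p.2 i - p.1 i - α i) := by
  have h1 := finrank_eq hI α
  have h2 := finrank_eq hI (dual α)
  rw [← rank_d1 hI α] at h2
  have hx : Nat.card (XP I (dual α)) = Nat.card (XP I (α + 1)) :=
    Nat.card_congr (shiftEquiv (by funext j; simp [dual]; ring)).symm
  have hy : ∀ i, Nat.card (XP I (dual α + uv i)) = Nat.card (XP I (α + vv i)) := fun i =>
    (Nat.card_congr (shiftEquiv (dual_uv α i))).symm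
  simp only [hx, hy] at h2
  have e1 := congrArg (Nat.cast : ℕ → ℤ) h1
  have e2 := congrArg (Nat.cast : ℕ → ℤ) h2
  push_cast at e1 e2
  have hexp : ∀ t : Fin 3 → ℤ, ∏ i, kap (t i - α i) =
      (if t = α then (1 : ℤ) else 0) - (if t = α + 1 then 1 else 0) -
        ∑ i, (if t = α + uv i then (1 : ℤ) else 0) + ∑ i, (if t = α + vv i then (1 : ℤ) else 0) := by
    intro t
    have hind : ∀ v : Fin 3 → ℤ, (if t = α + v then (1 : ℤ) else 0) =
        (if t 0 - α 0 = v 0 then 1 else 0) * (if t 1 - α 1 = v 1 then 1 else 0) * (if t 2 - α 2 = v 2 then 1 else 0) := by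
      intro v
      by_cases h : t = α + v
      · rw [if_pos h, h]; simp
      · rw [if_neg h]
        rw [funext_iff, Fin.forall_fin_succ, Fin.forall_fin_two] at h
        simp only [Pi.add_apply, not_and_or] at h
        rcases h with h | h | h
        · rw [if_neg (fun e => h (by omega))]; ring
        · rw [if_neg (fun e : t 1 - α 1 = v 1 => h (by show t 1 = α 1 + v 1; omega))]; ring
        · rw [if_neg (fun e : t 2 - α 2 = v 2 => h (by show t 2 = α 2 + v 2; omega))]; ring
    have h0 := hind 0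
    rw [add_zero] at h0
    rw [h0, hind 1]
    simp only [hind, Fin.prod_univ_three, Fin.sum_univ_three, kap, vv, uv]
    simp [Pi.single_apply]
    split_ifs <;> omega
  have hsum : ∑ p ∈ goodSet hI ×ˢ goodSet hI, ∏ i, kap (p.2 i - p.1 i - α i) =
      (Nat.card (XP I α) : ℤ) - Nat.card (XP I (α + 1)) - ∑ i, (Nat.card (XP I (α + uv i)) : ℤ) +
        ∑ i, (Nat.card (XP I (α + vv i)) : ℤ) := by
    simp only [card_XP hI]
    rw [Finset.sum_comm, Finset.sum_comm (s := Finset.univ) (t := goodSet hI ×ˢ goodSet hI),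
      ← Finset.sum_sub_distrib, ← Finset.sum_sub_distrib, ← Finset.sum_add_distrib]
    exact Finset.sum_congr rfl fun p _ => hexp (p.2 - p.1)
  rw [hsum]
  linarith

omit [Module.Finite k (MvPolynomial (Fin 3) k ⧸ I)] hI in
theorem sum_kap (A : Finset ℤ) (d : ℤ) :
    ∑ a ∈ A, kap (d - a) = (if d ∈ A then 1 else 0) - (if d - 1 ∈ A then 1 else 0) := by
  simp only [kap, Finset.sum_sub_distrib]
  rw [Finset.sum_congr rfl (g := fun a => if d = a then (1 : ℤ) else 0) (fun a _ => if_congr sub_eq_zero rfl rfl),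
    Finset.sum_congr rfl (f := fun a => if d - a = 1 then (1 : ℤ) else 0) (g := fun a => if d - 1 = a then (1 : ℤ) else 0)
      (fun a _ => if_congr ⟨fun h => by omega, fun h => by omega⟩ rfl rfl), Finset.sum_ite_eq, Finset.sum_ite_eq]

open Classical in
theorem sum_diff (A : Fin 3 → Finset ℤ) :
    ∑ α ∈ Fintype.piFinset A, (Module.finrank k (tPiece I α) : ℤ) -
      ∑ α ∈ Fintype.piFinset A, (Module.finrank k (tPiece I (dual α)) : ℤ) =
    ∑ α ∈ Fintype.piFinset A, ((if Good I α then 1 else 0) - (if Good I (dual α) then 1 else 0) : ℤ) -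
      ∑ p ∈ goodSet hI ×ˢ goodSet hI, ∏ i, ((if p.2 i - p.1 i ∈ A i then 1 else 0) -
        (if p.2 i - p.1 i - 1 ∈ A i then 1 else 0) : ℤ) := by
  rw [← Finset.sum_sub_distrib, Finset.sum_congr rfl fun α _ => finrank_diff hI α, Finset.sum_sub_distrib,
    Finset.sum_comm]
  congr 1
  refine Finset.sum_congr rfl fun p _ => ?_
  rw [← Finset.prod_congr rfl fun i _ => sum_kap (A i) (p.2 i - p.1 i), Finset.prod_univ_sum]

omit [Module.Finite k (MvPolynomial (Fin 3) k ⧸ I)] hI in
/-- the cube of radius `R` -/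
def box (R : ℕ) : Finset (Fin 3 → ℤ) := Fintype.piFinset fun _ => Finset.Ico (-(R : ℤ)) R

theorem exists_box : ∃ R : ℕ, (∀ α, α ∉ box R → tPiece I α = ⊥) ∧ ∀ γ, Good I γ → ∀ i, γ i < (R : ℤ) := by
  classical
  obtain ⟨A, -, hA⟩ := exists_support hI
  refine ⟨(A ∪ goodSet hI).sup (fun α => Finset.univ.sup fun i => (α i).natAbs) + 1,
    fun α hα => hA α fun h => hα ?_, fun γ hγ i => ?_⟩
  · refine Fintype.mem_piFinset.mpr fun i => Finset.mem_Ico.mpr ?_
    have h1 := Finset.le_sup (f := fun α => Finset.univ.sup fun i => (α i).natAbs) (Finset.mem_union_left (goodSet hI) h)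
    have h2 := Finset.le_sup (f := fun i => (α i).natAbs) (Finset.mem_univ i)
    omega
  · have h1 := Finset.le_sup (f := fun α => Finset.univ.sup fun i => (α i).natAbs)
      (Finset.mem_union_right A ((mem_goodSet hI).mpr hγ))
    have h2 := Finset.le_sup (f := fun i => (γ i).natAbs) (Finset.mem_univ i)
    omega

theorem finrank_family {R : ℕ} (hR : ∀ α, α ∉ box R → tPiece I α = ⊥) (q : (Fin 3 → ℤ) → Prop)
    (A : Fin 3 → Finset ℤ) (h1 : ∀ α ∈ Fintype.piFinset A, q α) (h2 : ∀ α ∈ box R, q α → α ∈ Fintype.piFinset A) :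
    Module.finrank k ↥(⨆ α : {α : Fin 3 → ℤ // q α}, tPiece I α.1) =
      ∑ α ∈ Fintype.piFinset A, Module.finrank k (tPiece I α) := by
  classical
  rw [finrank_iSup hI q (Fintype.piFinset A) fun α hq hα => hR α fun hb => hα (h2 α hb hq),
    Finset.filter_true_of_mem h1]

end Groth.Agent.HilbPnLib
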