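import Groth.Agent.HilbPnLib.Decomp
import Mathlib.LinearAlgebra.Matrix.Rank
import Mathlib.LinearAlgebra.Dimension.Constructions
import Mathlib.Tactic.LinearCombination

/-!
# Duality of the graded pieces in three variables

`finrank_diff`: the difference of the dimensions of the pieces of degrees `α` and `-α-1`, obtained
from the Koszul complex on the functions of pairs of monomials outside the ideal.
-/

set_option autoImplicit false

open MvPolynomial W4c1hilbpn

universe u

noncomputable section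

namespace Groth.Agent.HilbPnLib

variable {k : Type u} [Field k] {I : Ideal (MvPolynomial (Fin 3) k)}

/-- unit vector -/
abbrev uv (i : Fin 3) : Fin 3 → ℤ := Pi.single i 1

/-- sum of the other two unit vectors -/
abbrev vv (l : Fin 3) : Fin 3 → ℤ := uv (l + 1) + uv (l + 2)

/-- an integer vector that is an exponent of the ideal -/
def InExp (I : Ideal (MvPolynomial (Fin 3) k)) (γ : Fin 3 → ℤ) : Prop := (∀ i, 0 ≤ γ i) ∧ unev γ ∈ exps I

theorem good_iff {γ : Fin 3 → ℤ} : Good I γ ↔ (∀ i, 0 ≤ γ i) ∧ ¬ InExp I γ :=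
  ⟨fun h => ⟨h.1, fun h' => h.2 h'.2⟩, fun h => ⟨h.1, fun h' => h.2 ⟨h.1, h'⟩⟩⟩

theorem inExp_mono {x y : Fin 3 → ℤ} (h : InExp I x) (hle : x ≤ y) : InExp I y :=
  ⟨fun i => (h.1 i).trans (hle i), exps_up h.2 (Finsupp.le_def.mpr fun i => by
    rw [unev_apply, unev_apply]; exact Int.toNat_le_toNat (hle i))⟩

theorem not_good_of_neg {x : Fin 3 → ℤ} {i : Fin 3} (h : x i < 0) : ¬ Good I x :=
  fun hg => absurd (hg.1 i) (not_le.mpr h)

theorem exists_neg {x : Fin 3 → ℤ} (h : ¬ InExp I x) (hg : ¬ Good I x) : ∃ i, x i < 0 := by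
  by_contra hc
  push Not at hc
  exact hg (good_iff.mpr ⟨hc, h⟩)

theorem le_add_uv (x : Fin 3 → ℤ) (i : Fin 3) : x ≤ x + uv i := fun j => by
  by_cases h : j = i <;> simp [uv, Pi.single_apply, h]

/-- the pairs of outside exponents of difference `ν` -/
abbrev XP (I : Ideal (MvPolynomial (Fin 3) k)) (ν : Fin 3 → ℤ) : Type :=
  {γ : Fin 3 → ℤ // Good I γ ∧ Good I (γ + ν)}

abbrev Cl (I : Ideal (MvPolynomial (Fin 3) k)) (α : Fin 3 → ℤ) : Type := Σ i : Fin 3, XP I (α + uv i)

abbrev Rw' (I : Ideal (MvPolynomial (Fin 3) k)) (α : Fin 3 → ℤ) : Type := Σ l : Fin 3, XP I (α + vv l)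

open Classical in
/-- extension by zero -/
def ext0 {ν : Fin 3 → ℤ} (h : XP I ν → k) (γ : Fin 3 → ℤ) : k :=
  if hγ : Good I γ ∧ Good I (γ + ν) then h ⟨γ, hγ⟩ else 0

theorem ext0_zero {ν : Fin 3 → ℤ} (h : XP I ν → k) {γ : Fin 3 → ℤ} (hγ : ¬ (Good I γ ∧ Good I (γ + ν))) :
    ext0 h γ = 0 := dif_neg hγ

theorem ext0_add {ν : Fin 3 → ℤ} (h h' : XP I ν → k) (γ : Fin 3 → ℤ) :
    ext0 (h + h') γ = ext0 h γ + ext0 h' γ := by
  unfold ext0; split_ifs <;> simp

theorem ext0_smul {ν : Fin 3 → ℤ} (c : k) (h : XP I ν → k) (γ : Fin 3 → ℤ) :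
    ext0 (c • h) γ = c * ext0 h γ := by
  unfold ext0; split_ifs <;> simp

variable {α : Fin 3 → ℤ}

/-- component `i`, extended by zero -/
def fe (f : Cl I α → k) (i : Fin 3) : (Fin 3 → ℤ) → k := ext0 fun γ : XP I (α + uv i) => f ⟨i, γ⟩

theorem fe_add (f g : Cl I α → k) (i : Fin 3) (γ : Fin 3 → ℤ) : fe (f + g) i γ = fe f i γ + fe g i γ :=
  ext0_add _ _ _

theorem fe_smul (c : k) (f : Cl I α → k) (i : Fin 3) (γ : Fin 3 → ℤ) : fe (c • f) i γ = c * fe f i γ :=
  ext0_smul _ _ _

theorem fe_zero_neg (f : Cl I α → k) {i : Fin 3} {γ : Fin 3 → ℤ} {j : Fin 3}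
    (h : (γ + α + uv i) j < 0) : fe f i γ = 0 :=
  ext0_zero _ fun h' => not_good_of_neg (x := γ + (α + uv i)) (by rwa [← add_assoc]) h'.2

/-- the second differential -/
def d1 (I : Ideal (MvPolynomial (Fin 3) k)) (α : Fin 3 → ℤ) : (Cl I α → k) →ₗ[k] (Rw' I α → k) where
  toFun f r := (fe f (r.1 + 2) (r.2.1 + uv (r.1 + 1)) - fe f (r.1 + 2) r.2.1) -
    (fe f (r.1 + 1) (r.2.1 + uv (r.1 + 2)) - fe f (r.1 + 1) r.2.1)
  map_add' f g := funext fun r => by simp [fe_add]; ring
  map_smul' c f := funext fun r => by simp [fe_smul]; ring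

/-- potentials: functions on the nonnegative `γ` with `γ + α` outside, constant along the steps in the ideal -/
def Pot (I : Ideal (MvPolynomial (Fin 3) k)) (α : Fin 3 → ℤ) : Submodule k ((Fin 3 → ℤ) → k) where
  carrier := {G | (∀ γ, ¬ ((∀ i, 0 ≤ γ i) ∧ Good I (γ + α)) → G γ = 0) ∧
    ∀ γ i, InExp I γ → Good I (γ + α + uv i) → G (γ + uv i) = G γ}
  zero_mem' := ⟨fun _ _ => rfl, fun _ _ _ _ => rfl⟩
  add_mem' := fun ha hb => ⟨fun γ h => by simp [ha.1 γ h, hb.1 γ h],
    fun γ i h h' => by simp [ha.2 γ i h h', hb.2 γ i h h']⟩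
  smul_mem' := fun c G ha => ⟨fun γ h => by simp [ha.1 γ h], fun γ i h h' => by simp [ha.2 γ i h h']⟩

theorem pot_step (G : Pot I α) {γ γ' : region I α} (hadj : (stepGraph (Fin 3)).Adj γ.1 γ'.1) :
    G.1 (γ.1 - α) = G.1 (γ'.1 - α) := by
  have key : ∀ (x : Fin 3 → ℤ) (i : Fin 3), x ∈ region I α → x + uv i ∈ region I α →
      G.1 (x - α) = G.1 (x + uv i - α) := by
    intro x i hx hx'
    obtain ⟨β, hβ, e⟩ := (mem_region_iff.mp hx).1
    by_cases hg : Good I (x + uv i)
    · rw [add_sub_right_comm]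
      refine (G.2.2 _ i ?_ (by rwa [sub_add_cancel])).symm
      rw [e, add_sub_cancel_right]
      exact ⟨ev_nonneg β, by rwa [unev_ev]⟩
    · obtain ⟨j, hj⟩ := exists_neg (fun h => (mem_region_iff.mp hx').2 h) hg
      rw [G.2.1 _ fun h => not_good_of_neg (x := x - α + α) (i := j) (by
            rw [sub_add_cancel]; exact lt_of_le_of_lt (le_add_uv x i j) hj) h.2,
        G.2.1 _ fun h => not_good_of_neg (x := x + uv i - α + α) (i := j) (by rwa [sub_add_cancel]) h.2]
  obtain ⟨i, hne, h | h⟩ := adj_iff.mp hadj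
  · have e : γ'.1 = γ.1 + uv i := funext fun j => by
      rcases eq_or_ne j i with rfl | hj
      · simp [uv, h]
      · simp [uv, hj, hne j hj]
    rw [e]
    exact key _ i γ.2 (e ▸ γ'.2)
  · have e : γ.1 = γ'.1 + uv i := funext fun j => by
      rcases eq_or_ne j i with rfl | hj
      · simp [uv, h]
      · simp [uv, hj, hne j hj]
    rw [e]
    exact (key _ i γ'.2 (e ▸ γ.2)).symm

theorem pot_reach (G : Pot I α) {γ γ' : region I α}
    (h : ((stepGraph (Fin 3)).induce (region I α)).Reachable γ γ') : G.1 (γ.1 - α) = G.1 (γ'.1 - α) := by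
  obtain ⟨w⟩ := h
  induction w with
  | nil => rfl
  | @cons a b c hadj _ ih => exact (pot_step G hadj).trans ih

theorem coefOf_not_good (w : GoodComp I α → k) {β : Fin 3 →₀ ℕ} (h : ¬ Good I (ev β + α)) : coefOf w β = 0 := by
  unfold coefOf
  split_ifs with hr hc
  · exact absurd (good_of_mem_region hr (hc ⟨_, hr⟩ rfl)) h
  · rfl
  · rfl

open Classical in
/-- a potential is its part on the ideal and its part outside -/
def potEquiv (I : Ideal (MvPolynomial (Fin 3) k)) (α : Fin 3 → ℤ) :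
    Pot I α ≃ₗ[k] (GoodComp I α → k) × (XP I α → k) where
  toFun G := (fun c => G.1 (c.1.out.1 - α), fun γ => G.1 γ.1)
  map_add' G H := rfl
  map_smul' c G := rfl
  invFun p := ⟨fun γ => if InExp I γ then coefOf p.1 (unev γ) else ext0 p.2 γ, fun γ h => by
      dsimp only
      split_ifs with hin
      · exact coefOf_not_good _ fun hg => h ⟨hin.1, by rwa [ev_unev hin.1] at hg⟩
      · exact ext0_zero _ fun hg => h ⟨hg.1.1, hg.2⟩,
    fun γ i hin hg => by
      have hin' : InExp I (γ + uv i) := inExp_mono hin (le_add_uv γ i)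
      dsimp only
      rw [if_pos hin, if_pos hin']
      have e : ev (unev γ) + α = γ + α := by rw [ev_unev hin.1]
      have e' : ev (unev (γ + uv i)) + α = γ + α + uv i := by rw [ev_unev hin'.1, add_right_comm]
      have hr : ev (unev γ) + α ∈ region I α := ev_add_mem_region hin.2 fun h' =>
        (good_iff.mp hg).2 (inExp_mono (show InExp I (γ + α) by rw [← e]; exact h') (le_add_uv _ i))
      have hr' : ev (unev (γ + uv i)) + α ∈ region I α := good_mem_region hin'.2 (by rwa [e'])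
      have hadj : (stepGraph (Fin 3)).Adj (ev (unev γ) + α) (ev (unev (γ + uv i)) + α) := by
        rw [e, e']
        exact step_adj (i := i) (by simp [uv]) fun j hj => by simp [uv, hj]
      have hc := compOf_eq_of_adj hr hr' hadj
      unfold coefOf
      rw [dif_pos hr', dif_pos hr]
      simp only [hc]⟩
  left_inv G := by
    refine Subtype.ext (funext fun γ => ?_)
    dsimp only
    split_ifs with hin
    · have e : ev (unev γ) + α = γ + α := by rw [ev_unev hin.1]
      unfold coefOf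
      split_ifs with hr hc
      · refine (pot_reach G (SimpleGraph.ConnectedComponent.exact (Quot.out_eq (compOf hr)))).trans ?_
        show G.1 (ev (unev γ) + α - α) = _
        rw [e, add_sub_cancel_right]
      · push Not at hc
        obtain ⟨γ', hγ', j, hj⟩ := hc
        rw [SimpleGraph.ConnectedComponent.mem_supp_iff] at hγ'
        have h := pot_reach G (SimpleGraph.ConnectedComponent.exact hγ')
        rw [G.2.1 (γ'.1 - α) fun h' => not_good_of_neg (x := γ'.1 - α + α) (i := j) (by rwa [sub_add_cancel]) h'.2] at h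
        simp only [e, add_sub_cancel_right] at h
        exact h
      · refine (G.2.1 γ fun h => hr ?_).symm
        exact good_mem_region hin.2 (by rw [e]; exact h.2)
    · unfold ext0
      split_ifs with hg
      · rfl
      · exact (G.2.1 γ fun h => hg ⟨good_iff.mpr ⟨h.1, hin⟩, h.2⟩).symm
  right_inv p := by
    refine Prod.ext (funext fun c => ?_) (funext fun γ => ?_)
    · dsimp only
      obtain ⟨β, hβ, e⟩ := (mem_region_iff.mp c.1.out.2).1
      have hin : InExp I (c.1.out.1 - α) := by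
        rw [e, add_sub_cancel_right]; exact ⟨ev_nonneg β, by rwa [unev_ev]⟩
      rw [if_pos hin, e, add_sub_cancel_right, unev_ev]
      have hr : ev β + α ∈ region I α := e ▸ c.1.out.2
      have hcc : compOf hr = c.1 :=
        (congrArg (SimpleGraph.connectedComponentMk _) (Subtype.ext e : c.1.out = (⟨_, hr⟩ : region I α))).symm.trans
          (Quot.out_eq c.1)
      unfold coefOf
      rw [dif_pos hr, dif_pos (by rw [hcc]; exact c.2)]
      exact congrArg p.1 (Subtype.ext hcc)
    · dsimp only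
      rw [if_neg (good_iff.mp γ.2.1).2, ext0, dif_pos γ.2]

/-- the differential of a potential -/
def psi (I : Ideal (MvPolynomial (Fin 3) k)) (α : Fin 3 → ℤ) : Pot I α →ₗ[k] (Cl I α → k) where
  toFun G c := G.1 (c.2.1 + uv c.1) - G.1 c.2.1
  map_add' G H := funext fun c => by simp; ring
  map_smul' c G := funext fun d => by simp; ring

theorem fe_psi (G : Pot I α) {i : Fin 3} {η : Fin 3 → ℤ} (hη : ∀ j, 0 ≤ η j)
    (ht : ¬ InExp I (η + α + uv i)) : fe (psi I α G) i η = G.1 (η + uv i) - G.1 η := by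
  unfold fe ext0
  split_ifs with hg
  · rfl
  · by_cases hgt : Good I (η + α + uv i)
    · have hin : InExp I η := by
        by_contra h
        exact hg ⟨good_iff.mpr ⟨hη, h⟩, by rwa [← add_assoc]⟩
      rw [G.2.2 η i hin hgt, sub_self]
    · obtain ⟨j, hj⟩ := exists_neg ht hgt
      rw [G.2.1 (η + uv i) fun h => not_good_of_neg (x := η + uv i + α) (i := j) (by rwa [add_right_comm]) h.2,
        G.2.1 η fun h => not_good_of_neg (x := η + α) (i := j) (lt_of_le_of_lt (le_add_uv _ i j) hj) h.2, sub_zero]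

theorem d1_psi (G : Pot I α) : d1 I α (psi I α G) = 0 := by
  funext r
  obtain ⟨l, γ, hγ, ht⟩ := r
  show (fe (psi I α G) (l + 2) (γ + uv (l + 1)) - fe (psi I α G) (l + 2) γ) -
    (fe (psi I α G) (l + 1) (γ + uv (l + 2)) - fe (psi I α G) (l + 1) γ) = 0
  have hn : ∀ x, x ≤ γ + (α + vv l) → ¬ InExp I x := fun x hx h => (good_iff.mp ht).2 (inExp_mono h hx)
  rw [fe_psi G (η := γ + uv (l + 1)) (fun j => (hγ.1 j).trans (le_add_uv γ _ j)) (hn _ (le_of_eq (by simp only [vv]; abel))),
    fe_psi G hγ.1 (hn _ (le_trans (le_add_uv _ (l + 1)) (le_of_eq (by simp only [vv]; abel)))),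
    fe_psi G (η := γ + uv (l + 2)) (fun j => (hγ.1 j).trans (le_add_uv γ _ j)) (hn _ (le_of_eq (by simp only [vv]; abel))),
    fe_psi G hγ.1 (hn _ (le_trans (le_add_uv _ (l + 2)) (le_of_eq (by simp only [vv]; abel)))),
    add_right_comm γ (uv (l + 1)) (uv (l + 2))]
  ring

theorem closed (f : Cl I α → k) (hf : d1 I α f = 0) (l : Fin 3) {γ : Fin 3 → ℤ} (hγ : ∀ j, 0 ≤ γ j)
    (ht : ¬ InExp I (γ + α + vv l)) :
    fe f (l + 2) (γ + uv (l + 1)) - fe f (l + 2) γ = fe f (l + 1) (γ + uv (l + 2)) - fe f (l + 1) γ := by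
  by_cases hgt : Good I (γ + α + vv l)
  · by_cases hg : Good I γ
    · exact sub_eq_zero.mp (congrFun hf ⟨l, γ, hg, by rwa [← add_assoc]⟩)
    · have hz : ∀ (i : Fin 3) (x : Fin 3 → ℤ), γ ≤ x → fe f i x = 0 := fun i x hx =>
        ext0_zero _ fun h => (good_iff.mp h.1).2
          (inExp_mono (by by_contra hc; exact hg (good_iff.mpr ⟨hγ, hc⟩)) hx)
      rw [hz _ _ (le_add_uv γ _), hz _ _ le_rfl, hz _ _ (le_add_uv γ _), hz _ _ le_rfl]
  · obtain ⟨j, hj⟩ := exists_neg ht hgt
    have h1 : 0 ≤ uv (l + 1) j := by simpa using le_add_uv 0 (l + 1) j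
    have h2 : 0 ≤ uv (l + 2) j := by simpa using le_add_uv 0 (l + 2) j
    simp only [vv, Pi.add_apply] at hj
    rw [fe_zero_neg f (j := j) (i := l + 2) (γ := γ + uv (l + 1)) (by simp only [Pi.add_apply]; omega),
      fe_zero_neg f (j := j) (i := l + 2) (γ := γ) (by simp only [Pi.add_apply]; omega),
      fe_zero_neg f (j := j) (i := l + 1) (γ := γ + uv (l + 2)) (by simp only [Pi.add_apply]; omega),
      fe_zero_neg f (j := j) (i := l + 1) (γ := γ) (by simp only [Pi.add_apply]; omega)]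

/-- a point with natural coordinates -/
abbrev pt (a b c : ℕ) : Fin 3 → ℤ := ![(a : ℤ), b, c]

theorem pt_nonneg (a b c : ℕ) (j : Fin 3) : 0 ≤ pt a b c j := by fin_cases j <;> simp [pt]

theorem pt_succ (a b c : ℕ) : pt a b c + uv 0 = pt (a + 1) b c ∧ pt a b c + uv 1 = pt a (b + 1) c ∧
    pt a b c + uv 2 = pt a b (c + 1) := by
  refine ⟨?_, ?_, ?_⟩ <;> funext j <;> fin_cases j <;> simp [pt, uv]

theorem pt_le {a b c a' b' c' : ℕ} (h0 : a ≤ a') (h1 : b ≤ b') (h2 : c ≤ c') : pt a b c ≤ pt a' b' c' :=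
  fun j => by fin_cases j <;> simp [pt, h0, h1, h2]

/-- the sum along a path -/
def path (f : Cl I α → k) (a b c : ℕ) : k :=
  ∑ t ∈ Finset.range a, fe f 0 (pt t 0 0) + ∑ t ∈ Finset.range b, fe f 1 (pt a t 0) +
    ∑ t ∈ Finset.range c, fe f 2 (pt a b t)

theorem path_zero (f : Cl I α → k) {a b c : ℕ} {j : Fin 3} (h : (pt a b c + α) j < 0) : path f a b c = 0 := by
  have key : ∀ (i : Fin 3) (x : Fin 3 → ℤ), x + uv i ≤ pt a b c → fe f i x = 0 := fun i x hx =>
    fe_zero_neg f (j := j) (by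
      have := hx j
      simp only [Pi.add_apply] at this h ⊢
      omega)
  rw [path, Finset.sum_eq_zero, Finset.sum_eq_zero, Finset.sum_eq_zero, add_zero, add_zero]
  · exact fun t ht => key 2 _ ((pt_succ a b t).2.2.le.trans (pt_le le_rfl le_rfl (Finset.mem_range.mp ht)))
  · exact fun t ht => key 1 _ ((pt_succ a t 0).2.1.le.trans (pt_le le_rfl (Finset.mem_range.mp ht) (Nat.zero_le c)))
  · exact fun t ht => key 0 _ ((pt_succ t 0 0).1.le.trans (pt_le (Finset.mem_range.mp ht) (Nat.zero_le b) (Nat.zero_le c)))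

theorem path_succ2 (f : Cl I α → k) (a b c : ℕ) : path f a b (c + 1) - path f a b c = fe f 2 (pt a b c) := by
  simp only [path, Finset.sum_range_succ]; ring

theorem path_succ1 (f : Cl I α → k) (hf : d1 I α f = 0) (a b c : ℕ) (ht : ¬ InExp I (pt a (b + 1) c + α)) :
    path f a (b + 1) c - path f a b c = fe f 1 (pt a b c) := by
  have hs : ∀ t ∈ Finset.range c, fe f 2 (pt a (b + 1) t) - fe f 2 (pt a b t) =
      fe f 1 (pt a b (t + 1)) - fe f 1 (pt a b t) := by
    intro t htc
    have h := closed f hf 0 (pt_nonneg a b t) fun h => ht (inExp_mono h ?_)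
    · rw [← (pt_succ a b t).2.1, ← (pt_succ a b t).2.2]; exact h
    · rw [add_right_comm]
      show pt a b t + (uv 1 + uv 2) + α ≤ _
      rw [← add_assoc, (pt_succ a b t).2.1, (pt_succ a (b + 1) t).2.2]
      exact add_le_add (pt_le le_rfl le_rfl (Finset.mem_range.mp htc)) le_rfl
  have h := Finset.sum_congr rfl hs
  rw [Finset.sum_sub_distrib, Finset.sum_range_sub (fun t => fe f 1 (pt a b t))] at h
  simp only [path, Finset.sum_range_succ]
  linear_combination h

theorem path_succ0 (f : Cl I α → k) (hf : d1 I α f = 0) (a b c : ℕ) (ht : ¬ InExp I (pt (a + 1) b c + α)) :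
    path f (a + 1) b c - path f a b c = fe f 0 (pt a b c) := by
  have hs : ∀ t ∈ Finset.range b, fe f 1 (pt (a + 1) t 0) - fe f 1 (pt a t 0) =
      fe f 0 (pt a (t + 1) 0) - fe f 0 (pt a t 0) := by
    intro t htb
    have h := closed f hf 2 (pt_nonneg a t 0) fun h => ht (inExp_mono h ?_)
    · rw [← (pt_succ a t 0).1, ← (pt_succ a t 0).2.1]; exact h
    · rw [add_right_comm]
      show pt a t 0 + (uv 0 + uv 1) + α ≤ _
      rw [← add_assoc, (pt_succ a t 0).1, (pt_succ (a + 1) t 0).2.1]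
      exact add_le_add (pt_le le_rfl (Finset.mem_range.mp htb) (Nat.zero_le c)) le_rfl
  have hs' : ∀ t ∈ Finset.range c, fe f 0 (pt a b (t + 1)) - fe f 0 (pt a b t) =
      fe f 2 (pt (a + 1) b t) - fe f 2 (pt a b t) := by
    intro t htc
    have h := closed f hf 1 (pt_nonneg a b t) fun h => ht (inExp_mono h ?_)
    · rw [← (pt_succ a b t).1, ← (pt_succ a b t).2.2]; exact h
    · rw [add_right_comm]
      show pt a b t + (uv 2 + uv 0) + α ≤ _
      rw [← add_assoc, (pt_succ a b t).2.2, (pt_succ a b (t + 1)).1]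
      exact add_le_add (pt_le le_rfl le_rfl (Finset.mem_range.mp htc)) le_rfl
  have h := Finset.sum_congr rfl hs
  have h' := Finset.sum_congr rfl hs'
  rw [Finset.sum_sub_distrib, Finset.sum_range_sub (fun t => fe f 0 (pt a t 0))] at h
  rw [Finset.sum_sub_distrib (f := fun t => fe f 2 (pt (a + 1) b t)),
    Finset.sum_range_sub (fun t => fe f 0 (pt a b t))] at h'
  simp only [path, Finset.sum_range_succ]
  linear_combination h - h'

theorem path_step (f : Cl I α → k) (hf : d1 I α f = 0) {δ : Fin 3 → ℤ} (hδ : ∀ j, 0 ≤ δ j) (i : Fin 3)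
    (ht : ¬ InExp I (δ + α + uv i)) :
    path f ((δ + uv i) 0).toNat ((δ + uv i) 1).toNat ((δ + uv i) 2).toNat -
      path f (δ 0).toNat (δ 1).toNat (δ 2).toNat = fe f i δ := by
  obtain ⟨a, b, c, rfl⟩ : ∃ a b c, δ = pt a b c :=
    ⟨(δ 0).toNat, (δ 1).toNat, (δ 2).toNat, funext fun j => by
      have := hδ j
      fin_cases j <;> simp_all [pt]⟩
  rw [add_right_comm] at ht
  fin_cases i
  · rw [show pt a b c + uv (⟨0, by omega⟩ : Fin 3) = pt (a + 1) b c from (pt_succ a b c).1] at ht ⊢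
    simpa [pt] using path_succ0 f hf a b c ht
  · rw [show pt a b c + uv (⟨1, by omega⟩ : Fin 3) = pt a (b + 1) c from (pt_succ a b c).2.1] at ht ⊢
    simpa [pt] using path_succ1 f hf a b c ht
  · rw [show pt a b c + uv (⟨2, by omega⟩ : Fin 3) = pt a b (c + 1) from (pt_succ a b c).2.2] at ht ⊢
    simpa [pt] using path_succ2 f a b c

open Classical in
theorem range_psi : LinearMap.range (psi I α) = LinearMap.ker (d1 I α) := by
  refine le_antisymm ?_ fun f hf => ?_
  · rintro _ ⟨G, rfl⟩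
    exact d1_psi G
  · have hf' : d1 I α f = 0 := hf
    let P : (Fin 3 → ℤ) → k := fun γ => path f (γ 0).toNat (γ 1).toNat (γ 2).toNat
    let G : (Fin 3 → ℤ) → k := fun γ => if (∀ i, 0 ≤ γ i) ∧ Good I (γ + α) then P γ else 0
    have hG : ∀ δ, (∀ j, 0 ≤ δ j) → ¬ InExp I (δ + α) → G δ = P δ := by
      intro δ hδ ht
      simp only [G]
      split_ifs with h
      · rfl
      · obtain ⟨j, hj⟩ := exists_neg ht fun hg => h ⟨hδ, hg⟩
        refine (path_zero f (j := j) ?_).symm
        have := hδ 0; have := hδ 1; have := hδ 2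
        fin_cases j <;> simp_all [pt]
    have hdiff : ∀ δ i, (∀ j, 0 ≤ δ j) → ¬ InExp I (δ + α + uv i) → G (δ + uv i) - G δ = fe f i δ := by
      intro δ i hδ ht
      rw [hG (δ + uv i) (fun j => (hδ j).trans (le_add_uv δ i j)) (by rwa [add_right_comm]),
        hG δ hδ fun h => ht (inExp_mono h (le_add_uv _ i))]
      exact path_step f hf' hδ i ht
    have hmem : G ∈ Pot I α := ⟨fun γ h => if_neg h, fun γ i hin hg => by
      refine sub_eq_zero.mp ((hdiff γ i hin.1 (good_iff.mp hg).2).trans ?_)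
      exact ext0_zero _ fun h => (good_iff.mp h.1).2 hin⟩
    refine ⟨⟨G, hmem⟩, funext fun c => ?_⟩
    obtain ⟨i, γ, hγ, ht⟩ := c
    show G (γ + uv i) - G γ = _
    rw [hdiff γ i hγ.1 (by rw [add_assoc]; exact (good_iff.mp ht).2), fe, ext0, dif_pos ⟨hγ, ht⟩]

open Classical in
theorem finrank_ker_psi (α : Fin 3 → ℤ) :
    Module.finrank k (LinearMap.ker (psi I α)) = if Good I α then 1 else 0 := by
  have hzero : ∀ G : LinearMap.ker (psi I α), G.1.1 0 = 0 → G = 0 := by
    intro G h0
    have hstep : ∀ δ i, (∀ j, 0 ≤ δ j) → Good I (δ + α + uv i) → G.1.1 (δ + uv i) = G.1.1 δ := by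
      intro δ i hδ hg
      have h := fe_psi G.1 hδ (good_iff.mp hg).2
      rw [show psi I α G.1 = 0 from G.2] at h
      rw [← sub_eq_zero, ← h]
      unfold fe ext0; split_ifs <;> rfl
    have key : ∀ (n : ℕ) (γ : Fin 3 → ℤ), (∑ j, (γ j).toNat) = n → G.1.1 γ = 0 := by
      intro n
      induction n using Nat.strong_induction_on with
      | _ n ih =>
        intro γ hn
        by_cases hγ : (∀ i, 0 ≤ γ i) ∧ Good I (γ + α)
        · by_cases h : ∃ i, 0 < γ i
          · obtain ⟨i, hi⟩ := h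
            have hδ : ∀ j, 0 ≤ (γ - uv i) j := fun j => by
              have := hγ.1 j
              rcases eq_or_ne j i with rfl | hj <;> simp_all [uv] <;> omega
            have e : γ - uv i + uv i = γ := sub_add_cancel _ _
            have h' := hstep _ i hδ (by rw [add_right_comm, e]; exact hγ.2)
            rw [e] at h'
            rw [h']
            refine ih _ ?_ _ rfl
            rw [← hn]
            refine Finset.sum_lt_sum (fun j _ => ?_) ⟨i, Finset.mem_univ i, ?_⟩
            · rcases eq_or_ne j i with rfl | hj <;> simp [uv, *] <;> omega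
            · simp [uv]; omega
          · push Not at h
            have e : γ = 0 := funext fun i => le_antisymm (h i) (hγ.1 i)
            rw [e]; exact h0
        · exact G.1.2.1 γ hγ
    exact Subtype.ext (Subtype.ext (funext fun γ => key _ γ rfl))
  let e0 : LinearMap.ker (psi I α) →ₗ[k] k :=
    { toFun := fun G => G.1.1 0, map_add' := fun _ _ => rfl, map_smul' := fun _ _ => rfl }
  have hinj : Function.Injective e0 := fun G H h => Subtype.ext (sub_eq_zero.mp (congrArg Subtype.val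
    (hzero ⟨G.1 - H.1, sub_mem G.2 H.2⟩ (by
      show G.1.1 0 - H.1.1 0 = 0
      exact sub_eq_zero.mpr h))))
  split_ifs with hα
  · have hmem : (fun γ => if (∀ i, 0 ≤ γ i) ∧ Good I (γ + α) then (1 : k) else 0) ∈ Pot I α :=
      ⟨fun γ h => if_neg h, fun γ i hin hg => by
        dsimp only
        rw [if_pos, if_pos]
        · refine ⟨hin.1, good_iff.mpr ⟨fun j => add_nonneg (hin.1 j) (hα.1 j), fun h => ?_⟩⟩
          exact (good_iff.mp hg).2 (inExp_mono h (le_add_uv _ i))
        · exact ⟨fun j => (hin.1 j).trans (le_add_uv γ i j), by rwa [add_right_comm]⟩⟩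
    have hker : (⟨_, hmem⟩ : Pot I α) ∈ LinearMap.ker (psi I α) := by
      rw [LinearMap.mem_ker]
      funext c
      obtain ⟨i, γ, hγ, ht⟩ := c
      show (if _ then (1 : k) else 0) - (if _ then (1 : k) else 0) = 0
      rw [if_pos, if_pos, sub_self]
      · refine ⟨hγ.1, good_iff.mpr ⟨fun j => add_nonneg (hγ.1 j) (hα.1 j), fun h => ?_⟩⟩
        exact (good_iff.mp ht).2 (inExp_mono h ((le_add_uv _ i).trans (le_of_eq (add_assoc _ _ _))))
      · exact ⟨fun j => (hγ.1 j).trans (le_add_uv γ i j), by rwa [add_right_comm, add_assoc]⟩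
    have hsurj : Function.Surjective e0 := fun c => by
      refine ⟨c • ⟨⟨_, hmem⟩, hker⟩, ?_⟩
      rw [map_smul]
      show c • (if (∀ i, 0 ≤ (0 : Fin 3 → ℤ) i) ∧ Good I (0 + α) then (1 : k) else 0) = c
      rw [if_pos ⟨fun i => le_rfl, by rwa [zero_add]⟩, smul_eq_mul, mul_one]
    rw [(LinearEquiv.ofBijective e0 ⟨hinj, hsurj⟩).finrank_eq, Module.finrank_self]
  · haveI : Subsingleton (LinearMap.ker (psi I α)) := subsingleton_of_forall_eq 0 fun G =>
      hzero G (G.1.2.1 0 fun h => hα (by simpa using h.2))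
    exact Module.finrank_zero_of_subsingleton

variable [Module.Finite k (MvPolynomial (Fin 3) k ⧸ I)] (hI : IsMonomial I)

include hI

theorem finite_good : {γ : Fin 3 → ℤ | Good I γ}.Finite :=
  ((finite_compl hI).image ev).subset fun γ h => ⟨unev γ, h.2, ev_unev h.1⟩

theorem finite_XP (ν : Fin 3 → ℤ) : Finite (XP I ν) := by
  haveI := (finite_good hI).to_subtype
  exact Finite.of_injective (fun γ : XP I ν => (⟨γ.1, γ.2.1⟩ : {γ : Fin 3 → ℤ | Good I γ}))
    fun a b h => Subtype.ext (congrArg Subtype.val h :)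

open Classical in
theorem finrank_eq (α : Fin 3 → ℤ) :
    Module.finrank k (tPiece I α) + Nat.card (XP I α) + Module.finrank k (LinearMap.range (d1 I α)) =
      (if Good I α then 1 else 0) + ∑ i, Nat.card (XP I (α + uv i)) := by
  haveI := finite_goodComp hI α
  haveI := finite_XP hI α
  haveI : ∀ i, Finite (XP I (α + uv i)) := fun i => finite_XP hI _
  haveI := Fintype.ofFinite (GoodComp I α)
  haveI := Fintype.ofFinite (XP I α)
  haveI : ∀ i, Fintype (XP I (α + uv i)) := fun i => Fintype.ofFinite _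
  haveI : Module.Finite k (Pot I α) := Module.Finite.equiv (potEquiv I α).symm
  have h1 : Module.finrank k (Pot I α) = Module.finrank k (tPiece I α) + Nat.card (XP I α) := by
    rw [(potEquiv I α).finrank_eq, Module.finrank_prod, Module.finrank_pi, Module.finrank_pi,
      finrank_tPiece hI, Nat.card_eq_fintype_card, Nat.card_eq_fintype_card]
  have h2 := LinearMap.finrank_range_add_finrank_ker (psi I α)
  have h3 := LinearMap.finrank_range_add_finrank_ker (d1 I α)
  rw [range_psi, finrank_ker_psi, h1] at h2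
  rw [Module.finrank_pi, Fintype.card_sigma] at h3
  simp only [Nat.card_eq_fintype_card] at h2 ⊢
  omega

end Groth.Agent.HilbPnLib
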