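import Groth.Agent.HilbPnLib.Basic

/-!
# A graded piece of `Hom(I, S/I)` = functions on the components of the region
-/

set_option autoImplicit false

open MvPolynomial W4c1hilbpn

universe u v

noncomputable section

namespace Groth.Agent.HilbPnLib

variable {σ : Type v} [Fintype σ] {k : Type u} [Field k] {I : Ideal (MvPolynomial σ k)}

local notation "S" => MvPolynomial σ k

/-- an exponent as an integer vector -/
def ev (β : σ →₀ ℕ) : σ → ℤ := fun i => (β i : ℤ)

omit [Fintype σ] in
theorem ev_injective : Function.Injective (ev : (σ →₀ ℕ) → σ → ℤ) := fun β γ h =>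
  Finsupp.ext fun i => by have := congrFun h i; simpa [ev] using this

omit [Fintype σ] in
theorem ev_add (β γ : σ →₀ ℕ) : ev (β + γ) = ev β + ev γ := funext fun i => by simp [ev]

omit [Fintype σ] in
theorem ev_nonneg (β : σ →₀ ℕ) (i : σ) : 0 ≤ ev β i := Int.natCast_nonneg _

omit [Fintype σ] in
theorem ev_le_iff {β γ : σ →₀ ℕ} : ev β ≤ ev γ ↔ β ≤ γ := by
  simp [Pi.le_def, Finsupp.le_def, ev]

/-- the exponent of a nonnegative integer vector -/
def unev (γ : σ → ℤ) : σ →₀ ℕ := Finsupp.equivFunOnFinite.symm fun i => (γ i).toNat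

theorem unev_apply (γ : σ → ℤ) (i : σ) : unev γ i = (γ i).toNat := rfl

theorem unev_ev (β : σ →₀ ℕ) : unev (ev β) = β := Finsupp.ext fun i => by simp [unev_apply, ev]

theorem ev_unev {γ : σ → ℤ} (h : ∀ i, 0 ≤ γ i) : ev (unev γ) = γ := funext fun i => by
  simp [ev, unev_apply, h i]

theorem shift_eq (β : σ →₀ ℕ) (α : σ → ℤ) : shift β α = unev (ev β + α) := rfl

/-- nonnegative points outside the ideal -/
def Good (I : Ideal (MvPolynomial σ k)) (γ : σ → ℤ) : Prop := (∀ i, 0 ≤ γ i) ∧ unev γ ∉ exps I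

theorem good_ev {δ : σ →₀ ℕ} (h : δ ∉ exps I) : Good I (ev δ) := ⟨ev_nonneg δ, by rwa [unev_ev]⟩

theorem mem_region_iff {α γ : σ → ℤ} :
    γ ∈ region I α ↔ (∃ β ∈ exps I, γ = ev β + α) ∧ ¬ ((∀ i, 0 ≤ γ i) ∧ unev γ ∈ exps I) := Iff.rfl

theorem ev_add_mem_region {α : σ → ℤ} {β : σ →₀ ℕ} (hβ : β ∈ exps I)
    (h : ¬ ((∀ i, 0 ≤ (ev β + α) i) ∧ unev (ev β + α) ∈ exps I)) : ev β + α ∈ region I α :=
  mem_region_iff.mpr ⟨⟨β, hβ, rfl⟩, h⟩

theorem good_mem_region {α : σ → ℤ} {β : σ →₀ ℕ} (hβ : β ∈ exps I) (h : Good I (ev β + α)) :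
    ev β + α ∈ region I α := ev_add_mem_region hβ fun h' => h.2 h'.2

theorem good_of_mem_region {α γ : σ → ℤ} (h : γ ∈ region I α) (hn : ∀ i, 0 ≤ γ i) : Good I γ :=
  ⟨hn, fun h' => (mem_region_iff.mp h).2 ⟨hn, h'⟩⟩

/-- the components of the region -/
abbrev Comp (I : Ideal (MvPolynomial σ k)) (α : σ → ℤ) : Type v :=
  ((stepGraph σ).induce (region I α)).ConnectedComponent

/-- the components consisting of nonnegative points -/
def GoodComp (I : Ideal (MvPolynomial σ k)) (α : σ → ℤ) : Type v :=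
  {c : Comp I α // ∀ γ ∈ c.supp, ∀ i, 0 ≤ (γ : σ → ℤ) i}

abbrev compOf {α γ : σ → ℤ} (h : γ ∈ region I α) : Comp I α :=
  SimpleGraph.connectedComponentMk _ ⟨γ, h⟩

theorem step_adj {γ γ' : σ → ℤ} {i : σ} (h : γ' i = γ i + 1) (hne : ∀ j, j ≠ i → γ' j = γ j) :
    (stepGraph σ).Adj γ γ' := by
  classical
  rw [stepGraph, SimpleGraph.fromRel_adj]
  refine ⟨fun e => by rw [e] at h; omega, Or.inl ?_⟩
  rw [Finset.sum_eq_single i (fun j _ hj => by rw [hne j hj, sub_self, abs_zero]) (by simp), h]
  simp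

theorem adj_iff {γ γ' : σ → ℤ} : (stepGraph σ).Adj γ γ' ↔
    ∃ i, (∀ j, j ≠ i → γ' j = γ j) ∧ (γ' i = γ i + 1 ∨ γ i = γ' i + 1) := by
  classical
  constructor
  · intro h
    rw [stepGraph, SimpleGraph.fromRel_adj] at h
    have hs : ∑ j, |γ j - γ' j| = 1 := by
      rcases h.2 with h' | h'
      · exact h'
      · rw [← h']; exact Finset.sum_congr rfl fun j _ => abs_sub_comm _ _
    obtain ⟨i, hi⟩ : ∃ i, γ i ≠ γ' i := Function.ne_iff.mp h.1
    have hle : |γ i - γ' i| + ∑ j ∈ Finset.univ.erase i, |γ j - γ' j| = 1 := by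
      rw [← hs, Finset.add_sum_erase _ (fun j => |γ j - γ' j|) (Finset.mem_univ i)]
    have h1 : 1 ≤ |γ i - γ' i| := Int.one_le_abs (sub_ne_zero.mpr hi)
    have h0 : ∑ j ∈ Finset.univ.erase i, |γ j - γ' j| = 0 := by
      have := Finset.sum_nonneg fun j (_ : j ∈ Finset.univ.erase i) => abs_nonneg (γ j - γ' j)
      omega
    refine ⟨i, fun j hj => ?_, ?_⟩
    · have := (Finset.sum_eq_zero_iff_of_nonneg fun j _ => abs_nonneg _).mp h0 j
        (Finset.mem_erase.mpr ⟨hj, Finset.mem_univ _⟩)
      rw [abs_eq_zero] at this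
      omega
    · have : |γ i - γ' i| = 1 := by omega
      rcases (abs_eq (by norm_num)).mp this with e | e <;> omega
  · rintro ⟨i, hne, h | h⟩
    · exact step_adj h hne
    · exact (step_adj h fun j hj => (hne j hj).symm).symm

theorem compOf_eq_of_adj {α γ γ' : σ → ℤ} (h : γ ∈ region I α) (h' : γ' ∈ region I α)
    (hadj : (stepGraph σ).Adj γ γ') : compOf h = compOf h' :=
  SimpleGraph.ConnectedComponent.sound (SimpleGraph.Adj.reachable (show ((stepGraph σ).induce _).Adj ⟨γ, h⟩ ⟨γ', h'⟩ from hadj))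

variable (hI : IsMonomial I) {α : σ → ℤ}

/-- the value of a graded homomorphism at a point of the region -/
def val (φ : tPiece I α) (γ : region I α) : k :=
  let β : σ →₀ ℕ := (mem_region_iff.mp γ.2).1.choose
  qc hI (unev γ.1) ((φ : Tgt I) ⟨monomial β 1, (mem_region_iff.mp γ.2).1.choose_spec.1⟩)

omit hI in
theorem tgt_congr (φ : Tgt I) {p p' : S} (hp : p ∈ I) (hp' : p' ∈ I) (e : p = p') : φ ⟨p, hp⟩ = φ ⟨p', hp'⟩ := by
  subst e; rfl

theorem val_eq (φ : tPiece I α) {β : σ →₀ ℕ} (hβ : β ∈ exps I) (h : ev β + α ∈ region I α) :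
    val hI φ ⟨ev β + α, h⟩ = qc hI (shift β α) ((φ : Tgt I) ⟨monomial β 1, hβ⟩) := by
  have hc : (mem_region_iff.mp h).1.choose = β :=
    ev_injective (add_right_cancel (mem_region_iff.mp h).1.choose_spec.2.symm)
  simp only [val, shift_eq]
  congr 1
  exact tgt_congr _ _ _ (by rw [hc])

theorem apply_monomial (φ : tPiece I α) {β : σ →₀ ℕ} (hβ : β ∈ exps I) (hg : Good I (ev β + α)) :
    (φ : Tgt I) ⟨monomial β 1, hβ⟩ = val hI φ ⟨_, good_mem_region hβ hg⟩ • qmon I (shift β α) := by
  obtain ⟨c, hc⟩ := Submodule.mem_span_singleton.mp ((φ.2 β hβ).1 hg.1)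
  rw [val_eq hI φ hβ, ← hc, map_smul, qc_qmon hI (δ := shift β α) hg.2, if_pos rfl, smul_eq_mul, mul_one]

theorem apply_monomial_eq_zero (φ : tPiece I α) {β : σ →₀ ℕ} (hβ : β ∈ exps I) (hg : ¬ Good I (ev β + α)) :
    (φ : Tgt I) ⟨monomial β 1, hβ⟩ = 0 := by
  by_cases hn : ∀ i, 0 ≤ (ev β + α) i
  · obtain ⟨c, hc⟩ := Submodule.mem_span_singleton.mp ((φ.2 β hβ).1 hn)
    have hin : shift β α ∈ exps I := by
      by_contra h
      exact hg ⟨hn, h⟩
    rw [← hc, show Ideal.Quotient.mk I (monomial (shift β α) (1 : k)) = qmon I (shift β α) from rfl,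
      qmon_eq_zero hin, smul_zero]
  · push Not at hn
    exact (φ.2 β hβ).2 hn

theorem val_eq_zero (φ : tPiece I α) {β : σ →₀ ℕ} (hβ : β ∈ exps I) (h : ev β + α ∈ region I α)
    {i : σ} (hi : (ev β + α) i < 0) : val hI φ ⟨_, h⟩ = 0 := by
  rw [val_eq hI φ hβ h, apply_monomial_eq_zero φ hβ fun hg => absurd (hg.1 i) (not_le.mpr hi), map_zero]

omit hI in
theorem apply_step (φ : Tgt I) {β ε : σ →₀ ℕ} (hβ : β ∈ exps I) :
    φ ⟨monomial (ε + β) 1, exps_up hβ le_add_self⟩ = monomial ε (1 : k) • φ ⟨monomial β 1, hβ⟩ := by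
  rw [← map_smul]
  exact tgt_congr _ _ _ (by rw [smul_eq_mul, monomial_mul, one_mul])

theorem val_step (φ : tPiece I α) {γ γ' : region I α} {i : σ}
    (h : (γ' : σ → ℤ) i = (γ : σ → ℤ) i + 1) (hne : ∀ j, j ≠ i → (γ' : σ → ℤ) j = (γ : σ → ℤ) j) :
    val hI φ γ = val hI φ γ' := by
  classical
  obtain ⟨γ, hγ⟩ := γ
  obtain ⟨γ', hγ'⟩ := γ'
  obtain ⟨β, hβ, rfl⟩ := (mem_region_iff.mp hγ).1
  have e : γ' = ev (Finsupp.single i 1 + β) + α := funext fun j => by
    rcases eq_or_ne j i with rfl | hj
    · simp [ev] at h ⊢; omega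
    · have := hne j hj; simp [ev, hj] at this ⊢; omega
  subst e
  have hβ' : Finsupp.single i 1 + β ∈ exps I := exps_up hβ le_add_self
  rw [val_eq hI φ hβ, val_eq hI φ hβ', apply_step _ hβ]
  by_cases hg : Good I (ev β + α)
  · have hg' : Good I (ev (Finsupp.single i 1 + β) + α) := good_of_mem_region hγ' fun j => by
      have := hg.1 j
      rcases eq_or_ne j i with rfl | hj <;> simp_all [ev] <;> omega
    have hs : Finsupp.single i 1 + shift β α = shift (Finsupp.single i 1 + β) α := Finsupp.ext fun j => by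
      have := hg.1 j
      rcases eq_or_ne j i with rfl | hj <;> simp_all [shift_eq, unev_apply, ev] <;> omega
    rw [apply_monomial hI φ hβ hg, smul_comm, monomial_smul_qmon, hs, map_smul, map_smul,
      qc_qmon hI (δ := shift β α) hg.2, qc_qmon hI (δ := shift (Finsupp.single i 1 + β) α) hg'.2, if_pos rfl, if_pos rfl]
  · rw [apply_monomial_eq_zero φ hβ hg, smul_zero, map_zero, map_zero]

theorem val_eq_of_reachable (φ : tPiece I α) {γ γ' : region I α}
    (h : ((stepGraph σ).induce (region I α)).Reachable γ γ') : val hI φ γ = val hI φ γ' := by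
  obtain ⟨w⟩ := h
  induction w with
  | nil => rfl
  | @cons a b c hadj _ ih =>
    refine Eq.trans ?_ ih
    obtain ⟨i, hne, h | h⟩ := adj_iff.mp (show (stepGraph σ).Adj a.1 b.1 from hadj)
    · exact val_step hI φ h hne
    · exact (val_step hI φ h fun j hj => (hne j hj).symm).symm

/-- the function on good components of a graded homomorphism -/
def toFun (φ : tPiece I α) : GoodComp I α → k := fun c => val hI φ c.1.out

theorem val_eq_toFun (φ : tPiece I α) {γ : region I α} (c : GoodComp I α)
    (h : SimpleGraph.connectedComponentMk _ γ = c.1) : val hI φ γ = toFun hI φ c :=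
  val_eq_of_reachable hI φ (SimpleGraph.ConnectedComponent.exact (h.trans (Quot.out_eq c.1).symm))

theorem val_eq_zero_of_not_good (φ : tPiece I α) {γ : region I α}
    (h : ¬ ∀ γ' ∈ (SimpleGraph.connectedComponentMk _ γ : Comp I α).supp, ∀ i, 0 ≤ (γ' : σ → ℤ) i) :
    val hI φ γ = 0 := by
  push Not at h
  obtain ⟨γ', hγ', i, hi⟩ := h
  rw [SimpleGraph.ConnectedComponent.mem_supp_iff] at hγ'
  rw [val_eq_of_reachable hI φ (SimpleGraph.ConnectedComponent.exact hγ'.symm)]
  obtain ⟨γ', hγ''⟩ := γ'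
  obtain ⟨β, hβ, rfl⟩ := (mem_region_iff.mp hγ'').1
  exact val_eq_zero hI φ hβ hγ'' hi

open Classical in
/-- the coefficient on `x^β` of the homomorphism attached to a function on good components -/
def coefOf (u : GoodComp I α → k) (β : σ →₀ ℕ) : k :=
  if h : ev β + α ∈ region I α then
    (if hc : ∀ γ' ∈ (compOf h).supp, ∀ i, 0 ≤ (γ' : σ → ℤ) i then u ⟨compOf h, hc⟩ else 0) else 0

omit hI in
theorem coefOf_eq_zero (u : GoodComp I α → k) {β : σ →₀ ℕ} {i : σ} (hi : (ev β + α) i < 0) : coefOf u β = 0 := by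
  unfold coefOf
  split_ifs with h hc
  · exact absurd (hc ⟨_, h⟩ rfl i) (not_le.mpr hi)
  · rfl
  · rfl

open Classical in
/-- the `k`-linear map on polynomials attached to a function on good components -/
def polyMap (u : GoodComp I α → k) : S →ₗ[k] MvPolynomial σ k ⧸ I :=
  (MvPolynomial.basisMonomials σ k).constr k fun β => if β ∈ exps I then coefOf u β • qmon I (shift β α) else 0

open Classical in
omit hI in
theorem polyMap_monomial (u : GoodComp I α → k) (β : σ →₀ ℕ) :
    polyMap u (monomial β 1) = if β ∈ exps I then coefOf u β • qmon I (shift β α) else 0 := by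
  rw [show monomial β (1 : k) = MvPolynomial.basisMonomials σ k β by rw [MvPolynomial.coe_basisMonomials]]
  exact Module.Basis.constr_basis _ _ _ _

omit hI in
theorem polyMap_step (u : GoodComp I α → k) {β : σ →₀ ℕ} (hβ : β ∈ exps I) (i : σ) :
    coefOf u (Finsupp.single i 1 + β) • qmon I (shift (Finsupp.single i 1 + β) α) =
      coefOf u β • qmon I (Finsupp.single i 1 + shift β α) := by
  classical
  have hev : ev (Finsupp.single i 1 + β) + α = ev β + α + ev (Finsupp.single i 1) := by rw [ev_add]; abel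
  by_cases hn : ∀ j, 0 ≤ (ev β + α) j
  · have hn' : ∀ j, 0 ≤ (ev (Finsupp.single i 1 + β) + α : σ → ℤ) j := fun j => by
      rw [hev]; exact add_nonneg (hn j) (ev_nonneg _ j)
    have hs : Finsupp.single i 1 + shift β α = shift (Finsupp.single i 1 + β) α := Finsupp.ext fun j => by
      have := hn j
      rcases eq_or_ne j i with rfl | hj
      · simp [shift_eq, unev_apply, ev] at this ⊢; omega
      · simp [shift_eq, unev_apply, ev, hj] at this ⊢
    rw [hs]
    by_cases hin : shift (Finsupp.single i 1 + β) α ∈ exps I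
    · rw [qmon_eq_zero hin, smul_zero, smul_zero]
    · congr 1
      have hg' : Good I (ev (Finsupp.single i 1 + β) + α) := ⟨hn', hin⟩
      have hg : Good I (ev β + α) := ⟨hn, fun h => hin (hs ▸ exps_up h le_add_self)⟩
      have hr := good_mem_region hβ hg
      have hr' := good_mem_region (exps_up hβ le_add_self : Finsupp.single i 1 + β ∈ exps I) hg'
      have hadj : (stepGraph σ).Adj (ev β + α) (ev (Finsupp.single i 1 + β) + α) := by
        refine step_adj (i := i) ?_ fun j hj => ?_
        · simp [ev]; omega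
        · simp [ev, hj]
      have hc := compOf_eq_of_adj hr hr' hadj
      unfold coefOf
      rw [dif_pos hr, dif_pos hr']
      simp only [hc]
  · push Not at hn
    obtain ⟨j, hj⟩ := hn
    rw [coefOf_eq_zero u hj, zero_smul]
    by_cases hr' : ev (Finsupp.single i 1 + β) + α ∈ region I α
    · by_cases hn' : ∀ l, 0 ≤ (ev (Finsupp.single i 1 + β) + α : σ → ℤ) l
      · have hr : ev β + α ∈ region I α := ev_add_mem_region hβ fun h => absurd (h.1 j) (not_le.mpr hj)
        have hadj : (stepGraph σ).Adj (ev β + α) (ev (Finsupp.single i 1 + β) + α) := by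
          refine step_adj (i := i) ?_ fun l hl => ?_
          · simp [ev]; omega
          · simp [ev, hl]
        have hc := compOf_eq_of_adj hr hr' hadj
        unfold coefOf
        rw [dif_pos hr', dif_neg, zero_smul]
        rw [← hc]
        intro h
        exact absurd (h ⟨_, hr⟩ rfl j) (not_le.mpr hj)
      · push Not at hn'
        obtain ⟨l, hl⟩ := hn'
        rw [coefOf_eq_zero u hl, zero_smul]
    · rw [coefOf, dif_neg hr', zero_smul]

include hI in
theorem polyMap_mul (u : GoodComp I α → k) {f : S} (hf : f ∈ I) (q : S) :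
    polyMap u (q * f) = q • polyMap u f := by
  classical
  induction q using MvPolynomial.induction_on generalizing f with
  | C c =>
    rw [C_mul', map_smul, ← MvPolynomial.algebraMap_eq, algebraMap_smul]
  | add q q' hq hq' => rw [add_mul, map_add, hq hf, hq' hf, add_smul]
  | mul_X q i hq =>
    rw [mul_assoc, hq (I.mul_mem_left _ hf), mul_smul]
    congr 1
    conv_lhs => rw [f.as_sum]
    conv_rhs => rw [f.as_sum]
    rw [Finset.mul_sum, map_sum, map_sum, Finset.smul_sum]
    refine Finset.sum_congr rfl fun β hβ => ?_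
    have hβ' : β ∈ exps I := hI f hf β hβ
    rw [show monomial β (coeff β f) = coeff β f • monomial β 1 by rw [smul_monomial, smul_eq_mul, mul_one],
      mul_smul_comm, map_smul, map_smul, smul_comm (X i) (coeff β f)]
    congr 1
    rw [show X i * monomial β (1 : k) = monomial (Finsupp.single i 1 + β) 1 by rw [X, monomial_mul, one_mul],
      polyMap_monomial, polyMap_monomial, if_pos hβ', if_pos (exps_up hβ' le_add_self), smul_comm, X,
      monomial_smul_qmon]
    exact polyMap_step u hβ' i

/-- the graded homomorphism attached to a function on good components -/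
def ofFun (u : GoodComp I α → k) : tPiece I α :=
  ⟨{ toFun := fun x => polyMap u (x : S)
     map_add' := fun x y => by rw [Submodule.coe_add, map_add]
     map_smul' := fun q x => by rw [Submodule.coe_smul, smul_eq_mul, polyMap_mul hI u x.2, RingHom.id_apply] },
   fun β hβ => by
    classical
    show ((∀ i, 0 ≤ (β i : ℤ) + α i) → polyMap u (monomial β 1) ∈ _) ∧ ((∃ i, _) → polyMap u (monomial β 1) = 0)
    rw [polyMap_monomial, if_pos (show β ∈ exps I from hβ)]
    exact ⟨fun _ => Submodule.smul_mem _ _ (Submodule.mem_span_singleton_self _),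
      fun ⟨i, hi⟩ => by rw [coefOf_eq_zero u (i := i) hi, zero_smul]⟩⟩

theorem val_ofFun (u : GoodComp I α → k) {β : σ →₀ ℕ} (hβ : β ∈ exps I) (hg : Good I (ev β + α)) :
    val hI (ofFun hI u) ⟨_, good_mem_region hβ hg⟩ = coefOf u β := by
  classical
  rw [val_eq hI (ofFun hI u) hβ]
  show qc hI _ (polyMap u (monomial β 1)) = _
  rw [polyMap_monomial, if_pos hβ, map_smul, qc_qmon hI (δ := shift β α) hg.2, if_pos rfl, smul_eq_mul, mul_one]

/-- A graded piece is the space of functions on the good components. -/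
def pieceEquiv (α : σ → ℤ) : tPiece I α ≃ₗ[k] (GoodComp I α → k) where
  toFun := toFun hI
  map_add' φ ψ := funext fun c => by simp [toFun, val]
  map_smul' a φ := funext fun c => by simp [toFun, val]
  invFun := ofFun hI
  left_inv φ := by
    classical
    refine Subtype.ext (LinearMap.ext fun x => ?_)
    obtain ⟨x, hx⟩ := x
    show polyMap (toFun hI φ) x = _
    have hsum : (⟨x, hx⟩ : I) =
        ∑ β ∈ x.support.attach, (C (coeff β.1 x) : S) • (⟨monomial β.1 1, hI x hx β.1 β.2⟩ : I) := by
      refine Subtype.ext ?_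
      rw [Submodule.coe_sum]
      simp only [Submodule.coe_smul, smul_eq_mul, C_mul_monomial, mul_one]
      rw [Finset.sum_attach x.support (fun β => monomial β (coeff β x))]
      exact x.as_sum
    rw [hsum, map_sum]
    conv_lhs => rw [x.as_sum, ← Finset.sum_attach x.support (fun β => monomial β (coeff β x)), map_sum]
    refine Finset.sum_congr rfl fun β _ => ?_
    have hβ : β.1 ∈ exps I := hI x hx β.1 β.2
    rw [show monomial β.1 (coeff β.1 x) = coeff β.1 x • monomial β.1 1 by rw [smul_monomial, smul_eq_mul, mul_one],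
      map_smul, map_smul, polyMap_monomial, if_pos hβ, ← MvPolynomial.algebraMap_eq, algebraMap_smul]
    congr 1
    by_cases hg : Good I (ev β.1 + α)
    · rw [apply_monomial hI φ hβ hg]
      congr 1
      unfold coefOf
      rw [dif_pos (good_mem_region hβ hg)]
      split_ifs with hc
      · exact (val_eq_toFun hI φ ⟨_, hc⟩ rfl).symm
      · exact (val_eq_zero_of_not_good hI φ hc).symm
    · rw [apply_monomial_eq_zero φ hβ hg]
      by_cases hn : ∀ i, 0 ≤ (ev β.1 + α) i
      · have hin : shift β.1 α ∈ exps I := by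
          by_contra h
          exact hg ⟨hn, h⟩
        rw [qmon_eq_zero hin, smul_zero]
      · push Not at hn
        obtain ⟨i, hi⟩ := hn
        rw [coefOf_eq_zero _ hi, zero_smul]
  right_inv u := funext fun c => by
    show val hI (ofFun hI u) c.1.out = u c
    have hmk : SimpleGraph.connectedComponentMk _ c.1.out = c.1 := Quot.out_eq c.1
    have hn : ∀ i, 0 ≤ (c.1.out : σ → ℤ) i := c.2 _ hmk
    obtain ⟨β, hβ, e⟩ := (mem_region_iff.mp c.1.out.2).1
    have hg : Good I (ev β + α) := e ▸ good_of_mem_region c.1.out.2 hn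
    have hout : c.1.out = ⟨_, good_mem_region hβ hg⟩ := Subtype.ext e
    rw [hout, val_ofFun hI u hβ hg]
    have hcc : compOf (good_mem_region hβ hg) = c.1 :=
      (congrArg (SimpleGraph.connectedComponentMk _) hout).symm.trans hmk
    unfold coefOf
    rw [dif_pos (good_mem_region hβ hg), dif_pos (by rw [hcc]; exact c.2)]
    exact congrArg u (Subtype.ext hcc)

include hI in
theorem eq_bot_of_isEmpty (α : σ → ℤ) (h : IsEmpty (GoodComp I α)) : tPiece I α = ⊥ :=
  (Submodule.eq_bot_iff _).mpr fun φ hφ => congrArg Subtype.val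
    ((pieceEquiv hI α).injective (a₁ := ⟨φ, hφ⟩) (a₂ := 0) (Subsingleton.elim _ _))

omit hI in
theorem reach_down {b β : σ →₀ ℕ} (hb : b ∈ exps I) (hle : b ≤ β) (h : ev β + α ∈ region I α) :
    ∃ h' : ev b + α ∈ region I α, compOf h' = compOf h := by
  classical
  obtain ⟨n, hn⟩ : ∃ n, ∑ i, (β i - b i) = n := ⟨_, rfl⟩
  induction n generalizing β with
  | zero =>
    obtain rfl : β = b := Finsupp.ext fun i => by
      have h1 := Finset.sum_eq_zero_iff.mp hn i (Finset.mem_univ i)
      have h2 := Finsupp.le_def.mp hle i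
      omega
    exact ⟨h, rfl⟩
  | succ n ih =>
    obtain ⟨i, -, hi⟩ := Finset.exists_ne_zero_of_sum_ne_zero (s := Finset.univ) (f := fun i => β i - b i) (by omega)
    let β' : σ →₀ ℕ := β - Finsupp.single i 1
    have hle' : b ≤ β' := Finsupp.le_def.mpr fun j => by
      have := Finsupp.le_def.mp hle j
      rcases eq_or_ne j i with rfl | hj <;> simp_all [β'] <;> omega
    have hsum : ∑ j, (β' j - b j) = n := by
      rw [← Finset.add_sum_erase _ _ (Finset.mem_univ i)] at hn ⊢
      rw [Finset.sum_congr rfl (g := fun j => β j - b j) fun j hj => by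
        simp [β', (Finset.mem_erase.mp hj).1]]
      simp only [β', Finsupp.tsub_apply, Finsupp.single_eq_same]
      omega
    have hadj : (stepGraph σ).Adj (ev β' + α) (ev β + α) := by
      refine step_adj (i := i) ?_ fun j hj => ?_
      · simp [β', ev]; omega
      · simp [β', ev, hj]
    have hr : ev β' + α ∈ region I α := by
      refine ev_add_mem_region (exps_up hb hle') fun ⟨h1, h2⟩ => (mem_region_iff.mp h).2 ?_
      have hmono : ∀ j, (ev β' + α) j ≤ (ev β + α) j := fun j => by simp [β', ev]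
      refine ⟨fun j => (h1 j).trans (hmono j), exps_up h2 (Finsupp.le_def.mpr fun j => ?_)⟩
      rw [unev_apply, unev_apply]
      exact Int.toNat_le_toNat (hmono j)
    obtain ⟨h', e⟩ := ih hle' hr hsum
    exact ⟨h', e.trans (compOf_eq_of_adj hr h hadj)⟩

include hI in
theorem finite_goodComp (α : σ → ℤ) : Finite (GoodComp I α) := by
  classical
  obtain ⟨B, hB, hBgen⟩ := exists_gens hI
  have hrep : ∀ c : GoodComp I α, ∃ b : B, ∃ h : ev b.1 + α ∈ region I α, compOf h = c.1 := fun c => by
    obtain ⟨β, hβ, e⟩ := (mem_region_iff.mp c.1.out.2).1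
    obtain ⟨b, hb, hbβ⟩ := hBgen β hβ
    have hr : ev β + α ∈ region I α := e ▸ c.1.out.2
    obtain ⟨h', e'⟩ := reach_down (hB b hb) hbβ hr
    refine ⟨⟨b, hb⟩, h', e'.trans ?_⟩
    exact (congrArg (SimpleGraph.connectedComponentMk _) (Subtype.ext e.symm : (⟨_, hr⟩ : region I α) = c.1.out)).trans
      (Quot.out_eq c.1)
  choose b h e using hrep
  refine Finite.of_injective b fun c c' hcc => Subtype.ext ?_
  rw [← e c, ← e c']
  exact congrArg (SimpleGraph.connectedComponentMk _) (Subtype.ext (by simp only [hcc]))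

include hI in
theorem finrank_tPiece (α : σ → ℤ) : Module.finrank k (tPiece I α) = Nat.card (GoodComp I α) := by
  haveI := finite_goodComp hI α
  haveI := Fintype.ofFinite (GoodComp I α)
  rw [(pieceEquiv hI α).finrank_eq, Module.finrank_pi, Nat.card_eq_fintype_card]

include hI in
theorem finite_tPiece (α : σ → ℤ) : Module.Finite k (tPiece I α) := by
  haveI := finite_goodComp hI α
  exact Module.Finite.equiv (pieceEquiv hI α).symm

end Groth.Agent.HilbPnLib
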