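import Groth.Agent.HilbPnLib.Decomp
import Mathlib.RingTheory.MvPolynomial.Ideal
import Mathlib.Data.Finsupp.Multiset
import Mathlib.Data.Sym.Card

/-!
# The graded pieces for a power of the irrelevant ideal
-/

set_option autoImplicit false

open MvPolynomial W4c1hilbpn

universe u v

noncomputable section

namespace Groth.Agent.HilbPnLib

variable {σ : Type} [Fintype σ] (k : Type u) [Field k] (r : ℕ)

/-- the power of the irrelevant ideal -/
abbrev mPow (σ : Type) : Ideal (MvPolynomial σ k) := Ideal.span (Set.range MvPolynomial.X) ^ r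

theorem mem_exps_mPow {β : σ →₀ ℕ} : β ∈ exps (mPow k r σ) ↔ r ≤ ∑ i, β i := by
  classical
  show monomial β (1 : k) ∈ idealOfVars σ k ^ r ↔ _
  rw [mem_pow_idealOfVars_iff, support_monomial, if_neg one_ne_zero]
  simp [Finsupp.degree_eq_sum]

theorem isMonomial_mPow : IsMonomial (mPow k r σ) := fun p hp β hβ => by
  classical
  have h := (mem_pow_idealOfVars_iff r p).mp hp β hβ
  show β ∈ exps (mPow k r σ)
  rw [mem_exps_mPow]
  simpa [Finsupp.degree_eq_sum] using h

variable {k r} {α : σ → ℤ}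

theorem sum_unev {γ : σ → ℤ} (hn : ∀ i, 0 ≤ γ i) : (∑ i, (unev γ i : ℤ)) = ∑ i, γ i :=
  Finset.sum_congr rfl fun i _ => by rw [unev_apply, Int.toNat_of_nonneg (hn i)]

theorem good_mPow {γ : σ → ℤ} : Good (mPow k r σ) γ ↔ (∀ i, 0 ≤ γ i) ∧ ∑ i, γ i < r := by
  refine and_congr_right fun hn => ?_
  rw [mem_exps_mPow, ← sum_unev hn, ← Nat.cast_sum]
  omega

theorem region_mPow {γ : σ → ℤ} : γ ∈ region (mPow k r σ) α ↔
    (∃ β : σ →₀ ℕ, r ≤ ∑ i, β i ∧ γ = ev β + α) ∧ ((∀ i, 0 ≤ γ i) → ∑ i, γ i < r) := by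
  rw [mem_region_iff]
  refine and_congr (exists_congr fun β => by rw [mem_exps_mPow]) ⟨fun h hn => ?_, fun h h' => ?_⟩
  · exact (good_mPow.mp ⟨hn, fun h' => h ⟨hn, h'⟩⟩).2
  · exact ((good_mPow.mpr ⟨h'.1, h h'.1⟩).2 h'.2)

theorem good_point (c : GoodComp (mPow k r σ) α) : ∃ β : σ →₀ ℕ,
    r ≤ ∑ i, β i ∧ c.1.out.1 = ev β + α ∧ (∀ i, 0 ≤ (ev β + α) i) ∧ ∑ i, (ev β + α) i < r := by
  obtain ⟨⟨β, hβ, e⟩, h⟩ := region_mPow.mp c.1.out.2
  have hn : ∀ i, 0 ≤ c.1.out.1 i := c.2 _ (Quot.out_eq c.1)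
  exact ⟨β, hβ, e, e ▸ hn, e ▸ h hn⟩

theorem sum_ev_add (β : σ →₀ ℕ) (α : σ → ℤ) : ∑ i, (ev β + α) i = ((∑ i, β i : ℕ) : ℤ) + ∑ i, α i := by
  push_cast
  simp [ev, Finset.sum_add_distrib]

theorem isEmpty_of_sum_ne (hn : 2 ≤ Fintype.card σ) (hs : ∑ i, α i ≠ -1) : IsEmpty (GoodComp (mPow k r σ) α) := by
  classical
  refine ⟨fun c => ?_⟩
  obtain ⟨β, hβ, e, hpos, hlt⟩ := good_point c
  rw [sum_ev_add] at hlt
  have hs2 : ∑ i, α i ≤ -2 := by omega
  obtain ⟨i, hi⟩ : ∃ i, α i < 0 := by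
    by_contra h
    push Not at h
    have := Finset.sum_nonneg fun i (_ : i ∈ Finset.univ) => h i
    omega
  obtain ⟨j, hj⟩ : ∃ j, j ≠ i := Fintype.exists_ne_of_one_lt_card (by omega) i
  have hr : ev β + α ∈ region (mPow k r σ) α := e ▸ c.1.out.2
  have hcc : compOf hr = c.1 :=
    (congrArg (SimpleGraph.connectedComponentMk _) (Subtype.ext e : c.1.out = (⟨_, hr⟩ : region _ α))).symm.trans
      (Quot.out_eq c.1)
  suffices ∀ (n : ℕ) (b : σ →₀ ℕ), (∑ l, b l) + b i = n → r ≤ ∑ l, b l →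
      ∀ h : ev b + α ∈ region (mPow k r σ) α, compOf h = c.1 → False from this _ β rfl hβ hr hcc
  intro n
  induction n using Nat.strong_induction_on with
  | _ n ih =>
    intro b hn' hb h hc
    have hpos : ∀ l, 0 ≤ (ev b + α) l := c.2 ⟨_, h⟩ hc
    have hlt := (region_mPow.mp h).2 hpos
    rw [sum_ev_add] at hlt
    have hbi : 0 < b i := by have := hpos i; simp [ev] at this; omega
    by_cases hbig : r < ∑ l, b l
    · have hmem : b - Finsupp.single i 1 ∈ exps (mPow k r σ) := by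
        rw [mem_exps_mPow]
        have : ∑ l, (b - Finsupp.single i 1 + Finsupp.single i 1 : σ →₀ ℕ) l = ∑ l, b l := by
          rw [tsub_add_cancel_of_le (Finsupp.single_le_iff.mpr hbi)]
        simp [Finset.sum_add_distrib] at this ⊢
        omega
      obtain ⟨h', e'⟩ := reach_down hmem tsub_le_self h
      refine ih _ ?_ _ rfl (mem_exps_mPow k r |>.mp hmem) h' (e'.trans hc)
      rw [← hn']
      have : ∑ l, (b - Finsupp.single i 1 + Finsupp.single i 1 : σ →₀ ℕ) l = ∑ l, b l := by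
        rw [tsub_add_cancel_of_le (Finsupp.single_le_iff.mpr hbi)]
      simp [Finset.sum_add_distrib] at this ⊢
      omega
    · have hsum : ∑ l, (b + Finsupp.single j 1 : σ →₀ ℕ) l = (∑ l, b l) + 1 := by simp [Finset.sum_add_distrib]
      have hup : ev (b + Finsupp.single j 1) + α ∈ region (mPow k r σ) α :=
        region_mPow.mpr ⟨⟨_, by omega, rfl⟩, fun _ => by rw [sum_ev_add, hsum]; omega⟩
      have hcup : compOf hup = c.1 := ((compOf_eq_of_adj h hup (step_adj (i := j) (by simp [ev]; ring)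
        fun l hl => by simp [ev, hl])).symm).trans hc
      have hle : b + Finsupp.single j 1 - Finsupp.single i 1 ≤ b + Finsupp.single j 1 := tsub_le_self
      have hsum2 : ∑ l, (b + Finsupp.single j 1 - Finsupp.single i 1 : σ →₀ ℕ) l + 1 = (∑ l, b l) + 1 := by
        rw [← hsum]
        have : ∑ l, (b + Finsupp.single j 1 - Finsupp.single i 1 + Finsupp.single i 1 : σ →₀ ℕ) l =
            ∑ l, (b + Finsupp.single j 1 : σ →₀ ℕ) l := by
          rw [tsub_add_cancel_of_le (Finsupp.single_le_iff.mpr (by simp; omega))]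
        simp [Finset.sum_add_distrib] at this ⊢
        omega
      obtain ⟨h', e'⟩ := reach_down ((mem_exps_mPow k r).mpr (by omega)) hle hup
      refine ih _ ?_ _ rfl (by omega) h' (e'.trans hcup)
      rw [← hn', Finsupp.tsub_apply, Finsupp.add_apply, Finsupp.single_eq_same, Finsupp.single_eq_of_ne hj.symm]
      omega

theorem card_goodComp_of_sum (hs : ∑ i, α i = -1) :
    Nat.card (GoodComp (mPow k r σ) α) =
      Nat.card {γ : σ → ℤ // (∀ i, 0 ≤ γ i ∧ α i ≤ γ i) ∧ ∑ i, γ i = (r : ℤ) - 1} := by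
  classical
  have hiso : ∀ (x : region (mPow k r σ) α), (∀ i, 0 ≤ x.1 i) → (∀ y : region (mPow k r σ) α,
      ((stepGraph σ).induce (region (mPow k r σ) α)).Reachable x y → y = x) ∧ ∑ i, x.1 i = (r : ℤ) - 1 := by
    intro x hx
    obtain ⟨⟨β, hβ, e⟩, hlt⟩ := region_mPow.mp x.2
    have hlt := hlt hx
    have hsum : ∑ i, x.1 i = (r : ℤ) - 1 := by
      have h' := congrArg (fun f : σ → ℤ => ∑ i, f i) e
      simp only [sum_ev_add] at h'
      omega
    refine ⟨fun y h => ?_, hsum⟩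
    obtain ⟨w⟩ := h
    cases w with
    | nil => rfl
    | @cons _ b _ hadj _ =>
      exfalso
      obtain ⟨i, hne, h | h⟩ := adj_iff.mp (show (stepGraph σ).Adj x.1 b.1 from hadj)
      · have hb : ∑ l, b.1 l = ∑ l, x.1 l + 1 := by
          rw [← Finset.add_sum_erase _ _ (Finset.mem_univ i), ← Finset.add_sum_erase _ x.1 (Finset.mem_univ i), h,
            Finset.sum_congr rfl fun l hl => hne l (Finset.mem_erase.mp hl).1]
          ring
        have := (region_mPow.mp b.2).2 fun l => by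
          rcases eq_or_ne l i with rfl | hl
          · have := hx l; omega
          · rw [hne l hl]; exact hx l
        omega
      · have hb : ∑ l, b.1 l + 1 = ∑ l, x.1 l := by
          rw [← Finset.add_sum_erase _ _ (Finset.mem_univ i), ← Finset.add_sum_erase _ x.1 (Finset.mem_univ i), h,
            Finset.sum_congr rfl fun l hl => hne l (Finset.mem_erase.mp hl).1]
          ring
        obtain ⟨⟨β', hβ', e'⟩, -⟩ := region_mPow.mp b.2
        rw [e', sum_ev_add] at hb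
        omega
  refine Nat.card_congr (Equiv.ofBijective (fun c => ⟨c.1.out.1, fun i => ⟨c.2 _ (Quot.out_eq c.1) i, ?_⟩,
    (hiso c.1.out (c.2 _ (Quot.out_eq c.1))).2⟩) ⟨fun c c' h => ?_, fun γ => ?_⟩)
  · obtain ⟨β, -, e, -, -⟩ := good_point c
    rw [e]
    simp [ev]
  · refine Subtype.ext ?_
    rw [← Quot.out_eq c.1, ← Quot.out_eq c'.1]
    exact congrArg _ (Subtype.ext (congrArg Subtype.val h :))
  · obtain ⟨γ, hγ, hsum⟩ := γ
    let β : σ →₀ ℕ := unev (γ - α)
    have eβ : ev β + α = γ := by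
      rw [ev_unev fun i => by simp; exact (hγ i).2, sub_add_cancel]
    have hdeg : ((∑ i, β i : ℕ) : ℤ) = r := by
      have := sum_ev_add β α
      rw [eβ] at this
      omega
    have hr : γ ∈ region (mPow k r σ) α :=
      region_mPow.mpr ⟨⟨β, le_of_eq (by exact_mod_cast hdeg.symm), eβ.symm⟩, fun _ => by omega⟩
    have hsupp : ∀ y ∈ (compOf hr).supp, y = (⟨γ, hr⟩ : region _ α) := fun y hy =>
      (hiso ⟨γ, hr⟩ fun i => (hγ i).1).1 y
        (SimpleGraph.ConnectedComponent.exact ((SimpleGraph.ConnectedComponent.mem_supp_iff _ _).mp hy).symm)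
    refine ⟨⟨compOf hr, fun y hy i => ?_⟩, Subtype.ext ?_⟩
    · rw [hsupp y hy]; exact (hγ i).1
    · exact (congrArg Subtype.val (hsupp _ (Quot.out_eq _)) :)

theorem finrank_piece_mPow (hn : 2 ≤ Fintype.card σ) (α : σ → ℤ) :
    Module.finrank k ↥(tPiece (mPow k r σ) α) =
      if (∑ i, α i = -1 ∧ ∑ i, (-α i).toNat ≤ r)
        then Nat.choose (Fintype.card σ + r - (∑ i, (-α i).toNat) - 1) (Fintype.card σ - 1) else 0 := by
  classical
  rw [finrank_tPiece (isMonomial_mPow k r) α]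
  by_cases hs : ∑ i, α i = -1
  swap
  · haveI := isEmpty_of_sum_ne (k := k) (r := r) hn hs
    rw [Nat.card_of_isEmpty, if_neg (fun h => hs h.1)]
  rw [card_goodComp_of_sum hs]
  let p : σ → ℤ := fun i => max 0 (α i)
  have hp : ∑ i, p i = ((∑ i, (-α i).toNat : ℕ) : ℤ) - 1 := by
    have : ∀ i, p i = α i + ((-α i).toNat : ℤ) := fun i => by simp only [p]; omega
    simp only [this, Finset.sum_add_distrib, hs]
    push_cast
    ring
  split_ifs with h
  · obtain ⟨-, hw⟩ := h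
    have hw' : ((r - ∑ i, (-α i).toNat : ℕ) : ℤ) = (r : ℤ) - (∑ i, (-α i).toNat : ℕ) := Nat.cast_sub hw
    have h1 : ∀ γ : {γ : σ → ℤ // (∀ i, 0 ≤ γ i ∧ α i ≤ γ i) ∧ ∑ i, γ i = (r : ℤ) - 1},
        ∑ i, (γ.1 i - p i).toNat = r - ∑ i, (-α i).toNat := fun γ => by
      have hnn : ∀ i, ((γ.1 i - p i).toNat : ℤ) = γ.1 i - p i := fun i => by
        have := γ.2.1 i; simp only [p]; omega
      have he : ((∑ i, (γ.1 i - p i).toNat : ℕ) : ℤ) = ((r - ∑ i, (-α i).toNat : ℕ) : ℤ) := by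
        rw [Nat.cast_sum, Finset.sum_congr rfl fun i _ => hnn i, Finset.sum_sub_distrib, γ.2.2, hp, hw']
        ring
      exact_mod_cast he
    have h2 : ∀ P : {P : σ → ℕ // ∑ i, P i = r - ∑ i, (-α i).toNat},
        (∀ i, 0 ≤ p i + P.1 i ∧ α i ≤ p i + P.1 i) ∧ ∑ i, (p i + (P.1 i : ℤ)) = (r : ℤ) - 1 := fun P =>
      ⟨fun i => by simp only [p]; omega,
        by rw [Finset.sum_add_distrib, hp, ← Nat.cast_sum, P.2]; omega⟩
    let e : {γ : σ → ℤ // (∀ i, 0 ≤ γ i ∧ α i ≤ γ i) ∧ ∑ i, γ i = (r : ℤ) - 1} ≃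
        {P : σ → ℕ // ∑ i, P i = r - ∑ i, (-α i).toNat} :=
      { toFun := fun γ => ⟨fun i => (γ.1 i - p i).toNat, h1 γ⟩
        invFun := fun P => ⟨fun i => p i + P.1 i, h2 P⟩
        left_inv := fun γ => Subtype.ext (funext fun i => by
          have := γ.2.1 i; simp only [p]; omega)
        right_inv := fun P => Subtype.ext (funext fun i => by simp) }
    rw [Nat.card_congr e, ← Nat.card_congr (Sym.equivNatSumOfFintype σ (r - ∑ i, (-α i).toNat)),
      Nat.card_eq_fintype_card, Sym.card_sym_eq_choose, ← Nat.choose_symm (by omega)]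
    congr 1 <;> omega
  · haveI : IsEmpty {γ : σ → ℤ // (∀ i, 0 ≤ γ i ∧ α i ≤ γ i) ∧ ∑ i, γ i = (r : ℤ) - 1} := ⟨fun γ => by
      have : ∑ i, p i ≤ ∑ i, γ.1 i := Finset.sum_le_sum fun i _ => by have := γ.2.1 i; simp only [p]; omega
      rw [γ.2.2, hp] at this
      exact h ⟨hs, by omega⟩⟩
    exact Nat.card_of_isEmpty

end Groth.Agent.HilbPnLib
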