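import Groth.Agent.HilbPnLib.Basic
import Groth.Agent.HilbPnLib.Stable
import Groth.Agent.HilbPnLib.PowVars3

/-!
# Slices of strongly stable ideals in three variables
-/

set_option autoImplicit false

open MvPolynomial W4c1hilbpn

universe u

noncomputable section

namespace Groth.Agent.HilbPnLib.Slices

open Groth.Agent.HilbPnLib

variable {k : Type u} [Field k] (I : Ideal (MvPolynomial (Fin 3) k))

/-- Exponents of the `i`-th slice outside the ideal. -/
def N (i : ℕ) : Set (ℕ × ℕ) := {p | e3 i p.1 p.2 ∉ exps I}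

/-- The size of the `i`-th slice. -/
def a (i : ℕ) : ℕ := (N I i).ncard

/-- The height of the `i`-th slice. -/
def h (i : ℕ) : ℕ := {c : ℕ | (0, c) ∈ N I i}.ncard

variable {I}

theorem choose_two_succ (n : ℕ) : (n + 1).choose 2 = n + n.choose 2 := by
  rw [show (2 : ℕ) = 1 + 1 from rfl, Nat.choose_succ_succ', Nat.choose_one_right]

theorem eq_Iio_of_lower {S : Set ℕ} (hf : S.Finite) (hd : ∀ c ∈ S, ∀ d ≤ c, d ∈ S) (c : ℕ) :
    c ∈ S ↔ c < S.ncard := by
  constructor
  · intro hc
    have h1 := Set.ncard_le_ncard (s := ↑(Finset.range (c + 1))) (fun d hd' => hd c hc d (by simpa [Nat.lt_succ_iff] using hd')) hf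
    rw [Set.ncard_coe_finset, Finset.card_range] at h1
    omega
  · intro hc
    by_contra hS
    have h1 := Set.ncard_le_ncard (s := S) (t := ↑(Finset.range c)) (fun d hd' => by
      simp only [Finset.coe_range, Set.mem_Iio]
      by_contra hdc
      exact hS (hd d hd' c (not_lt.1 hdc)))
    rw [Set.ncard_coe_finset, Finset.card_range] at h1
    omega

theorem mem_lower {i b c b' c' : ℕ} (h : (b, c) ∈ N I i) (hb : b' ≤ b) (hc : c' ≤ c) : (b', c') ∈ N I i :=
  fun h' => h (exps_up h' (e3_le le_rfl hb hc))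

section

variable [Module.Finite k (MvPolynomial (Fin 3) k ⧸ I)] (hI : IsStronglyStable I)
include hI

theorem finite_N (i : ℕ) : (N I i).Finite := by
  refine Set.Finite.of_finite_image (f := fun p : ℕ × ℕ => e3 i p.1 p.2) (Set.Finite.subset (finite_compl hI.1)
    (by rintro _ ⟨p, hp, rfl⟩; exact hp)) ?_
  rintro ⟨b, c⟩ - ⟨b', c'⟩ - he
  change e3 i b c = e3 i b' c' at he
  have h1 := DFunLike.congr_fun he 1
  have h2 := DFunLike.congr_fun he 2
  simp [e3_apply] at h1 h2
  rw [h1, h2]

theorem mem_col_iff (i c : ℕ) : (0, c) ∈ N I i ↔ c < h I i :=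
  eq_Iio_of_lower (S := {c : ℕ | (0, c) ∈ N I i})
    ((finite_N hI i).preimage (fun _ _ _ _ e => (Prod.mk.inj e).2))
    (fun _ hc _ hd => mem_lower hc le_rfl hd) c

omit [Module.Finite k (MvPolynomial (Fin 3) k ⧸ I)] in
theorem shift_y {i b c : ℕ} (hm : (b, c) ∈ N I (i + 1)) : (b + 1, c) ∈ N I i := fun h' => by
  refine hm ?_
  have := hI.2 _ h' 0 1 (by decide) (by simp [e3_apply])
  convert this using 1
  ext l
  fin_cases l <;> simp [e3_apply, Finsupp.single_apply]

omit [Module.Finite k (MvPolynomial (Fin 3) k ⧸ I)] in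
theorem shift_z {i b c : ℕ} (hm : (b, c) ∈ N I (i + 1)) : (b, c + 1) ∈ N I i := fun h' => by
  refine hm ?_
  have := hI.2 _ h' 0 2 (by decide) (by simp [e3_apply])
  convert this using 1
  ext l
  fin_cases l <;> simp [e3_apply, Finsupp.single_apply]

omit [Module.Finite k (MvPolynomial (Fin 3) k ⧸ I)] in
theorem move_z {i b c : ℕ} (hm : (b + 1, c) ∈ N I i) : (b, c + 1) ∈ N I i := fun h' => by
  refine hm ?_
  have := hI.2 _ h' 1 2 (by decide) (by simp [e3_apply])
  convert this using 1
  ext l
  fin_cases l <;> simp [e3_apply, Finsupp.single_apply]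

theorem sum_lt_h {i : ℕ} : ∀ {b c : ℕ}, (b, c) ∈ N I i → b + c < h I i := by
  intro b
  induction b with
  | zero => intro c hc; rw [zero_add]; exact (mem_col_iff hI i c).1 hc
  | succ b ih => intro c hc; have := ih (move_z hI hc); omega

theorem N_subset (i : ℕ) : N I i ⊆ ↑((Finset.range (h I i)).biUnion fun s => Finset.antidiagonal s) := fun p hp => by
  simp only [Finset.coe_biUnion, Finset.coe_range, Set.mem_Iio, Set.mem_iUnion]
  exact ⟨p.1 + p.2, sum_lt_h hI hp, by simp⟩

omit hI [Module.Finite k (MvPolynomial (Fin 3) k ⧸ I)] in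
theorem card_triangle (n : ℕ) :
    ((Finset.range n).biUnion fun s => Finset.antidiagonal s).card ≤ (n + 1).choose 2 := by
  refine le_trans Finset.card_biUnion_le ?_
  simp only [Finset.Nat.card_antidiagonal]
  induction n with
  | zero => simp
  | succ n ih => rw [Finset.sum_range_succ, choose_two_succ (n + 1)]; omega

theorem a_le (i : ℕ) : a I i ≤ (h I i + 1).choose 2 := by
  refine le_trans (Set.ncard_le_ncard (N_subset hI i)) ?_
  rw [Set.ncard_coe_finset]
  exact card_triangle _

theorem le_h_of_lt {i t : ℕ} (ht : (t + 1).choose 2 < a I i) : t + 1 ≤ h I i := by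
  by_contra hlt
  have := (a_le hI i).trans (Nat.choose_le_choose 2 (show h I i + 1 ≤ t + 1 by omega))
  omega

theorem a_succ_add_le (i : ℕ) : a I (i + 1) + h I i ≤ a I i := by
  have e1 : a I (i + 1) = ((fun p : ℕ × ℕ => (p.1 + 1, p.2)) '' N I (i + 1)).ncard :=
    (Set.ncard_image_of_injective _ fun p q e => by
      simp only [Prod.mk.injEq] at e
      exact Prod.ext (by omega) e.2).symm
  have e2 : h I i = ((fun c : ℕ => ((0 : ℕ), c)) '' {c : ℕ | (0, c) ∈ N I i}).ncard :=
    (Set.ncard_image_of_injective _ fun p q e => (Prod.mk.inj e).2).symm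
  rw [e1, e2]
  refine le_trans (Set.ncard_union_eq ?_ ((finite_N hI (i + 1)).image _)
    (((finite_N hI i).preimage (fun _ _ _ _ e => (Prod.mk.inj e).2)).image _)).ge ?_
  · rw [Set.disjoint_left]
    rintro _ ⟨p, -, rfl⟩ ⟨c, -, e⟩
    exact absurd (Prod.mk.inj e).1 (by omega)
  · refine Set.ncard_le_ncard ?_ (finite_N hI i)
    rintro _ (⟨⟨b, c⟩, hm, rfl⟩ | ⟨c, hc, rfl⟩)
    · exact shift_y hI hm
    · exact hc

theorem h_succ_lt {i : ℕ} (hne : 0 < h I (i + 1)) : h I (i + 1) < h I i := by
  have h1 := shift_z hI ((mem_col_iff hI (i + 1) (h I (i + 1) - 1)).2 (by omega))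
  have h2 := (mem_col_iff hI i _).1 h1
  omega

theorem finrank_slice (i : ℕ) : Module.finrank k (MvPolynomial (Fin 2) k ⧸ sliceX I i) = a I i := by
  classical
  have hsl := isMonomial_sliceX hI.1 i
  haveI : Module.Finite k (MvPolynomial (Fin 2) k ⧸ sliceX I i) := by
    let f : MvPolynomial (Fin 2) k →ₗ[k] MvPolynomial (Fin 3) k ⧸ I :=
      (Ideal.Quotient.mkₐ k I).toLinearMap.comp
        ((LinearMap.mulRight k (X 0 ^ i : MvPolynomial (Fin 3) k)).comp (rename Fin.succ).toLinearMap)
    have hf : LinearMap.ker f = (sliceX I i).restrictScalars k := by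
      ext p
      rw [LinearMap.mem_ker, Submodule.restrictScalars_mem, mem_sliceX]
      exact Ideal.Quotient.eq_zero_iff_mem
    haveI : Module.Finite k (MvPolynomial (Fin 2) k ⧸ LinearMap.ker f) :=
      Module.Finite.of_injective ((LinearMap.ker f).liftQ f le_rfl)
        (LinearMap.ker_eq_bot.1 (Submodule.ker_liftQ_eq_bot _ _ _ le_rfl))
    haveI : Module.Finite k (MvPolynomial (Fin 2) k ⧸ (sliceX I i).restrictScalars k) := hf ▸ this
    exact Module.Finite.equiv (Submodule.Quotient.restrictScalarsEquiv k (sliceX I i))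
  rw [finrank_quot hsl]
  refine Nat.card_congr ⟨fun δ => ⟨(δ.1 0, δ.1 1), fun hh => δ.2 ((exps_sliceX i δ.1).2 hh)⟩,
    fun p => ⟨Finsupp.equivFunOnFinite.symm ![p.1.1, p.1.2], fun hh => p.2 ?_⟩, fun δ => ?_, fun p => ?_⟩
  · have := (exps_sliceX i _).1 hh
    simpa using this
  · refine Subtype.ext (Finsupp.ext fun l => ?_)
    fin_cases l <;> simp
  · exact Subtype.ext (Prod.ext (by simp) (by simp))

theorem sum_le_colength (M : ℕ) :
    ∑ i ∈ Finset.range M, a I i ≤ Module.finrank k (MvPolynomial (Fin 3) k ⧸ I) := by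
  classical
  rw [finrank_quot hI.1]
  haveI : ∀ i, Finite (N I i) := fun i => (finite_N hI i).to_subtype
  haveI : Finite {δ : Fin 3 →₀ ℕ // δ ∉ exps I} := (finite_compl hI.1).to_subtype
  let f : (Σ i : Fin M, N I i) → {δ : Fin 3 →₀ ℕ // δ ∉ exps I} := fun p => ⟨e3 p.1 p.2.1.1 p.2.1.2, p.2.2⟩
  have hf : Function.Injective f := by
    rintro ⟨i, ⟨b, c⟩, hp⟩ ⟨i', ⟨b', c'⟩, hq⟩ e
    have h0 := DFunLike.congr_fun (congrArg Subtype.val e) 0
    have h1 := DFunLike.congr_fun (congrArg Subtype.val e) 1
    have h2 := DFunLike.congr_fun (congrArg Subtype.val e) 2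
    simp [f, e3_apply] at h0 h1 h2
    obtain rfl := Fin.ext h0
    subst h1 h2
    rfl
  have h1 := Nat.card_le_card_of_injective f hf
  rw [Nat.card_sigma] at h1
  refine le_trans (le_of_eq ?_) h1
  rw [← Fin.sum_univ_eq_sum_range]
  rfl

variable {r : ℕ} (hd : Module.finrank k (MvPolynomial (Fin 3) k ⧸ I) ≤ (r + 2).choose 3)
include hd

theorem tail_le {j : ℕ} (hj : j ≤ r) :
    ∑ i ∈ Finset.Ico j r, a I i ≤ ∑ i ∈ Finset.Ico j r, (r - i + 1).choose 2 := by
  by_contra hlt
  push Not at hlt
  obtain ⟨i, hi, hai⟩ := Finset.exists_lt_of_sum_lt hlt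
  rw [Finset.mem_Ico] at hi
  have key : ∀ m i : ℕ, m + i < r → (r - (m + i) + 1).choose 2 < a I (m + i) → (r - i + 1).choose 2 < a I i := by
    intro m
    induction m with
    | zero => intro i _ h; rwa [zero_add] at h
    | succ m ih =>
      intro i hm hh
      have h1 := ih (i + 1) (by omega) (by rwa [show m + (i + 1) = m + 1 + i by omega])
      have h2 := le_h_of_lt hI h1
      have h3 := h_succ_lt hI (I := I) (i := i) (by omega)
      have h4 := a_succ_add_le hI (I := I) i
      rw [show r - i + 1 = (r - (i + 1) + 1) + 1 by omega, choose_two_succ (r - (i + 1) + 1)]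
      omega
  have hsum : ∑ i ∈ Finset.range j, (r - i + 1).choose 2 ≤ ∑ i ∈ Finset.range j, a I i := by
    refine Finset.sum_le_sum fun l hl => ?_
    rw [Finset.mem_range] at hl
    exact (key (i - l) l (by omega) (by rwa [show i - l + l = i by omega])).le
  have htot := Finset.sum_range_add_sum_Ico (fun i => a I i) hj
  have htot' := Finset.sum_range_add_sum_Ico (fun i => (r - i + 1).choose 2) hj
  have hT : ∑ i ∈ Finset.range r, (r - i + 1).choose 2 = (r + 2).choose 3 := by
    rw [← hockey r, ← Finset.sum_range_reflect]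
    refine Finset.sum_congr rfl fun t ht => ?_
    rw [Finset.mem_range] at ht
    congr 1
    omega
  have := sum_le_colength hI (I := I) r
  beta_reduce at htot htot'
  omega

theorem eq_mPow (he : ∀ j < r, ∑ i ∈ Finset.Ico j r, a I i = ∑ i ∈ Finset.Ico j r, (r - i + 1).choose 2) :
    I = mPow k r (Fin 3) := by
  classical
  have ha : ∀ i < r, a I i = (r - i + 1).choose 2 := by
    intro i hi
    have h1 := he i hi
    rw [Finset.sum_eq_sum_Ico_succ_bot hi, Finset.sum_eq_sum_Ico_succ_bot hi] at h1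
    rcases Nat.lt_or_ge (i + 1) r with h2 | h2
    · rw [he _ h2] at h1; omega
    · rw [Finset.Ico_eq_empty (by omega)] at h1
      simpa using h1
  have h0 : ∀ i, r ≤ i → a I i = 0 := by
    intro i hi
    have h1 := sum_le_colength hI (I := I) (i + 1)
    have h2 : ∑ l ∈ Finset.range r, a I l + a I i ≤ ∑ l ∈ Finset.range (i + 1), a I l := by
      rw [Finset.sum_range_succ]
      exact Nat.add_le_add_right (Finset.sum_le_sum_of_subset (Finset.range_mono hi)) _
    have h3 : ∑ l ∈ Finset.range r, a I l = (r + 2).choose 3 := by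
      rw [← hockey r, ← Finset.sum_range_reflect]
      refine Finset.sum_congr rfl fun t ht => ?_
      rw [Finset.mem_range] at ht
      rw [ha _ (by omega)]
      congr 1
      omega
    omega
  have hmem : ∀ i b c, (b, c) ∈ N I i ↔ i + b + c < r := by
    intro i b c
    by_cases hi : r ≤ i
    · have : N I i = ∅ := (Set.ncard_eq_zero (finite_N hI i)).1 (h0 i hi)
      rw [this]
      simp
      omega
    · have hh : h I i ≤ r - i := by
        have h4 := a_succ_add_le hI (I := I) i
        rcases Nat.lt_or_ge (i + 1) r with h2 | h2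
        · rw [ha i (by omega), ha _ h2, show r - i + 1 = (r - (i + 1) + 1) + 1 by omega,
            choose_two_succ (r - (i + 1) + 1)] at h4
          omega
        · rw [ha i (by omega), show r - i = 1 by omega, show Nat.choose 2 2 = 1 from rfl] at h4
          omega
      refine ⟨fun hm => by have := sum_lt_h hI hm; omega, fun hlt => ?_⟩
      have hsub : N I i ⊆ ↑((Finset.range (r - i)).biUnion fun s => Finset.antidiagonal s) :=
        (N_subset hI i).trans (Finset.coe_subset.2 (Finset.biUnion_subset_biUnion_of_subset_left _ (Finset.range_mono hh)))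
      have heq := Set.eq_of_subset_of_ncard_le hsub (by
        rw [Set.ncard_coe_finset]
        exact (card_triangle _).trans (ha i (by omega)).ge) (Finset.finite_toSet _)
      rw [heq]
      simp only [Finset.coe_biUnion, Finset.coe_range, Set.mem_Iio, Set.mem_iUnion]
      exact ⟨b + c, by omega, by simp⟩
  ext p
  rw [mem_iff_support hI.1, mem_iff_support (isMonomial_mPow k r)]
  refine forall₂_congr fun β _ => ?_
  rw [mem_exps_mPow, Fin.sum_univ_three]
  have h1 := hmem (β 0) (β 1) (β 2)
  change e3 (β 0) (β 1) (β 2) ∉ exps I ↔ _ at h1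
  rw [e3_eta] at h1
  by_cases hβ : β ∈ exps I
  · simp only [hβ, not_true_eq_false, false_iff, not_lt] at h1
    simp [hβ, h1]
  · simp only [hβ, not_false_eq_true, true_iff] at h1
    simp only [hβ, false_iff, not_le]
    exact h1

end

end Groth.Agent.HilbPnLib.Slices
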