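import Groth.Agent.HilbPnLib.Socle
import Groth.Agent.HilbPnLib.Slices

/-!
# Sign-pattern pieces negative at one variable, for strongly stable ideals
-/

set_option autoImplicit false
set_option linter.style.haveILetI false

open MvPolynomial W4c1hilbpn

universe u

noncomputable section

namespace Groth.Agent.HilbPnLib

variable {k : Type u} [Field k] {I : Ideal (MvPolynomial (Fin 3) k)}

/-- The transposition of `y` and `z`. -/
def τ : Equiv.Perm (Fin 3) := Equiv.swap 1 2

theorem τ_τ (i : Fin 3) : τ (τ i) = i := Equiv.swap_apply_self 1 2 i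

@[simp] theorem τ_symm (i : Fin 3) : τ.symm i = τ i := (Equiv.symm_apply_eq τ).2 (τ_τ i).symm

variable (I) in
/-- The ideal with `y` and `z` exchanged. -/
def swapYZ : Ideal (MvPolynomial (Fin 3) k) := I.comap (renameEquiv k τ).toAlgHom.toRingHom

theorem exps_swapYZ (β : Fin 3 →₀ ℕ) : β ∈ exps (swapYZ I) ↔ β.mapDomain τ ∈ exps I := by
  show monomial β (1 : k) ∈ swapYZ I ↔ monomial (β.mapDomain τ) (1 : k) ∈ I
  rw [swapYZ, Ideal.mem_comap]
  show rename τ (monomial β (1 : k)) ∈ I ↔ _
  rw [rename_monomial]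

theorem isMonomial_swapYZ (hI : IsMonomial I) : IsMonomial (swapYZ I) := by
  classical
  intro p hp β hβ
  refine (exps_swapYZ β).2 (hI _ hp (β.mapDomain τ) ?_)
  show β.mapDomain τ ∈ (rename τ p).support
  rw [support_rename_of_injective τ.injective]
  exact Finset.mem_image_of_mem _ hβ

theorem mapDomain_τ (β : Fin 3 →₀ ℕ) (i : Fin 3) : β.mapDomain τ i = β (τ i) := by
  conv_lhs => rw [← τ_τ i]
  rw [Finsupp.mapDomain_apply τ.injective]

theorem e3_swap (a b c : ℕ) : (e3 a b c).mapDomain τ = e3 a c b := by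
  ext i
  rw [mapDomain_τ]
  fin_cases i <;> simp [τ, e3_apply, Equiv.swap_apply_def]

theorem finite_swapYZ [Module.Finite k (MvPolynomial (Fin 3) k ⧸ I)] :
    Module.Finite k (MvPolynomial (Fin 3) k ⧸ swapYZ I) := by
  refine Module.Finite.equiv (Ideal.quotientEquivAlg (swapYZ I) I (renameEquiv k τ) ?_).toLinearEquiv.symm
  rw [swapYZ]
  exact (Ideal.map_comap_of_surjective _ (renameEquiv k τ).surjective I).symm

theorem exps_swapYZ_e3 (a b c : ℕ) : e3 a b c ∈ exps (swapYZ I) ↔ e3 a c b ∈ exps I := by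
  rw [exps_swapYZ, e3_swap]

theorem stairZ_swap (a b : ℕ) : stairZ (swapYZ I) a b = stairY I a b :=
  Nat.card_congr (Equiv.subtypeEquivRight fun c => not_congr (exps_swapYZ_e3 a b c))

theorem region_swap (α γ : Fin 3 → ℤ) : γ ∈ region (swapYZ I) α ↔ γ ∘ τ ∈ region I (α ∘ τ) := by
  have hu : (∀ i, 0 ≤ γ i) → (unev γ).mapDomain τ = unev (γ ∘ τ) := fun _ =>
    Finsupp.ext fun i => by rw [mapDomain_τ, unev_apply, unev_apply]; rfl
  rw [mem_region_iff, mem_region_iff]
  refine and_congr ⟨?_, ?_⟩ (not_congr ⟨?_, ?_⟩)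
  · rintro ⟨β, hβ, rfl⟩
    exact ⟨β.mapDomain τ, (exps_swapYZ β).1 hβ, funext fun i => by simp [ev, mapDomain_τ]⟩
  · rintro ⟨β, hβ, e⟩
    refine ⟨β.mapDomain τ, (exps_swapYZ _).2 ?_, funext fun i => ?_⟩
    · rwa [show (β.mapDomain τ).mapDomain τ = β from Finsupp.ext fun i => by rw [mapDomain_τ, mapDomain_τ, τ_τ]]
    · have := congrFun e (τ i)
      simpa [ev, mapDomain_τ, τ_τ] using this
  · exact fun h => ⟨fun i => h.1 (τ i), by rw [← hu h.1]; exact (exps_swapYZ _).1 h.2⟩
  · intro h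
    have h0 : ∀ i, 0 ≤ γ i := fun i => by simpa [τ_τ] using h.1 (τ i)
    exact ⟨h0, (exps_swapYZ _).2 (by rw [hu h0]; exact h.2)⟩

theorem card_goodComp_swap (α : Fin 3 → ℤ) :
    Nat.card (GoodComp (swapYZ I) α) = Nat.card (GoodComp I (α ∘ τ)) := by
  let e : region (swapYZ I) α ≃ region I (α ∘ τ) :=
    Equiv.subtypeEquiv (Equiv.arrowCongr τ (Equiv.refl ℤ)) fun γ => by
      rw [region_swap]
      exact Iff.rfl
  have he : ∀ γ i, (e γ).1 i = γ.1 (τ i) := fun γ i => rfl
  let φ : (stepGraph (Fin 3)).induce (region (swapYZ I) α) ≃g (stepGraph (Fin 3)).induce (region I (α ∘ τ)) :=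
    { toEquiv := e
      map_rel_iff' := by
        intro γ δ
        show (stepGraph (Fin 3)).Adj (e γ).1 (e δ).1 ↔ (stepGraph (Fin 3)).Adj γ.1 δ.1
        rw [adj_iff, adj_iff]
        refine ⟨fun ⟨i, hne, h⟩ => ⟨τ i, fun j hj => ?_, ?_⟩, fun ⟨i, hne, h⟩ => ⟨τ i, fun j hj => ?_, ?_⟩⟩
        · have := hne (τ j) (fun e => hj (by rw [← e, τ_τ]))
          simpa [he, τ_τ] using this
        · simpa [he] using h
        · rw [he, he]
          exact hne (τ j) (fun e => hj (by rw [← e, τ_τ]))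
        · simpa [he, τ_τ] using h }
  refine Nat.card_congr (Equiv.subtypeEquiv φ.connectedComponentEquiv fun c => ?_)
  refine c.ind fun v => ⟨fun h γ hγ i => ?_, fun h γ hγ i => ?_⟩
  · have h1 : φ.symm γ ∈ (SimpleGraph.connectedComponentMk ((stepGraph (Fin 3)).induce (region (swapYZ I) α)) v).supp := by
      rw [SimpleGraph.ConnectedComponent.mem_supp_iff] at hγ ⊢
      have h2 := congrArg φ.connectedComponentEquiv.symm hγ
      rw [Equiv.symm_apply_apply] at h2
      exact h2
    have h2 := h _ h1 (τ i)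
    rw [← show e (φ.symm γ) = γ from φ.toEquiv.apply_symm_apply γ, he]
    exact h2
  · have h1 : φ γ ∈ (φ.connectedComponentEquiv (SimpleGraph.connectedComponentMk ((stepGraph (Fin 3)).induce (region (swapYZ I) α)) v)).supp := by
      rw [SimpleGraph.ConnectedComponent.mem_supp_iff] at hγ ⊢
      rw [← hγ]
      rfl
    have h2 := h _ h1 (τ i)
    rwa [show (φ γ).1 (τ i) = γ.1 i from by show γ.1 (τ (τ i)) = _; rw [τ_τ]] at h2

theorem sig_y [Module.Finite k (MvPolynomial (Fin 3) k ⧸ I)] (hI : IsMonomial I) :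
    Module.finrank k ↥(sigPiece I ({1} : Set (Fin 3))) =
      Module.finrank k ↥(sigPiece (swapYZ I) ({2} : Set (Fin 3))) := by
  classical
  haveI := finite_swapYZ (I := I)
  have hI' := isMonomial_swapYZ hI
  obtain ⟨R, hR, -⟩ := exists_box hI
  have hR' : ∀ α, α ∉ box R → tPiece (swapYZ I) α = ⊥ := fun α hα => by
    haveI := finite_tPiece hI' α
    refine Submodule.finrank_eq_zero.mp ?_
    rw [finrank_tPiece hI', card_goodComp_swap, ← finrank_tPiece hI, hR _ fun h => hα ?_, finrank_bot]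
    simp only [box, Fintype.mem_piFinset] at h ⊢
    intro i
    simpa [τ_τ] using h (τ i)
  rw [finrank_sig hI hR, finrank_sig hI' hR']
  refine Finset.sum_nbij' (fun α => α ∘ τ) (fun α => α ∘ τ) ?_ ?_ (fun α _ => by funext i; simp [τ_τ])
    (fun α _ => by funext i; simp [τ_τ]) fun α _ => ?_
  · intro α hα
    rw [Fintype.mem_piFinset] at hα ⊢
    intro i
    have h := hα (τ i)
    rw [mem_half] at h ⊢
    fin_cases i <;> simp [τ, Equiv.swap_apply_def] at h ⊢ <;> exact h
  · intro α hα
    rw [Fintype.mem_piFinset] at hα ⊢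
    intro i
    have h := hα (τ i)
    rw [mem_half] at h ⊢
    fin_cases i <;> simp [τ, Equiv.swap_apply_def] at h ⊢ <;> exact h
  · rw [finrank_tPiece hI', card_goodComp_swap, finrank_tPiece hI]
    congr 2
    funext i
    simp [τ_τ]

/-- The pieces negative at `z` are bounded by the socle sums. -/
theorem sig_z_le [Module.Finite k (MvPolynomial (Fin 3) k ⧸ I)] (hI : IsMonomial I) :
    ∃ R : ℕ, ∀ M, R ≤ M →
      (∀ a b, M ≤ a ∨ M ≤ b → stairZ I a b = 0) ∧
      Module.finrank k ↥(sigPiece I ({2} : Set (Fin 3))) ≤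
        ∑ p ∈ Finset.range M ×ˢ Finset.range M, ∑ q ∈ Finset.range M ×ˢ Finset.range M,
          (if p.1 ≤ q.1 ∧ p.2 ≤ q.2
            then stairZ I q.1 q.2 - max (stairZ I (q.1 + 1) q.2) (stairZ I q.1 (q.2 + 1)) else 0) := by
  classical
  obtain ⟨R, hR, hG⟩ := exists_box hI
  refine ⟨R, fun M hM => ?_⟩
  have hbig : ∀ a b : ℕ, M ≤ a ∨ M ≤ b → stairZ I a b = 0 := fun a b h => Nat.le_zero.mp ((stair_iff hI a b 0).mp (by
    by_contra hc
    have h0 := hG _ (good_pt.mpr hc) 0; have h1 := hG _ (good_pt.mpr hc) 1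
    simp [pt] at h0 h1
    omega))
  refine ⟨hbig, ?_⟩
  have hR' : ∀ α, α ∉ box M → tPiece I α = ⊥ := fun α hα => hR α fun h => hα (by
    simp only [box, Fintype.mem_piFinset, Finset.mem_Ico] at h ⊢
    intro i; have := h i; omega)
  rw [finrank_sig hI hR', ← Finset.sum_fiberwise_of_maps_to
    (g := fun α : Fin 3 → ℤ => ((α 0).toNat, (α 1).toNat)) (t := Finset.range M ×ˢ Finset.range M) (fun α hα => by
      rw [Fintype.mem_piFinset] at hα
      have h0 := mem_half.mp (hα 0); have h1 := mem_half.mp (hα 1)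
      simp at h0 h1 ⊢
      omega)]
  refine Finset.sum_le_sum fun p hp => ?_
  have h := socle_bound hI p.1 p.2
  rw [finsum_eq_sum_of_support_subset _ (s := Finset.range M ×ˢ Finset.range M) (by
    intro q hq
    rw [Function.mem_support] at hq
    simp only [Finset.coe_product, Set.mem_prod, Finset.coe_range, Set.mem_Iio]
    by_contra hc
    rw [hbig q.1 q.2 (by omega)] at hq
    simp at hq)] at h
  refine le_trans ?_ h
  rw [finrank_family hI hR' _ ![{(p.1 : ℤ)}, {(p.2 : ℤ)}, Finset.Ico (-(M : ℤ)) 0] (fun α hα => by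
      have h0 := Fintype.mem_piFinset.mp hα 0; have h1 := Fintype.mem_piFinset.mp hα 1
      have h2 := Fintype.mem_piFinset.mp hα 2
      simp at h0 h1 h2
      exact ⟨h0, h1, h2.2⟩)
    (fun α hα hq => Fintype.mem_piFinset.mpr fun i => by
      have := Fintype.mem_piFinset.mp hα i
      fin_cases i <;> simp_all)]
  refine Finset.sum_le_sum_of_subset fun α hα => ?_
  rw [Finset.mem_filter, Fintype.mem_piFinset] at hα
  have h0 := mem_half.mp (hα.1 0); have h1 := mem_half.mp (hα.1 1); have h2 := mem_half.mp (hα.1 2)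
  have e0 := congrArg Prod.fst hα.2; have e1 := congrArg Prod.snd hα.2
  rw [Fintype.mem_piFinset]
  intro i
  simp at h0 h1 h2 e0 e1
  fin_cases i <;> simp <;> omega

namespace Slices

theorem hockey_tail (r j : ℕ) : ∑ i ∈ Finset.Ico j r, (r - i + 1).choose 2 = (r - j + 2).choose 3 := by
  rw [Finset.sum_Ico_eq_sum_range, ← hockey (r - j), ← Finset.sum_range_reflect]
  refine Finset.sum_congr rfl fun t ht => ?_
  rw [Finset.mem_range] at ht
  congr 1
  omega

theorem hockey4 (r : ℕ) : ∑ j ∈ Finset.range r, (r - j + 2).choose 3 = (r + 3).choose 4 := by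
  induction r with
  | zero => rfl
  | succ r ih =>
    rw [Finset.sum_range_succ', Nat.choose_succ_succ' (r + 3) 3, ← ih, add_comm]
    simp

/-- Telescoping for a staircase. -/
theorem sum_stair (b : ℕ → ℕ) (hmono : ∀ j, b (j + 1) ≤ b j) (M : ℕ) (hb : b M = 0) {a : ℕ} (ha : a ≤ M) :
    ∑ j ∈ Finset.range M, (if a ≤ j then b j - b (j + 1) else 0) = b a := by
  obtain ⟨d, rfl⟩ : ∃ d, M = a + d := ⟨M - a, by omega⟩
  rw [Finset.sum_range_add, Finset.sum_eq_zero (fun j hj => if_neg (by rw [Finset.mem_range] at hj; omega)), zero_add]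
  simp only [le_add_iff_nonneg_right, zero_le, if_true]
  clear ha
  induction d generalizing a with
  | zero => simp at hb ⊢; exact hb.symm
  | succ d ih =>
    rw [Finset.sum_range_succ', show a + 0 + 1 = a + 1 by omega, show a + 0 = a by omega]
    rw [Finset.sum_congr rfl (g := fun x => b (a + 1 + x) - b (a + 1 + x + 1)) fun x _ => by
      rw [show a + (x + 1) = a + 1 + x by omega], ih (by rw [show a + 1 + d = a + (d + 1) by omega]; exact hb)]
    have := hmono a
    omega

variable [Module.Finite k (MvPolynomial (Fin 3) k ⧸ I)] (hI : IsStronglyStable I)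
include hI

theorem a_eq_sum {M i : ℕ} (hZ : ∀ b, M ≤ b → stairZ I i b = 0) :
    a I i = ∑ b ∈ Finset.range M, stairZ I i b := by
  classical
  have he : N I i = ↑((Finset.range M).biUnion fun b => (Finset.range (stairZ I i b)).image (Prod.mk b)) := by
    ext ⟨b, c⟩
    simp only [N, Set.mem_setOf_eq, Finset.coe_biUnion, Finset.coe_range, Set.mem_Iio, Set.mem_iUnion,
      Finset.coe_image, Set.mem_image, Prod.mk.injEq]
    rw [stair_iff hI.1]
    constructor
    · intro h
      refine ⟨b, ?_, c, by omega, rfl, rfl⟩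
      by_contra hb
      rw [hZ b (by omega)] at h
      omega
    · rintro ⟨b', -, c', hc', rfl, rfl⟩
      omega
  rw [a, he, Set.ncard_coe_finset, Finset.card_biUnion]
  · exact Finset.sum_congr rfl fun b _ => by
      rw [Finset.card_image_of_injective _ fun c c' e => (Prod.mk.inj e).2, Finset.card_range]
  · intro b _ b' _ hne
    rw [Function.onFun, Finset.disjoint_left]
    intro p hp hp'
    rw [Finset.mem_image] at hp hp'
    obtain ⟨c, -, rfl⟩ := hp
    obtain ⟨c', -, e⟩ := hp'
    exact hne (Prod.mk.inj e).1.symm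

theorem a_swap (i M : ℕ) (hY : ∀ c, M ≤ c → stairY I i c = 0) :
    a I i = ∑ c ∈ Finset.range M, stairY I i c := by
  classical
  haveI := finite_swapYZ (I := I)
  have hI' := isMonomial_swapYZ hI.1
  have he : N I i = Prod.swap '' ↑((Finset.range M).biUnion fun b => (Finset.range (stairY I i b)).image (Prod.mk b)) := by
    rw [Set.image_swap_eq_preimage_swap]
    ext ⟨b, c⟩
    simp only [N, Set.mem_setOf_eq, Set.mem_preimage, Prod.swap_prod_mk, Finset.coe_biUnion, Finset.coe_range,
      Set.mem_Iio, Set.mem_iUnion, Finset.coe_image, Set.mem_image, Prod.mk.injEq]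
    rw [← exps_swapYZ_e3 (I := I) i c b, stair_iff hI', stairZ_swap]
    constructor
    · intro h
      refine ⟨c, ?_, b, by omega, rfl, rfl⟩
      by_contra hc
      rw [hY c (by omega)] at h
      omega
    · rintro ⟨c', -, b', hb', rfl, rfl⟩
      omega
  rw [a, he, Set.ncard_image_of_injective _ Prod.swap_injective, Set.ncard_coe_finset, Finset.card_biUnion]
  · exact Finset.sum_congr rfl fun b _ => by
      rw [Finset.card_image_of_injective _ fun c c' e => (Prod.mk.inj e).2, Finset.card_range]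
  · intro b _ b' _ hne
    rw [Function.onFun, Finset.disjoint_left]
    intro p hp hp'
    rw [Finset.mem_image] at hp hp'
    obtain ⟨c, -, rfl⟩ := hp
    obtain ⟨c', -, e⟩ := hp'
    exact hne (Prod.mk.inj e).1.symm

variable {r : ℕ} (hd : Module.finrank k (MvPolynomial (Fin 3) k ⧸ I) ≤ (r + 2).choose 3)
include hd

theorem a_eq_zero {i : ℕ} (hi : r ≤ i) : a I i = 0 := by
  have mono : ∀ l, a I (l + 1) ≤ a I l := fun l => by have := a_succ_add_le hI (I := I) l; omega
  suffices h : a I r = 0 by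
    obtain ⟨d, rfl⟩ : ∃ d, i = r + d := ⟨i - r, by omega⟩
    clear hi
    induction d with
    | zero => exact h
    | succ d ih => exact Nat.le_zero.mp ((mono (r + d)).trans ih.le)
  by_contra h0
  have key : ∀ l, l ≤ r → (l + 1).choose 2 < a I (r - l) := by
    intro l
    induction l with
    | zero => intro _; simpa [Nat.pos_iff_ne_zero] using h0
    | succ l ih =>
      intro hl
      have h1 := ih (by omega)
      have h2 := le_h_of_lt hI h1
      have e : r - l = r - (l + 1) + 1 := by omega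
      rw [e] at h1 h2
      have h3 := h_succ_lt hI (I := I) (i := r - (l + 1)) (by omega)
      have h4 := a_succ_add_le hI (I := I) (r - (l + 1))
      rw [choose_two_succ (l + 1)]
      omega
  have h1 := sum_le_colength hI (I := I) (r + 1)
  rw [Finset.sum_range_succ] at h1
  have h2 : ∑ i ∈ Finset.range r, (r - i + 1).choose 2 ≤ ∑ i ∈ Finset.range r, a I i :=
    Finset.sum_le_sum fun i hi => by
      rw [Finset.mem_range] at hi
      have := key (r - i) (by omega)
      rw [show r - (r - i) = i by omega] at this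
      exact this.le
  rw [Finset.range_eq_Ico, hockey_tail, Nat.sub_zero, ← Finset.range_eq_Ico] at h2
  have := key 0 (Nat.zero_le r)
  simp at this
  omega

/-- The weighted sum of the slices. -/
theorem weighted_le (M : ℕ) :
    ∑ j ∈ Finset.range M, ∑ i ∈ Finset.Ico j M, a I i ≤ (r + 3).choose 4 ∧
      (r ≤ M → ∑ j ∈ Finset.range M, ∑ i ∈ Finset.Ico j M, a I i = (r + 3).choose 4 → I = mPow k r (Fin 3)) := by
  classical
  have hin : ∀ j, ∑ i ∈ Finset.Ico j M, a I i ≤ ∑ i ∈ Finset.Ico j r, a I i := fun j => by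
    refine le_of_eq_of_le ?_ (Finset.sum_le_sum_of_subset (s := (Finset.Ico j M).filter (· < r)) fun i hi => by
      simp only [Finset.mem_filter, Finset.mem_Ico] at hi ⊢; omega)
    refine (Finset.sum_filter_of_ne fun i _ hi => ?_).symm
    by_contra hr
    exact hi (a_eq_zero hI hd (not_lt.1 hr))
  have hj : ∀ j ∈ Finset.range r, ∑ i ∈ Finset.Ico j r, a I i ≤ (r - j + 2).choose 3 := fun j hj => by
    rw [← hockey_tail r j]
    exact tail_le hI hd (Finset.mem_range.mp hj).le
  have hsum : ∑ j ∈ Finset.range M, ∑ i ∈ Finset.Ico j M, a I i ≤ ∑ j ∈ Finset.range r, ∑ i ∈ Finset.Ico j r, a I i := by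
    refine (Finset.sum_le_sum fun j _ => hin j).trans ?_
    rw [← Finset.sum_filter_of_ne (p := fun j => j < r) fun j _ hne => by
      by_contra hr
      exact hne (Finset.sum_eq_zero fun i hi => by rw [Finset.mem_Ico] at hi; omega)]
    exact Finset.sum_le_sum_of_subset fun j hj => by
      simp only [Finset.mem_filter, Finset.mem_range] at hj ⊢; exact hj.2
  refine ⟨hsum.trans (le_of_le_of_eq (Finset.sum_le_sum hj) (hockey4 r)), fun _ heq => ?_⟩
  have h1 : ∑ j ∈ Finset.range r, ∑ i ∈ Finset.Ico j r, a I i = ∑ j ∈ Finset.range r, (r - j + 2).choose 3 :=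
    le_antisymm (Finset.sum_le_sum hj) (by rw [hockey4, ← heq]; exact hsum)
  refine eq_mPow hI hd fun j hjr => ?_
  rw [hockey_tail]
  exact (Finset.sum_eq_sum_iff_of_le hj).mp h1 j (Finset.mem_range.mpr hjr)

omit hd in
/-- A staircase double sum. -/
theorem socle_sum_eq {M : ℕ} (b : ℕ → ℕ → ℕ) (hzero : ∀ i j, M ≤ i ∨ M ≤ j → b i j = 0)
    (hmono : ∀ i j, b i (j + 1) ≤ b i j) (hmax : ∀ i j, b (i + 1) j ≤ b i (j + 1))
    (hab : ∀ i, a I i = ∑ j ∈ Finset.range M, b i j) :
    ∑ p ∈ Finset.range M ×ˢ Finset.range M, ∑ q ∈ Finset.range M ×ˢ Finset.range M,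
      (if p.1 ≤ q.1 ∧ p.2 ≤ q.2 then b q.1 q.2 - max (b (q.1 + 1) q.2) (b q.1 (q.2 + 1)) else 0) =
      ∑ j ∈ Finset.range M, ∑ i ∈ Finset.Ico j M, a I i := by
  classical
  rw [Finset.sum_product]
  refine Finset.sum_congr rfl fun a1 ha1 => ?_
  have hA : (Finset.range M).filter (fun i => a1 ≤ i) = Finset.Ico a1 M := by
    ext i; simp [and_comm]
  rw [← hA, Finset.sum_filter]
  simp only [hab]
  have hinner : ∀ a2 ∈ Finset.range M, (∑ q ∈ Finset.range M ×ˢ Finset.range M,
      if a1 ≤ q.1 ∧ a2 ≤ q.2 then b q.1 q.2 - max (b (q.1 + 1) q.2) (b q.1 (q.2 + 1)) else 0) =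
      ∑ i ∈ Finset.range M, if a1 ≤ i then b i a2 else 0 := by
    intro a2 ha2
    rw [Finset.sum_product]
    refine Finset.sum_congr rfl fun i hi => ?_
    by_cases hai : a1 ≤ i
    · rw [if_pos hai]
      refine Eq.trans (Finset.sum_congr rfl fun j _ => ?_) (sum_stair (b i) (hmono i) M (hzero i M (Or.inr le_rfl))
        (Finset.mem_range.mp ha2).le)
      simp only [hai, true_and]
      rw [max_eq_right (hmax i j)]
    · simp [hai]
  rw [Finset.sum_congr rfl hinner, Finset.sum_comm]
  refine Finset.sum_congr rfl fun i _ => ?_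
  split_ifs <;> simp

theorem sig_bound :
    (Module.finrank k ↥(sigPiece I ({2} : Set (Fin 3))) ≤ (r + 3).choose 4 ∧
      (Module.finrank k ↥(sigPiece I ({2} : Set (Fin 3))) = (r + 3).choose 4 → I = mPow k r (Fin 3))) ∧
    (Module.finrank k ↥(sigPiece I ({1} : Set (Fin 3))) ≤ (r + 3).choose 4 ∧
      (Module.finrank k ↥(sigPiece I ({1} : Set (Fin 3))) = (r + 3).choose 4 → I = mPow k r (Fin 3))) := by
  haveI := finite_swapYZ (I := I)
  obtain ⟨R, hR⟩ := sig_z_le hI.1
  obtain ⟨R', hR'⟩ := sig_z_le (isMonomial_swapYZ hI.1)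
  set M := max r (max R R')
  obtain ⟨hz, hb⟩ := hR M (by omega)
  obtain ⟨hz', hb'⟩ := hR' M (by omega)
  simp only [stairZ_swap] at hz' hb'
  rw [socle_sum_eq hI (stairZ I) hz (fun i j => (stair_iff hI.1 i (j + 1) _).mp
      (exps_up ((stair_iff hI.1 i j _).mpr le_rfl) (e3_le le_rfl (Nat.le_succ j) le_rfl)))
    (fun i j => (stair_succ_le hI i j).1) (fun i => a_eq_sum hI fun b hb => hz i b (Or.inr hb))] at hb
  rw [← sig_y hI.1, socle_sum_eq hI (stairY I) hz' (fun i j => by
      rw [← stairZ_swap, ← stairZ_swap]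
      exact (stair_iff (isMonomial_swapYZ hI.1) i (j + 1) _).mp
        (exps_up ((stair_iff (isMonomial_swapYZ hI.1) i j _).mpr le_rfl) (e3_le le_rfl (Nat.le_succ j) le_rfl)))
    (fun i j => (stair_succ_le hI i j).2) (fun i => a_swap hI i M fun c hc => hz' i c (Or.inr hc))] at hb'
  obtain ⟨hw, hweq⟩ := weighted_le hI hd (I := I) M
  exact ⟨⟨hb.trans hw, fun e => hweq (by omega) (le_antisymm hw (e ▸ hb))⟩,
    hb'.trans hw, fun e => hweq (by omega) (le_antisymm hw (e ▸ hb'))⟩

end Slices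

end Groth.Agent.HilbPnLib
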