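import Groth.Agent.HilbPnLib.DualApps

/-!
# Socle elements: isolated points of the regions
-/

set_option autoImplicit false

open MvPolynomial W4c1hilbpn

universe u

noncomputable section

namespace Groth.Agent.HilbPnLib

variable {k : Type u} [Field k] {I : Ideal (MvPolynomial (Fin 3) k)}

theorem ev_e3 (a b c : ℕ) : ev (e3 a b c) = pt a b c := by
  funext i; fin_cases i <;> simp [ev, e3_apply, pt]

theorem inExp_ev {β : Fin 3 →₀ ℕ} : InExp I (ev β) ↔ β ∈ exps I :=
  ⟨fun h => by have := h.2; rwa [unev_ev] at this, fun h => ⟨ev_nonneg β, by rwa [unev_ev]⟩⟩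

theorem inExp_pt {a b c : ℕ} : InExp I (pt a b c) ↔ e3 a b c ∈ exps I := by rw [← ev_e3, inExp_ev]

theorem good_pt {a b c : ℕ} : Good I (pt a b c) ↔ e3 a b c ∉ exps I := by
  rw [good_iff, inExp_pt, and_iff_right (pt_nonneg a b c)]

theorem good_down {x y : Fin 3 → ℤ} (h : Good I y) (hx : ∀ i, 0 ≤ x i) (hle : x ≤ y) : Good I x :=
  good_iff.mpr ⟨hx, fun h' => (good_iff.mp h).2 (inExp_mono h' hle)⟩

variable (hI : IsMonomial I)

include hI

/-- a socle element against a minimal generator gives an isolated point -/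
theorem piece_ne_bot {γ : Fin 3 → ℤ} {β : Fin 3 →₀ ℕ} (hγ : Good I γ) (hs : ∀ i, InExp I (γ + uv i))
    (hβ : β ∈ exps I) (hm : ∀ i, ¬ InExp I (ev β - uv i)) : tPiece I (γ - ev β) ≠ ⊥ := by
  intro hbot
  have e : ev β + (γ - ev β) = γ := add_sub_cancel _ _
  have hr : ev β + (γ - ev β) ∈ region I (γ - ev β) := good_mem_region hβ (by rwa [e])
  have hiso : ∀ x : region I (γ - ev β),
      ((stepGraph (Fin 3)).induce (region I (γ - ev β))).Reachable ⟨_, hr⟩ x → x.1 = γ := by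
    rintro x ⟨w⟩
    cases w with
    | nil => exact e
    | @cons _ b _ hadj _ =>
      exfalso
      obtain ⟨i, hne, h | h⟩ := adj_iff.mp (show (stepGraph (Fin 3)).Adj (ev β + (γ - ev β)) b.1 from hadj)
      · rw [e] at hne h
        have eb : b.1 = γ + uv i := funext fun j => by
          rcases eq_or_ne j i with rfl | hj
          · simp [uv, h]
          · simp [uv, hj, hne j hj]
        exact (mem_region_iff.mp b.2).2 (eb ▸ hs i)
      · rw [e] at hne h
        have eb : b.1 = γ - uv i := funext fun j => by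
          rcases eq_or_ne j i with rfl | hj
          · simp [uv, h]
          · simp [uv, hj, hne j hj]
        obtain ⟨β', hβ', e'⟩ := (mem_region_iff.mp b.2).1
        refine hm i ?_
        have : ev β' = ev β - uv i := by
          rw [eb] at e'
          funext j
          have h' := congrFun e' j
          simp only [Pi.add_apply, Pi.sub_apply] at h' ⊢
          omega
        rw [← this]
        exact inExp_ev.mpr hβ'
  haveI := finite_goodComp hI (γ - ev β)
  haveI : Nonempty (GoodComp I (γ - ev β)) := ⟨⟨compOf hr, fun x hx j => by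
    rw [hiso x (SimpleGraph.ConnectedComponent.exact ((SimpleGraph.ConnectedComponent.mem_supp_iff _ _).mp hx).symm)]
    exact hγ.1 j⟩⟩
  have h0 : Module.finrank k (tPiece I (γ - ev β)) = 0 := by rw [hbot]; exact finrank_bot k _
  rw [finrank_tPiece hI] at h0
  exact absurd h0 Nat.card_pos.ne'

theorem sig_ne_bot {γ : Fin 3 → ℤ} {β : Fin 3 →₀ ℕ} (hγ : Good I γ) (hs : ∀ i, InExp I (γ + uv i))
    (hβ : β ∈ exps I) (hm : ∀ i, ¬ InExp I (ev β - uv i)) (N : Set (Fin 3))
    (hN : ∀ i, γ i < (β i : ℤ) ↔ i ∈ N) : sigPiece I N ≠ ⊥ := by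
  intro h
  refine piece_ne_bot hI hγ hs hβ hm (le_bot_iff.mp ?_)
  rw [← h]
  refine le_iSup (fun α : {α : Fin 3 → ℤ // ∀ i, α i < 0 ↔ i ∈ N} => tPiece I α.1) ⟨γ - ev β, fun i => ?_⟩
  rw [← hN i]
  simp [ev]

variable [Module.Finite k (MvPolynomial (Fin 3) k ⧸ I)]

theorem exists_socle {p : Fin 3 → ℤ} (hp : Good I p) :
    ∃ γ, p ≤ γ ∧ Good I γ ∧ ∀ i, InExp I (γ + uv i) := by
  classical
  obtain ⟨γ, hγ, hmax⟩ := Finset.exists_max_image ((goodSet hI).filter fun γ => p ≤ γ) (fun γ => ∑ i, γ i)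
    ⟨p, Finset.mem_filter.mpr ⟨(mem_goodSet hI).mpr hp, le_rfl⟩⟩
  rw [Finset.mem_filter, mem_goodSet] at hγ
  refine ⟨γ, hγ.2, hγ.1, fun i => ?_⟩
  by_contra h
  have hg : Good I (γ + uv i) := good_iff.mpr ⟨fun j => (hγ.1.1 j).trans (le_add_uv γ i j), h⟩
  have h' := hmax _ (Finset.mem_filter.mpr ⟨(mem_goodSet hI).mpr hg, hγ.2.trans (le_add_uv γ i)⟩)
  simp [uv, Finset.sum_add_distrib, Pi.single_apply] at h'

theorem corner_case (a1 a2 b1 b3 c2 c3 : ℕ) (hb1 : 0 < b1) (hc2 : 0 < c2)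
    (ha1 : 0 < a1) (ha2 : 0 < a2) (hb3 : 0 < b3) (hc3 : 0 < c3)
    (hA : e3 a1 a2 0 ∈ exps I ∧ e3 (a1 - 1) a2 0 ∉ exps I ∧ e3 a1 (a2 - 1) 0 ∉ exps I)
    (hB : e3 b1 0 b3 ∈ exps I ∧ e3 (b1 - 1) 0 b3 ∉ exps I ∧ e3 b1 0 (b3 - 1) ∉ exps I)
    (hC : e3 0 c2 c3 ∈ exps I ∧ e3 0 (c2 - 1) c3 ∉ exps I ∧ e3 0 c2 (c3 - 1) ∉ exps I)
    (hcase : (b1 ≤ a1 ∧ c2 ≤ a2) ∨ (a1 ≤ b1 ∧ c3 ≤ b3) ∨ (a2 ≤ c2 ∧ b3 ≤ c3)) :
    sigPiece I ({0, 1} : Set (Fin 3)) ≠ ⊥ ∨ sigPiece I ({0, 2} : Set (Fin 3)) ≠ ⊥ ∨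
      sigPiece I ({1, 2} : Set (Fin 3)) ≠ ⊥ := by
  have hm : ∀ a b c : ℕ, (a = 0 ∨ e3 (a - 1) b c ∉ exps I) → (b = 0 ∨ e3 a (b - 1) c ∉ exps I) →
      (c = 0 ∨ e3 a b (c - 1) ∉ exps I) → ∀ i, ¬ InExp I (ev (e3 a b c) - uv i) := by
    intro a b c h0 h1 h2 i h
    have hn := h.1 i
    have key : ∀ a' b' c' : ℕ, ev (e3 a b c) - uv i ≤ pt a' b' c' → e3 a' b' c' ∈ exps I :=
      fun a' b' c' hle => inExp_pt.mp (inExp_mono h hle)
    rw [ev_e3] at key hn
    fin_cases i
    · have : a ≠ 0 := by simp [pt, uv] at hn; omega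
      exact (h0.resolve_left this) (key _ _ _ fun j => by fin_cases j <;> simp [pt, uv] <;> omega)
    · have : b ≠ 0 := by simp [pt, uv] at hn; omega
      exact (h1.resolve_left this) (key _ _ _ fun j => by fin_cases j <;> simp [pt, uv] <;> omega)
    · have : c ≠ 0 := by simp [pt, uv] at hn; omega
      exact (h2.resolve_left this) (key _ _ _ fun j => by fin_cases j <;> simp [pt, uv] <;> omega)
  have key : ∀ (a b c a' b' c' : ℕ), e3 a b c ∉ exps I → a' ≤ a → b' ≤ b → c' ≤ c → e3 a' b' c' ∉ exps I :=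
    fun a b c a' b' c' h h0 h1 h2 h' => h (exps_up h' (e3_le h0 h1 h2))
  have big : ∀ {γ : Fin 3 → ℤ}, Good I γ → ∀ a b c : ℕ, e3 a b c ∈ exps I → (a : ℤ) ≤ γ 0 → (b : ℤ) ≤ γ 1 →
      (c : ℤ) ≤ γ 2 → False := fun hγ a b c h h0 h1 h2 => (good_iff.mp hγ).2
    (inExp_mono (inExp_pt.mpr h) fun j => by fin_cases j <;> simpa [pt])
  rcases hcase with ⟨h1, h2⟩ | ⟨h1, h2⟩ | ⟨h1, h2⟩
  · obtain ⟨γ, hp, hγ, hs⟩ := exists_socle hI (p := pt 0 0 (max b3 c3)) (good_pt.mpr (by
      rcases max_choice b3 c3 with e | e <;> rw [e]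
      · exact key _ _ _ _ _ _ hB.2.1 (Nat.zero_le _) le_rfl le_rfl
      · exact key _ _ _ _ _ _ hC.2.1 le_rfl (Nat.zero_le _) le_rfl))
    have hz := hp 2; simp [pt] at hz
    have hn := hγ.1
    have hx : γ 0 < b1 := by by_contra h; exact big hγ _ _ _ hB.1 (by omega) (by simpa using hn 1) (by omega)
    have hy : γ 1 < c2 := by by_contra h; exact big hγ _ _ _ hC.1 (by simpa using hn 0) (by omega) (by omega)
    refine Or.inl (sig_ne_bot hI hγ hs hA.1 (hm _ _ _ (Or.inr hA.2.1) (Or.inr hA.2.2) (Or.inl rfl)) _ fun i => ?_)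
    have := hn 2
    fin_cases i <;> simp [e3_apply] <;> omega
  · obtain ⟨γ, hp, hγ, hs⟩ := exists_socle hI (p := pt 0 (max a2 c2) 0) (good_pt.mpr (by
      rcases max_choice a2 c2 with e | e <;> rw [e]
      · exact key _ _ _ _ _ _ hA.2.1 (Nat.zero_le _) le_rfl le_rfl
      · exact key _ _ _ _ _ _ hC.2.2 le_rfl le_rfl (Nat.zero_le _)))
    have hz := hp 1; simp [pt] at hz
    have hn := hγ.1
    have hx : γ 0 < a1 := by by_contra h; exact big hγ _ _ _ hA.1 (by omega) (by omega) (by simpa using hn 2)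
    have hy : γ 2 < c3 := by by_contra h; exact big hγ _ _ _ hC.1 (by simpa using hn 0) (by omega) (by omega)
    refine Or.inr (Or.inl (sig_ne_bot hI hγ hs hB.1 (hm _ _ _ (Or.inr hB.2.1) (Or.inl rfl) (Or.inr hB.2.2)) _ fun i => ?_))
    have := hn 1
    fin_cases i <;> simp [e3_apply] <;> omega
  · obtain ⟨γ, hp, hγ, hs⟩ := exists_socle hI (p := pt (max a1 b1) 0 0) (good_pt.mpr (by
      rcases max_choice a1 b1 with e | e <;> rw [e]
      · exact key _ _ _ _ _ _ hA.2.2 le_rfl (Nat.zero_le _) le_rfl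
      · exact key _ _ _ _ _ _ hB.2.2 le_rfl le_rfl (Nat.zero_le _)))
    have hz := hp 0; simp [pt] at hz
    have hn := hγ.1
    have hx : γ 1 < a2 := by by_contra h; exact big hγ _ _ _ hA.1 (by omega) (by omega) (by simpa using hn 2)
    have hy : γ 2 < b3 := by by_contra h; exact big hγ _ _ _ hB.1 (by omega) (by simpa using hn 1) (by omega)
    refine Or.inr (Or.inr (sig_ne_bot hI hγ hs hC.1 (hm _ _ _ (Or.inl rfl) (Or.inr hC.2.1) (Or.inr hC.2.2)) _ fun i => ?_))
    have := hn 0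
    fin_cases i <;> simp [e3_apply] <;> omega

/-- a power of each variable lies in the ideal -/
theorem exists_pow_mem : ∃ N : ℕ, 0 < N ∧ e3 N 0 0 ∈ exps I ∧ e3 0 N 0 ∈ exps I ∧ e3 0 0 N ∈ exps I := by
  classical
  obtain ⟨R, -, hG⟩ := exists_box hI
  have key : ∀ a b c : ℕ, R < a ∨ R < b ∨ R < c → e3 a b c ∈ exps I := by
    intro a b c h
    by_contra hc
    have h0 := hG _ (good_pt.mpr hc) 0; have h1 := hG _ (good_pt.mpr hc) 1; have h2 := hG _ (good_pt.mpr hc) 2
    simp [pt] at h0 h1 h2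
    omega
  exact ⟨R + 1, by omega, key _ _ _ (by omega), key _ _ _ (by omega), key _ _ _ (by omega)⟩

theorem sig01_ne_bot (hst : IsStronglyStable I) (hx : e3 1 0 0 ∉ exps I) :
    sigPiece I ({0, 1} : Set (Fin 3)) ≠ ⊥ := by
  classical
  obtain ⟨N, -, -, hy, hz⟩ := exists_pow_mem hI
  have hmz : ∃ c, e3 0 0 c ∈ exps I := ⟨N, hz⟩
  have hmy : ∃ b, e3 0 b 0 ∈ exps I := ⟨N, hy⟩
  have h000 : e3 0 0 0 ∉ exps I := fun h => hx (exps_up h (e3_le (Nat.zero_le _) le_rfl le_rfl))
  have hm1 : Nat.find hmz ≠ 0 := fun h => h000 (by have := Nat.find_spec hmz; rw [h] at this; exact this)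
  have hB1 : Nat.find hmy ≠ 0 := fun h => h000 (by have := Nat.find_spec hmy; rw [h] at this; exact this)
  have hmove : e3 1 (Nat.find hmy - 1) 0 ∈ exps I := by
    have := hst.2 _ (Nat.find_spec hmy) 0 1 (by decide) (by simp [e3_apply]; omega)
    convert this using 1
    ext l; fin_cases l <;> simp [e3_apply]
  have hq : ∃ q, e3 1 q 0 ∈ exps I := ⟨_, hmove⟩
  have hqs := Nat.find_spec hq
  have hqB : Nat.find hq ≤ Nat.find hmy - 1 := Nat.find_le hmove
  have hq0 : Nat.find hq ≠ 0 := fun h => hx (by rw [h] at hqs; exact hqs)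
  have hg : Good I (pt 0 0 (Nat.find hmz - 1)) := good_pt.mpr (Nat.find_min hmz (by omega))
  have hs : ∀ i, InExp I (pt 0 0 (Nat.find hmz - 1) + uv i) := by
    have h2 : e3 0 0 (Nat.find hmz - 1 + 1) ∈ exps I := by
      rw [Nat.sub_add_cancel (by omega)]; exact Nat.find_spec hmz
    intro i
    fin_cases i
    · rw [show pt 0 0 (Nat.find hmz - 1) + uv (⟨0, by omega⟩ : Fin 3) = _ from (pt_succ _ _ _).1, inExp_pt]
      have := hst.2 _ h2 0 2 (by decide) (by simp [e3_apply])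
      convert this using 1
      ext l; fin_cases l <;> simp [e3_apply]
    · rw [show pt 0 0 (Nat.find hmz - 1) + uv (⟨1, by omega⟩ : Fin 3) = _ from (pt_succ _ _ _).2.1, inExp_pt]
      have := hst.2 _ h2 1 2 (by decide) (by simp [e3_apply])
      convert this using 1
      ext l; fin_cases l <;> simp [e3_apply]
    · rw [show pt 0 0 (Nat.find hmz - 1) + uv (⟨2, by omega⟩ : Fin 3) = _ from (pt_succ _ _ _).2.2, inExp_pt]
      exact h2
  have hm : ∀ i, ¬ InExp I (ev (e3 1 (Nat.find hq) 0) - uv i) := by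
    intro i h
    have hn := h.1 i
    have key : ∀ a b c : ℕ, ev (e3 1 (Nat.find hq) 0) - uv i ≤ pt a b c → e3 a b c ∈ exps I :=
      fun a b c hle => inExp_pt.mp (inExp_mono h hle)
    fin_cases i
    · exact Nat.find_min hmy (m := Nat.find hq) (by omega)
        (key _ _ _ fun j => by fin_cases j <;> simp [pt, uv, ev, e3_apply])
    · exact Nat.find_min hq (m := Nat.find hq - 1) (by omega)
        (key _ _ _ fun j => by fin_cases j <;> simp [pt, uv, ev, e3_apply] <;> omega)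
    · simp [uv, ev, e3_apply] at hn
  refine sig_ne_bot hI hg hs hqs hm _ fun i => ?_
  fin_cases i <;> simp [pt, e3_apply] <;> omega

theorem two_neg_eq_bot (hx : e3 1 0 0 ∈ exps I) (N : Set (Fin 3)) (hN : N = {1, 2} ∨ N = {0, 2} ∨ N = {0, 1}) :
    sigPiece I N = ⊥ := by
  classical
  refine iSup_eq_bot.mpr fun α => eq_bot_of_isEmpty hI α.1 ⟨fun c => ?_⟩
  obtain ⟨β, hβ, e⟩ := (mem_region_iff.mp c.1.out.2).1
  have hr : ev β + α.1 ∈ region I α.1 := e ▸ c.1.out.2
  have hcc : compOf hr = c.1 :=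
    (congrArg (SimpleGraph.connectedComponentMk _) (Subtype.ext e : c.1.out = (⟨_, hr⟩ : region I α.1))).symm.trans
      (Quot.out_eq c.1)
  have hgood : ∀ x : region I α.1, SimpleGraph.connectedComponentMk _ x = c.1 → ∀ i, 0 ≤ x.1 i :=
    fun x hx => c.2 x hx
  have hx0 : ∀ x : Fin 3 →₀ ℕ, 1 ≤ x 0 → x ∈ exps I := fun x h =>
    exps_up hx (Finsupp.le_def.mpr fun i => by fin_cases i <;> simp [e3_apply, h])
  have hnn : ∀ i, 0 ≤ (ev β + α.1) i := hgood _ hcc
  have hg : Good I (ev β + α.1) := good_of_mem_region hr hnn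
  have hg0 : (ev β + α.1) 0 = 0 := by
    refine le_antisymm ?_ (hnn 0)
    by_contra h
    refine hg.2 (hx0 _ ?_)
    rw [unev_apply]
    omega
  rcases hN with rfl | rfl | rfl
  · have h0 : 0 ≤ α.1 0 := not_lt.mp fun h => by simpa using (α.2 0).mp h
    have h1 : α.1 1 < 0 := (α.2 1).mpr (by simp)
    have h2 : α.1 2 < 0 := (α.2 2).mpr (by simp)
    have hβ0 : β 0 = 0 := by simp [ev] at hg0; omega
    obtain ⟨M, hM0, -, hMy, -⟩ := exists_pow_mem hI
    suffices ∀ (n : ℕ) (b : Fin 3 →₀ ℕ), b 0 = 0 → b ∈ exps I → b 2 * (M + 1) + (M - b 1) = n →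
        ∀ h : ev b + α.1 ∈ region I α.1, compOf h = c.1 → False from this _ β hβ0 hβ rfl hr hcc
    intro n
    induction n using Nat.strong_induction_on with
    | _ n ih =>
      intro b hb0 hb hn h hc
      have hnb := hgood _ hc
      by_cases hb2 : b 2 = 0
      · have := hnb 2
        simp [ev, hb2] at this
        omega
      by_cases hdown : e3 (b 0) (b 1) (b 2 - 1) ∈ exps I
      · obtain ⟨h', e'⟩ := reach_down hdown (by
          refine Finsupp.le_def.mpr fun i => ?_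
          fin_cases i <;> simp [e3_apply]) h
        refine ih _ ?_ _ (by simp [e3_apply, hb0]) hdown rfl h' (e'.trans hc)
        rw [← hn]
        simp only [e3_apply, Matrix.cons_val_zero, Matrix.cons_val_one, Matrix.cons_val]
        have : (b 2 - 1) * (M + 1) + (M + 1) = b 2 * (M + 1) := by
          rw [← Nat.succ_mul, Nat.succ_eq_add_one, Nat.sub_add_cancel (by omega)]
        omega
      · have hbM : b 1 < M := by
          by_contra hc'
          exact hdown (exps_up hMy (e3_le (by omega) (by omega) (Nat.zero_le _)))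
        have hup : e3 (b 0) (b 1 + 1) (b 2) ∈ exps I := exps_up hb (by
          refine Finsupp.le_def.mpr fun i => ?_
          fin_cases i <;> simp [e3_apply])
        have h' : ev (e3 (b 0) (b 1 + 1) (b 2)) + α.1 ∈ region I α.1 := ev_add_mem_region hup fun hin => by
          refine hdown (inExp_pt.mp (inExp_mono (show InExp I _ from hin) fun j => ?_))
          have hh : α.1 0 = 0 := by
            have := hnb 0
            by_contra hne
            refine (good_of_mem_region h hnb).2 (hx0 _ ?_)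
            rw [unev_apply]
            simp [ev, hb0] at this ⊢
            omega
          fin_cases j <;> simp [ev, e3_apply, pt] <;> omega
        refine ih _ ?_ _ (by simp [e3_apply, hb0]) hup rfl h' ?_
        · rw [← hn]
          simp only [e3_apply, Matrix.cons_val_zero, Matrix.cons_val_one, Matrix.cons_val]
          omega
        · refine ((compOf_eq_of_adj h h' (step_adj (i := 1) ?_ fun j hj => ?_)).symm).trans hc
          · simp [ev, e3_apply]; omega
          · fin_cases j <;> simp [ev, e3_apply] at hj ⊢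
  all_goals
    have h0 : α.1 0 < 0 := (α.2 0).mpr (by simp)
    have hb : (Finsupp.single 0 1 : Fin 3 →₀ ℕ) ∈ exps I := hx0 _ (by simp)
    obtain ⟨h', e'⟩ := reach_down hb (Finsupp.single_le_iff.mpr (by simp [ev] at hg0; omega)) hr
    have h := hgood _ (e'.trans hcc)
  · have := h 2
    have h2 : α.1 2 < 0 := (α.2 2).mpr (by simp)
    simp [ev] at this
    omega
  · have := h 1
    have h1 : α.1 1 < 0 := (α.2 1).mpr (by simp)
    simp [ev] at this
    omega

theorem stair_iff (a b c : ℕ) : e3 a b c ∈ exps I ↔ stairZ I a b ≤ c := by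
  classical
  obtain ⟨N, -, -, -, hz⟩ := exists_pow_mem hI
  have hex : ∃ m, e3 a b m ∈ exps I := ⟨N, exps_up hz (e3_le (Nat.zero_le _) (Nat.zero_le _) le_rfl)⟩
  have hiff : ∀ m, e3 a b m ∈ exps I ↔ Nat.find hex ≤ m := fun m =>
    ⟨fun h => Nat.find_le h, fun h => exps_up (Nat.find_spec hex) (e3_le le_rfl le_rfl h)⟩
  have hcard : stairZ I a b = Nat.find hex := by
    rw [stairZ, Nat.card_congr (Equiv.subtypeEquivRight (q := fun m => m < Nat.find hex) fun m => by
      rw [hiff m]; omega), ← Nat.card_congr (Fin.equivSubtype), Nat.card_fin]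
  rw [hcard, hiff]

/-- the pieces above a point of the plane are bounded by the socle there -/
theorem socle_bound (a1 a2 : ℕ) :
    Module.finrank k ↥(⨆ α : {α : Fin 3 → ℤ // α 0 = (a1 : ℤ) ∧ α 1 = (a2 : ℤ) ∧ α 2 < 0}, tPiece I α.1) ≤
      ∑ᶠ p : ℕ × ℕ, (if a1 ≤ p.1 ∧ a2 ≤ p.2
        then stairZ I p.1 p.2 - max (stairZ I (p.1 + 1) p.2) (stairZ I p.1 (p.2 + 1)) else 0) := by
  classical
  obtain ⟨R, hR, hG⟩ := exists_box hI
  let A : Fin 3 → Finset ℤ := ![{(a1 : ℤ)}, {(a2 : ℤ)}, Finset.Ico (-(R : ℤ)) 0]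
  rw [finrank_family hI hR _ A (fun α hα => by
      have h0 := Fintype.mem_piFinset.mp hα 0; have h1 := Fintype.mem_piFinset.mp hα 1
      have h2 := Fintype.mem_piFinset.mp hα 2
      simp [A] at h0 h1 h2
      exact ⟨h0, h1, h2.2⟩)
    (fun α hα hq => Fintype.mem_piFinset.mpr fun i => by
      have := Fintype.mem_piFinset.mp hα i
      fin_cases i <;> simp_all [A])]
  have hbig : ∀ a b : ℕ, R ≤ a ∨ R ≤ b → stairZ I a b = 0 := fun a b h => Nat.le_zero.mp ((stair_iff hI a b 0).mp (by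
    by_contra hc
    have h0 := hG _ (good_pt.mpr hc) 0; have h1 := hG _ (good_pt.mpr hc) 1
    simp [pt] at h0 h1
    omega))
  rw [finsum_eq_sum_of_support_subset _ (s := Finset.range R ×ˢ Finset.range R) (by
    intro p hp
    rw [Function.mem_support] at hp
    simp only [Finset.coe_product, Set.mem_prod, Finset.coe_range, Set.mem_Iio]
    by_contra hc
    rw [hbig p.1 p.2 (by omega)] at hp
    simp at hp)]
  simp only [finrank_tPiece hI]
  haveI : ∀ α : Fin 3 → ℤ, Finite (GoodComp I α) := finite_goodComp hI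
  haveI : ∀ α : Fin 3 → ℤ, Fintype (GoodComp I α) := fun α => Fintype.ofFinite _
  rw [Finset.sum_congr rfl fun α _ => (Nat.card_eq_fintype_card (α := GoodComp I α)), Finset.sum_congr rfl
    fun α _ => (Finset.card_univ (α := GoodComp I α)).symm, ← Finset.card_sigma]
  rw [Finset.sum_congr rfl (g := fun p : ℕ × ℕ => (if a1 ≤ p.1 ∧ a2 ≤ p.2
      then Finset.Ico (max (stairZ I (p.1 + 1) p.2) (stairZ I p.1 (p.2 + 1))) (stairZ I p.1 p.2) else ∅).card)
    (fun p _ => by split_ifs <;> simp), ← Finset.card_sigma]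
  have rep : ∀ (α : Fin 3 → ℤ) (c : GoodComp I α), ∃ γ : region I α, SimpleGraph.connectedComponentMk _ γ = c.1 ∧
      InExp I (γ.1 + uv 0) ∧ InExp I (γ.1 + uv 1) ∧ ¬ InExp I (γ.1 - α - uv 2) := by
    intro α c
    let T := (goodSet hI).filter fun x => ∃ h : x ∈ region I α, SimpleGraph.connectedComponentMk _ ⟨x, h⟩ = c.1
    have hmk : SimpleGraph.connectedComponentMk _ c.1.out = c.1 := Quot.out_eq c.1
    obtain ⟨x, hxT, hmax⟩ := T.exists_max_image (fun x => (x 0 + x 1) * (R + 1) - x 2) ⟨c.1.out.1, Finset.mem_filter.mpr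
      ⟨(mem_goodSet hI).mpr (good_of_mem_region c.1.out.2 (c.2 _ hmk)), c.1.out.2, hmk⟩⟩
    obtain ⟨hxg, hxr, hxc⟩ := Finset.mem_filter.mp hxT
    rw [mem_goodSet] at hxg
    obtain ⟨β, hβ, e⟩ := (mem_region_iff.mp hxr).1
    have hmemT : ∀ y (hy : y ∈ region I α), compOf hy = compOf hxr → y ∈ T := fun y hy h => Finset.mem_filter.mpr
      ⟨(mem_goodSet hI).mpr (good_of_mem_region hy (c.2 ⟨y, hy⟩ (h.trans hxc))), hy, h.trans hxc⟩
    have hup : ∀ i, i = 0 ∨ i = 1 → InExp I (x + uv i) := by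
      intro i hi
      by_contra hc
      have hy : x + uv i ∈ region I α := mem_region_iff.mpr ⟨⟨β + Finsupp.single i 1, exps_up hβ le_self_add, by
        rw [e]; funext j
        rcases eq_or_ne j i with rfl | hj <;> simp [ev, uv, *] <;> ring⟩, hc⟩
      have h := hmax _ (hmemT _ hy (compOf_eq_of_adj hxr hy
        (step_adj (i := i) (by simp [uv]) fun j hj => by simp [uv, hj])).symm)
      rcases hi with rfl | rfl <;> simp [uv] at h <;> linarith
    refine ⟨⟨x, hxr⟩, hxc, hup 0 (Or.inl rfl), hup 1 (Or.inr rfl), fun hdown => ?_⟩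
    have hy : x - uv 2 ∈ region I α := mem_region_iff.mpr ⟨⟨unev (x - α - uv 2), hdown.2, by
      rw [ev_unev hdown.1]; funext j; simp; ring⟩, fun h => (good_iff.mp hxg).2
        (inExp_mono (show InExp I (x - uv 2) from h) fun j => by
          have := le_add_uv (x - uv 2) 2 j
          simpa using this)⟩
    have h := hmax _ (hmemT _ hy (compOf_eq_of_adj hy hxr
      (step_adj (i := 2) (by simp [uv]) fun j hj => by simp [uv, hj])))
    simp [uv] at h
  choose rp hrp1 hrp2 hrp3 hrp4 using rep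
  have hgood : ∀ α c, Good I (rp α c).1 := fun α c =>
    good_of_mem_region (rp α c).2 (c.2 _ (hrp1 α c))
  have hp : ∀ α c, (rp α c).1 = pt ((rp α c).1 0).toNat ((rp α c).1 1).toNat ((rp α c).1 2).toNat := fun α c =>
    funext fun j => by
      have := (hgood α c).1 j
      fin_cases j <;> simp_all [pt]
  refine Finset.card_le_card_of_injOn
    (fun x => ⟨(((rp x.1 x.2).1 0).toNat, ((rp x.1 x.2).1 1).toNat), ((rp x.1 x.2).1 2).toNat⟩) ?_ ?_
  · rintro ⟨α, c⟩ hx
    rw [Finset.mem_coe, Finset.mem_sigma] at hx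
    rw [Finset.mem_coe, Finset.mem_sigma, Finset.mem_product, Finset.mem_range, Finset.mem_range]
    have h0 := Fintype.mem_piFinset.mp hx.1 0; have h1 := Fintype.mem_piFinset.mp hx.1 1
    simp [A] at h0 h1
    obtain ⟨β, hβ, e⟩ := (mem_region_iff.mp (rp α c).2).1
    have e0 := congrFun e 0; have e1 := congrFun e 1
    simp [ev] at e0 e1
    have g0 := hG _ (hgood α c) 0; have g1 := hG _ (hgood α c) 1
    have n0 := (hgood α c).1 0; have n1 := (hgood α c).1 1
    dsimp only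
    refine ⟨⟨by omega, by omega⟩, ?_⟩
    rw [if_pos ⟨by omega, by omega⟩, Finset.mem_Ico, max_le_iff, ← stair_iff hI, ← stair_iff hI, ← not_le,
      ← stair_iff hI, ← inExp_pt, ← inExp_pt, ← inExp_pt, ← (pt_succ _ _ _).1, ← (pt_succ _ _ _).2.1, ← hp]
    exact ⟨⟨hrp2 α c, hrp3 α c⟩, (good_iff.mp (hgood α c)).2⟩
  · rintro ⟨α, c⟩ hx ⟨α', c'⟩ hx' h
    rw [Finset.mem_coe, Finset.mem_sigma] at hx hx'
    simp only [Sigma.mk.inj_iff, Prod.mk.injEq, heq_eq_eq] at h
    have e : (rp α c).1 = (rp α' c').1 := by rw [hp α c, hp α' c', h.1.1, h.1.2, h.2]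
    have h0 := Fintype.mem_piFinset.mp hx.1 0; have h1 := Fintype.mem_piFinset.mp hx.1 1
    have h0' := Fintype.mem_piFinset.mp hx'.1 0; have h1' := Fintype.mem_piFinset.mp hx'.1 1
    simp [A] at h0 h1 h0' h1'
    have hle : ∀ (α α' : Fin 3 → ℤ) (c : GoodComp I α) (c' : GoodComp I α'), (rp α c).1 = (rp α' c').1 →
        α 0 = α' 0 → α 1 = α' 1 → α' 2 < α 2 → False := by
      intro α α' c c' e e0 e1 hlt
      obtain ⟨β, hβ, eβ⟩ := (mem_region_iff.mp (rp α c).2).1
      refine hrp4 α' c' (inExp_mono (inExp_ev.mpr hβ) fun j => ?_)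
      have hj := congrFun eβ j
      rw [e] at hj
      fin_cases j <;> simp [uv] at hj ⊢ <;> omega
    obtain rfl : α = α' := funext fun j => by
      fin_cases j
      · exact h0.trans h0'.symm
      · exact h1.trans h1'.symm
      · rcases lt_trichotomy (α' 2) (α 2) with hlt | heq | hgt
        · exact (hle α α' c c' e (h0.trans h0'.symm) (h1.trans h1'.symm) hlt).elim
        · exact heq.symm
        · exact (hle α' α c' c e.symm (h0'.trans h0.symm) (h1'.trans h1.symm) hgt).elim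
    refine Sigma.ext rfl (heq_of_eq (Subtype.ext ?_))
    rw [← hrp1 α c, ← hrp1 α c']
    exact congrArg _ (Subtype.ext e)

end Groth.Agent.HilbPnLib
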