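import Groth.Agent.HilbPnLib.Deg0

/-!
# Components of a region from the pairwise relations of the generators
-/

set_option autoImplicit false

open MvPolynomial W4c1hilbpn

universe u

noncomputable section

namespace Groth.Agent.HilbPnLib

variable {σ : Type} [Fintype σ] {k : Type u} [Field k] {I : Ideal (MvPolynomial σ k)}

/-- the translate of the least common multiple of two exponents avoids the ideal -/
def Rel (I : Ideal (MvPolynomial σ k)) (α : σ → ℤ) (g h : σ →₀ ℕ) : Prop :=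
  ¬ ((∀ l, 0 ≤ (ev (g ⊔ h) + α) l) ∧ unev (ev (g ⊔ h) + α) ∈ exps I)

theorem rel_comp {α : σ → ℤ} {g h : σ →₀ ℕ} (hg : g ∈ exps I) (hh : h ∈ exps I) (hr : Rel I α g h) :
    ∃ (r : ev g + α ∈ region I α) (r' : ev h + α ∈ region I α), compOf r = compOf r' :=
  comp_eq_of_ub hg hh le_sup_left le_sup_right (ev_add_mem_region (exps_up hg le_sup_left) hr)

theorem closed_comp {α : σ → ℤ} {B : Set (σ →₀ ℕ)} (hgen : ∀ β ∈ exps I, ∃ b ∈ B, b ≤ β)
    (K : Set (σ →₀ ℕ)) (hK : ∀ g ∈ K, Good I (ev g + α))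
    (hclosed : ∀ g ∈ K, ∀ h ∈ B, Rel I α g h → h ∈ K) {g : σ →₀ ℕ} (hg : g ∈ K)
    (hr : ev g + α ∈ region I α) :
    ∀ γ ∈ (compOf hr).supp, ∀ i, 0 ≤ (γ : σ → ℤ) i := by
  refine good_of_invariant hr (fun x => ∃ g ∈ K, g ≤ x) ⟨g, hg, le_rfl⟩
    (fun x i _ _ ⟨g, hg, hle⟩ => ⟨g, hg, hle.trans le_self_add⟩) (fun x i hx _ hr' ⟨g, hg, hle⟩ => ?_)
    fun x ⟨g, hg, hle⟩ l => ?_
  · obtain ⟨h, hh, hhx⟩ := hgen x hx
    refine ⟨h, hclosed g hg h hh fun hin => (mem_region_iff.mp hr').2 ?_, hhx⟩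
    have hle' : g ⊔ h ≤ x + Finsupp.single i 1 := sup_le hle (hhx.trans le_self_add)
    have hmono : ∀ l, (ev (g ⊔ h) + α : σ → ℤ) l ≤ (ev (x + Finsupp.single i 1) + α : σ → ℤ) l := fun l => by
      have := Finsupp.le_def.mp hle' l
      simp only [ev, Pi.add_apply]
      omega
    refine ⟨fun l => (hin.1 l).trans (hmono l), exps_up hin.2 (Finsupp.le_def.mpr fun l => ?_)⟩
    rw [unev_apply, unev_apply]
    exact Int.toNat_le_toNat (hmono l)
  · have := Finsupp.le_def.mp hle l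
    have := (hK g hg).1 l
    simp only [ev, Pi.add_apply] at *
    omega

variable (hI : IsMonomial I)

include hI

/-- counting through a table of components -/
theorem finrank_of_table (q : (σ → ℤ) → Prop) {B : Set (σ →₀ ℕ)} (hB : B ⊆ exps I)
    (hgen : ∀ β ∈ exps I, ∃ b ∈ B, b ≤ β) {Ω : Type*} [Finite Ω] (deg : Ω → σ → ℤ) (g : Ω → σ →₀ ℕ)
    (K : Ω → Set (σ →₀ ℕ)) (hq : ∀ ω, q (deg ω)) (hgK : ∀ ω, g ω ∈ K ω) (hKB : ∀ ω, K ω ⊆ B)
    (hK : ∀ ω, ∀ h ∈ K ω, Good I (ev h + deg ω))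
    (hclosed : ∀ ω, ∀ h ∈ K ω, ∀ h' ∈ B, Rel I (deg ω) h h' → h' ∈ K ω)
    (hconn : ∀ ω, ∀ h ∈ K ω, Rel I (deg ω) h (g ω))
    (hsep : ∀ ω ω', deg ω = deg ω' → g ω' ∈ K ω → ω = ω')
    (hex : ∀ α, q α → ∀ b ∈ B, Good I (ev b + α) →
      (∃ ω, deg ω = α ∧ b ∈ K ω) ∨ ∃ h ∈ B, Rel I α b h ∧ ∃ l, (ev h + α) l < 0) :
    Module.finrank k ↥(⨆ α : {α : σ → ℤ // q α}, tPiece I α.1) = Nat.card Ω := by
  classical
  haveI : ∀ α : σ → ℤ, Finite (GoodComp I α) := finite_goodComp hI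
  haveI : ∀ α : σ → ℤ, Fintype (GoodComp I α) := fun α => Fintype.ofFinite _
  haveI := Fintype.ofFinite Ω
  have hr : ∀ ω, ev (g ω) + deg ω ∈ region I (deg ω) := fun ω =>
    good_mem_region (hB (hKB ω (hgK ω))) (hK ω _ (hgK ω))
  let mk : (ω : Ω) → GoodComp I (deg ω) := fun ω =>
    ⟨compOf (hr ω), closed_comp hgen (K ω) (hK ω) (hclosed ω) (hgK ω) (hr ω)⟩
  have hmem : ∀ ω, ∀ h ∈ B, ∀ r : ev h + deg ω ∈ region I (deg ω), compOf r = compOf (hr ω) → h ∈ K ω := by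
    intro ω h hh r e
    have hinv : ∀ (a b : region I (deg ω)), ((stepGraph σ).induce (region I (deg ω))).Reachable a b →
        (∀ x, x ∈ B → ev x ≤ a.1 - deg ω → x ∈ K ω) → ∀ x, x ∈ B → ev x ≤ b.1 - deg ω → x ∈ K ω := by
      rintro a b ⟨w⟩
      induction w with
      | nil => exact id
      | @cons a b c hadj _ ih =>
        intro ha
        refine ih fun x hx hxb => ?_
        obtain ⟨β, hβ, ea⟩ := (mem_region_iff.mp a.2).1
        obtain ⟨β', hβ', eb⟩ := (mem_region_iff.mp b.2).1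
        rw [eb, add_sub_cancel_right, ev_le_iff] at hxb
        have ha' : ∀ x, x ∈ B → x ≤ β → x ∈ K ω := fun x hx h =>
          ha x hx (by rw [ea, add_sub_cancel_right, ev_le_iff]; exact h)
        obtain ⟨y, hy, hyβ⟩ := hgen β hβ
        obtain ⟨i, hne, h1 | h1⟩ := adj_iff.mp (show (stepGraph σ).Adj a.1 b.1 from hadj)
        · have hβle : β ≤ β' := Finsupp.le_def.mpr fun j => by
            rcases eq_or_ne j i with rfl | hj
            · rw [ea, eb] at h1; simp [ev] at h1; omega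
            · have := hne j hj; rw [ea, eb] at this; simp [ev] at this; omega
          refine hclosed ω y (ha' y hy hyβ) x hx fun hin => (mem_region_iff.mp b.2).2 ?_
          rw [eb]
          have hle : ∀ l, (ev (y ⊔ x) + deg ω) l ≤ (ev β' + deg ω) l := fun l => by
            have := Finsupp.le_def.mp (sup_le (hyβ.trans hβle) hxb) l
            simp only [ev, Pi.add_apply]
            omega
          exact ⟨fun l => (hin.1 l).trans (hle l), exps_up hin.2 (Finsupp.le_def.mpr fun l => by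
            rw [unev_apply, unev_apply]; exact Int.toNat_le_toNat (hle l))⟩
        · refine ha' x hx (hxb.trans (Finsupp.le_def.mpr fun j => ?_))
          rcases eq_or_ne j i with rfl | hj
          · rw [ea, eb] at h1; simp [ev] at h1; omega
          · have := hne j hj; rw [ea, eb] at this; simp [ev] at this; omega
    refine hinv ⟨_, hr ω⟩ ⟨_, r⟩ (SimpleGraph.ConnectedComponent.exact e.symm) (fun x hx hle => ?_) h hh
      (by simp)
    refine hclosed ω _ (hgK ω) x hx fun hin => ?_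
    rw [add_sub_cancel_right, ev_le_iff] at hle
    rw [sup_eq_left.mpr hle] at hin
    exact (hK ω _ (hgK ω)).2 hin.2
  have hbij : Function.Bijective (fun ω => (⟨⟨deg ω, hq ω⟩, mk ω⟩ : Σ α : {α : σ → ℤ // q α}, GoodComp I α.1)) := by
    constructor
    · intro ω ω' e
      obtain ⟨e1, e2⟩ := Sigma.mk.inj_iff.mp e
      have e1' : deg ω = deg ω' := congrArg Subtype.val e1
      have hr' : ev (g ω') + deg ω ∈ region I (deg ω) := by rw [e1']; exact hr ω'
      refine hsep ω ω' e1' (hmem ω _ (hKB ω' (hgK ω')) hr' ?_)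
      have key : ∀ (α : σ → ℤ) (_ : deg ω = α) (r : ev (g ω') + α ∈ region I α) (c : GoodComp I α),
          c.1 = compOf r → HEq (mk ω) c → compOf hr' = compOf (hr ω) := by
        rintro α rfl r c hc hh
        obtain rfl := eq_of_heq hh
        exact hc.symm
      exact key _ e1' (hr ω') (mk ω') rfl e2
    · rintro ⟨⟨α, hα⟩, c⟩
      obtain ⟨b, hb, rb, hc, hg⟩ := goodComp_rep hB hgen c
      rcases hex α hα b hb hg with ⟨ω, rfl, hω⟩ | ⟨h, hh, hrel, l, hl⟩
      · refine ⟨ω, Sigma.ext rfl (heq_of_eq (Subtype.ext ?_))⟩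
        obtain ⟨r1, r2, e⟩ := rel_comp (hB hb) (hB (hKB ω (hgK ω))) (hconn ω b hω)
        exact e.symm.trans hc
      · obtain ⟨r1, r2, e⟩ := rel_comp (hB hb) (hB hh) hrel
        exact absurd (c.2 ⟨_, r2⟩ (e.symm.trans hc) l) (not_le.mpr hl)
  let A : Finset (σ → ℤ) := Finset.univ.image deg
  have hout : ∀ α, q α → α ∉ A → tPiece I α = ⊥ := fun α hα hnot =>
    eq_bot_of_isEmpty hI α ⟨fun c => by
      obtain ⟨ω, e⟩ := hbij.2 ⟨⟨α, hα⟩, c⟩
      exact hnot (Finset.mem_image.mpr ⟨ω, Finset.mem_univ _, congrArg (fun x => x.1.1) e⟩)⟩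
  rw [finrank_iSup hI q A hout, Finset.filter_true_of_mem (fun α hα => by
      obtain ⟨ω, -, rfl⟩ := Finset.mem_image.mp hα; exact hq ω),
    Nat.card_eq_fintype_card, ← Finset.card_univ]
  simp only [finrank_tPiece hI, Nat.card_eq_fintype_card, ← Finset.card_univ]
  rw [← Finset.card_sigma]
  refine (Finset.card_bij (fun ω _ => (⟨deg ω, mk ω⟩ : Σ α : σ → ℤ, GoodComp I α))
    (fun ω _ => Finset.mem_sigma.mpr ⟨Finset.mem_image.mpr ⟨ω, Finset.mem_univ _, rfl⟩, Finset.mem_univ _⟩)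
    (fun ω _ ω' _ e => hbij.1 ?_) ?_).symm
  · obtain ⟨e1, e2⟩ := Sigma.mk.inj_iff.mp e
    exact Sigma.ext (Subtype.ext e1) e2
  · rintro ⟨α, c⟩ hc
    obtain ⟨ω0, -, rfl⟩ := Finset.mem_image.mp (Finset.mem_sigma.mp hc).1
    obtain ⟨ω, e⟩ := hbij.2 ⟨⟨deg ω0, hq ω0⟩, c⟩
    obtain ⟨e1, e2⟩ := Sigma.mk.inj_iff.mp e
    exact ⟨ω, Finset.mem_univ _, Sigma.ext (congrArg Subtype.val e1) e2⟩

end Groth.Agent.HilbPnLib
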