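import Groth.Agent.HilbPnLib.Deg0
import Mathlib.Data.Fintype.Sum

/-!
# Degree zero part of the tangent space for two disjoint coordinate subspaces
-/

set_option autoImplicit false

open MvPolynomial W4c1hilbpn

universe u

noncomputable section

namespace Groth.Agent.HilbPnLib

variable {σ : Type} [Fintype σ] [DecidableEq σ] (k : Type u) [Field k] (X Y : σ → Prop)

/-- the exponents of the products of a variable in `X` and a variable in `Y` -/
def prodExps : Set (σ →₀ ℕ) := {b | ∃ i j, X i ∧ Y j ∧ b = Finsupp.single i 1 + Finsupp.single j 1}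

/-- the ideal of the union of the two coordinate subspaces -/
abbrev planesIdeal : Ideal (MvPolynomial σ k) := Ideal.span ((fun b => monomial b (1 : k)) '' prodExps X Y)

/-- the degree `v - u` -/
def tr (u v : σ) : σ → ℤ := ev (Finsupp.single v 1) - ev (Finsupp.single u 1)

variable {k X Y}

theorem mem_planes (hXY : ∀ i, X i → ¬ Y i) {β : σ →₀ ℕ} :
    β ∈ exps (planesIdeal k X Y) ↔ (∃ i, X i ∧ 0 < β i) ∧ ∃ j, Y j ∧ 0 < β j := by
  rw [exps_span]
  constructor
  · rintro ⟨b, ⟨i, j, hi, hj, rfl⟩, h⟩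
    have hij : i ≠ j := fun e => hXY i hi (e ▸ hj)
    have h1 := Finsupp.le_def.mp h i; have h2 := Finsupp.le_def.mp h j
    simp [hij, hij.symm] at h1 h2
    exact ⟨⟨i, hi, by omega⟩, ⟨j, hj, by omega⟩⟩
  · rintro ⟨⟨i, hi, h1⟩, ⟨j, hj, h2⟩⟩
    have hij : i ≠ j := fun e => hXY i hi (e ▸ hj)
    refine ⟨_, ⟨i, j, hi, hj, rfl⟩, Finsupp.le_def.mpr fun l => ?_⟩
    rcases eq_or_ne l i with rfl | hli
    · simp [hij]; omega
    · rcases eq_or_ne l j with rfl | hlj
      · simp [hij.symm]; omega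
      · simp [hli, hlj]

theorem planesIdeal_symm : planesIdeal k X Y = planesIdeal k Y X := by
  refine congrArg Ideal.span (congrArg _ (Set.ext fun b => ?_))
  constructor <;> rintro ⟨i, j, hi, hj, rfl⟩ <;> exact ⟨j, i, hj, hi, add_comm _ _⟩

theorem not_inExp_planes (hXY : ∀ i, X i → ¬ Y i) {γ : σ → ℤ}
    (h : (∀ i, X i → γ i ≤ 0) ∨ ∀ j, Y j → γ j ≤ 0) :
    ¬ ((∀ i, 0 ≤ γ i) ∧ unev γ ∈ exps (planesIdeal k X Y)) := by
  rintro ⟨-, h'⟩
  obtain ⟨⟨i, hi, h1⟩, ⟨j, hj, h2⟩⟩ := (mem_planes hXY).mp h'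
  rw [unev_apply] at h1 h2
  rcases h with h | h
  · have := h i hi; omega
  · have := h j hj; omega

theorem tr_good (hXY : ∀ i, X i → ¬ Y i) {u v y : σ} (hu : X u) (hv : ¬ X v) (hy : Y y) :
    Good (planesIdeal k X Y) (ev (Finsupp.single u 1 + Finsupp.single y 1) + tr u v) := by
  have e : ev (Finsupp.single u 1 + Finsupp.single y 1) + tr u v = ev (Finsupp.single v 1 + Finsupp.single y 1) := by
    funext l; simp [tr, ev]; ring
  rw [e]
  refine good_ev fun h => ?_
  obtain ⟨⟨i, hi, h1⟩, -⟩ := (mem_planes hXY).mp h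
  have hiv : i ≠ v := fun e => hv (e ▸ hi)
  have hiy : i ≠ y := fun e => hXY i hi (e ▸ hy)
  simp [hiv, hiy] at h1

theorem tr_comp (hXY : ∀ i, X i → ¬ Y i) {u v y : σ} (hu : X u) (hv : ¬ X v) (hy : Y y)
    (h : ev (Finsupp.single u 1 + Finsupp.single y 1) + tr u v ∈ region (planesIdeal k X Y) (tr u v)) :
    ∀ γ ∈ (compOf h).supp, ∀ i, 0 ≤ (γ : σ → ℤ) i := by
  have huy : u ≠ y := fun e => hXY u hu (e ▸ hy)
  have huv : u ≠ v := fun e => hv (e ▸ hu)
  refine good_of_invariant h (fun x => 0 < x u) (by simp [huy]) (fun x i _ _ hx => by simp; omega)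
    (fun x i hx hr hr' hx' => ?_) fun x hx l => ?_
  · by_contra hc
    refine (mem_region_iff.mp hr').2 ⟨fun l => ?_, ?_⟩
    · rcases eq_or_ne l u with rfl | hl
      · simp [tr, ev, huv] at hx' ⊢; omega
      · simp [tr, ev, hl]; omega
    · obtain ⟨⟨p, hp, h1⟩, ⟨q, hq, h2⟩⟩ := (mem_planes hXY).mp hx
      refine (mem_planes hXY).mpr ⟨⟨p, hp, ?_⟩, ⟨q, hq, ?_⟩⟩
      · have hpu : p ≠ u := fun e => hc (e ▸ h1)
        simp [unev_apply, tr, ev, hpu]; omega
      · have hqu : q ≠ u := fun e => hXY u hu (e ▸ hq)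
        simp [unev_apply, tr, ev, hqu]; omega
  · rcases eq_or_ne l u with rfl | hl
    · simp [tr, ev, huv]; omega
    · simp [tr, ev, hl]; omega

theorem tr_classify (hXY : ∀ i, X i → ¬ Y i) {i j y : σ} (hi : X i) (hj : Y j) (hy : Y y) {α : σ → ℤ}
    (hs : ∑ l, α l = 0) (h1 : α i < 0) (h2 : 0 ≤ α j)
    (hg : Good (planesIdeal k X Y) (ev (Finsupp.single i 1 + Finsupp.single j 1) + α)) :
    ∃ v, ¬ X v ∧ tr i v = α ∧
      ∃ (hr : ev (Finsupp.single i 1 + Finsupp.single j 1) + α ∈ region (planesIdeal k X Y) α)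
        (hr' : ev (Finsupp.single i 1 + Finsupp.single y 1) + α ∈ region (planesIdeal k X Y) α),
        compOf hr = compOf hr' := by
  classical
  have hij : i ≠ j := fun e => hXY i hi (e ▸ hj)
  have hi1 : α i = -1 := by have := hg.1 i; simp [ev, hij] at this; omega
  have hnn : ∀ l, l ≠ i → 0 ≤ α l := fun l hl => by
    rcases eq_or_ne l j with rfl | hlj
    · exact h2
    · have := hg.1 l; simpa [ev, hl, hlj] using this
  have hsum : ∑ l ∈ Finset.univ.erase i, α l = 1 := by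
    rw [← Finset.add_sum_erase _ _ (Finset.mem_univ i), hi1] at hs; omega
  obtain ⟨v, hv, hv0⟩ := Finset.exists_ne_zero_of_sum_ne_zero (s := Finset.univ.erase i) (f := α) (by omega)
  have hvi : v ≠ i := (Finset.mem_erase.mp hv).1
  have hv1 : α v = 1 ∧ ∀ l, l ≠ i → l ≠ v → α l = 0 := by
    rw [← Finset.add_sum_erase _ _ hv] at hsum
    have h0 : ∀ l ∈ (Finset.univ.erase i).erase v, 0 ≤ α l := fun l hl =>
      hnn l (Finset.mem_erase.mp (Finset.mem_erase.mp hl).2).1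
    have := Finset.sum_nonneg h0
    have := hnn v hvi
    refine ⟨by omega, fun l hli hlv => le_antisymm ?_ (hnn l hli)⟩
    have := Finset.single_le_sum h0 (Finset.mem_erase.mpr ⟨hlv, Finset.mem_erase.mpr ⟨hli, Finset.mem_univ l⟩⟩)
    omega
  have hα : tr i v = α := funext fun l => by
    rcases eq_or_ne l i with rfl | hli
    · simp [tr, ev, hvi.symm, hi1]
    · rcases eq_or_ne l v with rfl | hlv
      · simp [tr, ev, hli, hv1.1]
      · simp [tr, ev, hli, hlv, hv1.2 l hli hlv]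
  have hvX : ¬ X v := fun hX => by
    refine hg.2 ((mem_planes hXY).mpr ⟨⟨v, hX, ?_⟩, ⟨j, hj, ?_⟩⟩)
    · simp [unev_apply, ev, hvi, hv1.1]
    · simp [unev_apply, ev, hij.symm]; omega
  refine ⟨v, hvX, hα, ?_⟩
  have hmem : ∀ {w}, Y w → Finsupp.single i 1 + Finsupp.single w 1 ∈ exps (planesIdeal k X Y) := fun {w} hw =>
    (exps_span _).mpr ⟨_, ⟨i, w, hi, hw, rfl⟩, le_rfl⟩
  refine comp_eq_of_ub (hmem hj) (hmem hy) (u := Finsupp.single i 1 + Finsupp.single j 1 + Finsupp.single y 1)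
    le_self_add (by rw [add_right_comm]; exact le_self_add) ?_
  refine ev_add_mem_region (exps_up (hmem hj) le_self_add) (not_inExp_planes hXY (Or.inl fun l hl => ?_))
  have hlj : l ≠ j := fun e => hXY l hl (e ▸ hj)
  have hly : l ≠ y := fun e => hXY l hl (e ▸ hy)
  have hlv : l ≠ v := fun e => hvX (e ▸ hl)
  rcases eq_or_ne l i with rfl | hli
  · simp [← hα, tr, ev, hlj, hly, hlv]
  · simp [← hα, tr, ev, hlj, hly, hlv, hli]

theorem no_double (hXY : ∀ i, X i → ¬ Y i) (hY2 : ∀ a, ∃ b, Y b ∧ b ≠ a) {i j : σ} (hi : X i) (hj : Y j)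
    {α : σ → ℤ} (h1 : α i < 0) (h2 : α j < 0)
    {hr : ev (Finsupp.single i 1 + Finsupp.single j 1) + α ∈ region (planesIdeal k X Y) α}
    (hgood : ∀ γ ∈ (compOf hr).supp, ∀ l, 0 ≤ (γ : σ → ℤ) l)
    (hX : ∀ l, X l → (ev (Finsupp.single i 1 + Finsupp.single j 1) + α : σ → ℤ) l ≤ 0) : False := by
  classical
  have hij : i ≠ j := fun e => hXY i hi (e ▸ hj)
  obtain ⟨l, hl, hlj⟩ := hY2 j
  let u : σ →₀ ℕ := Finsupp.single i 1 + Finsupp.single j 1 + Finsupp.single l 1
  have hu : ev u + α ∈ region (planesIdeal k X Y) α :=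
    ev_add_mem_region (exps_up ((exps_span _).mpr ⟨_, ⟨i, j, hi, hj, rfl⟩, le_rfl⟩) le_self_add)
      (not_inExp_planes hXY (Or.inl fun p hp => by
        have hpl : p ≠ l := fun e => hXY p hp (e ▸ hl)
        have := hX p hp
        simp [u, ev, hpl] at this ⊢
        omega))
  obtain ⟨hr1, hr2, e⟩ := comp_eq_of_ub (b := Finsupp.single i 1 + Finsupp.single j 1)
    (b' := Finsupp.single i 1 + Finsupp.single l 1) (α := α)
    ((exps_span (k := k) (prodExps X Y)).mpr ⟨_, ⟨i, j, hi, hj, rfl⟩, le_rfl⟩)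
    ((exps_span (k := k) (prodExps X Y)).mpr ⟨_, ⟨i, l, hi, hl, rfl⟩, le_rfl⟩)
    le_self_add (by show _ ≤ Finsupp.single i 1 + Finsupp.single j 1 + Finsupp.single l 1; rw [add_right_comm]; exact le_self_add) hu
  have hb : 0 ≤ (ev (Finsupp.single i 1 + Finsupp.single l 1) + α : σ → ℤ) j :=
    hgood ⟨_, hr2⟩ ((SimpleGraph.ConnectedComponent.mem_supp_iff _ _).mpr e.symm) j
  simp [ev, hij.symm, hlj.symm] at hb
  omega

theorem finrank_planes [Nonempty σ] (hXY : ∀ i, X i → ¬ Y i) (hX2 : ∀ a, ∃ b, X b ∧ b ≠ a) (hY2 : ∀ a, ∃ b, Y b ∧ b ≠ a) :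
    Module.finrank k ↥(⨆ α : {α : σ → ℤ // ∑ l, α l = 0}, tPiece (planesIdeal k X Y) α.1) =
      Nat.card {u // X u} * Nat.card {v // ¬ X v} + Nat.card {u // Y u} * Nat.card {v // ¬ Y v} := by
  classical
  obtain ⟨a⟩ := ‹Nonempty σ›
  obtain ⟨x0, hx0, -⟩ := hX2 a
  obtain ⟨y0, hy0, -⟩ := hY2 a
  have hYX : ∀ i, Y i → ¬ X i := fun i h h' => hXY i h' h
  let deg : ({u // X u} × {v // ¬ X v}) ⊕ ({u // Y u} × {v // ¬ Y v}) → σ → ℤ :=
    Sum.elim (fun p => tr p.1.1 p.2.1) (fun p => tr p.1.1 p.2.1)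
  let g : ({u // X u} × {v // ¬ X v}) ⊕ ({u // Y u} × {v // ¬ Y v}) → σ →₀ ℕ :=
    Sum.elim (fun p => Finsupp.single p.1.1 1 + Finsupp.single y0 1) (fun p => Finsupp.single x0 1 + Finsupp.single p.1.1 1)
  have htr : ∀ {u v u' v' : σ}, u ≠ v → u' ≠ v' → tr u v = tr u' v' → u = u' ∧ v = v' := by
    intro u v u' v' h h' e
    constructor
    · have := congrFun e u
      by_contra hne
      rcases eq_or_ne u v' with rfl | hv' <;> simp [tr, ev, h, hne, *] at this
    · have := congrFun e v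
      by_contra hne
      rcases eq_or_ne v u' with rfl | hu' <;> simp [tr, ev, h.symm, hne, *] at this
  have hsum : ∀ u v : σ, ∑ l, tr u v l = 0 := fun u v => by
    simp [tr, ev, Finset.sum_sub_distrib, Finsupp.single_apply]
  have hgI : ∀ ω, g ω ∈ exps (planesIdeal k X Y) := by
    rintro (p | p)
    · exact (exps_span _).mpr ⟨_, ⟨_, _, p.1.2, hy0, rfl⟩, le_rfl⟩
    · exact (exps_span _).mpr ⟨_, ⟨_, _, hx0, p.1.2, rfl⟩, le_rfl⟩
  have hgood : ∀ ω, Good (planesIdeal k X Y) (ev (g ω) + deg ω) := by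
    rintro (p | p)
    · exact tr_good hXY p.1.2 p.2.2 hy0
    · rw [planesIdeal_symm]
      simp only [g, deg, Sum.elim_inr]
      rw [add_comm (Finsupp.single x0 1)]
      exact tr_good hYX p.1.2 p.2.2 hx0
  have main := finrank_of_classification (isMonomial_span (prodExps X Y)) (fun α => ∑ l, α l = 0) deg g
    (by rintro (p | p) <;> exact hsum _ _) ?_ hgI hgood ?_ ?_
  · rw [main, Nat.card_sum, Nat.card_prod, Nat.card_prod]
  · rintro (⟨⟨u, hu⟩, v, hv⟩ | ⟨⟨u, hu⟩, v, hv⟩) (⟨⟨u', hu'⟩, v', hv'⟩ | ⟨⟨u', hu'⟩, v', hv'⟩) e <;>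
      obtain ⟨rfl, rfl⟩ := htr (u := u) (v := v) (u' := u') (v' := v') (fun e => hv (e ▸ hu)) (fun e => hv' (e ▸ hu')) e
    · rfl
    · exact absurd hu' (hXY _ hu)
    · exact absurd hu (hXY _ hu')
    · rfl
  · rintro (p | ⟨⟨u, hu⟩, v, hv⟩)
    · exact tr_comp hXY p.1.2 p.2.2 hy0 _
    · have key : ∀ (J : Ideal (MvPolynomial σ k)) (_ : J = planesIdeal k Y X)
          (b : σ →₀ ℕ) (_ : b = Finsupp.single u 1 + Finsupp.single x0 1)
          (h : ev b + tr u v ∈ region J (tr u v)), ∀ γ ∈ (compOf h).supp, ∀ i, 0 ≤ (γ : σ → ℤ) i := by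
        rintro J rfl b rfl h
        exact tr_comp hYX hu hv hx0 h
      exact key _ planesIdeal_symm _ (add_comm _ _) _
  · intro α hs c
    obtain ⟨b, ⟨i, j, hi, hj, rfl⟩, hr, hc, hg⟩ := goodComp_rep (B := prodExps X Y)
      (fun b hb => (exps_span _).mpr ⟨b, hb, le_rfl⟩) (fun β hβ => (exps_span _).mp hβ) c
    have hij : i ≠ j := fun e => hXY i hi (e ▸ hj)
    by_cases h1 : α i < 0
    · by_cases h2 : α j < 0
      · exfalso
        have hgood' : ∀ γ ∈ (compOf hr).supp, ∀ l, 0 ≤ (γ : σ → ℤ) l := hc ▸ c.2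
        by_cases hX : ∀ l, X l → (ev (Finsupp.single i 1 + Finsupp.single j 1) + α : σ → ℤ) l ≤ 0
        · exact no_double hXY hY2 hi hj h1 h2 hgood' hX
        · have key : ∀ (J : Ideal (MvPolynomial σ k)) (_ : J = planesIdeal k Y X)
              (b : σ →₀ ℕ) (_ : b = Finsupp.single j 1 + Finsupp.single i 1)
              (h : ev b + α ∈ region J α), (∀ γ ∈ (compOf h).supp, ∀ l, 0 ≤ (γ : σ → ℤ) l) →
              (∀ l, Y l → (ev b + α) l ≤ 0) → False := by
            rintro J rfl b rfl h hg' hY'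
            exact no_double hYX hX2 hj hi h2 h1 hg' hY'
          refine key _ planesIdeal_symm _ (add_comm _ _) hr hgood' fun l hl => ?_
          by_contra hc'
          refine hX fun p hp => ?_
          by_contra hc''
          exact hg.2 ((mem_planes hXY).mpr ⟨⟨p, hp, by rw [unev_apply]; omega⟩, ⟨l, hl, by rw [unev_apply]; omega⟩⟩)
      · obtain ⟨v, hv, e, hr1, hr2, ec⟩ := tr_classify hXY hi hj hy0 hs h1 (not_lt.mp h2) hg
        subst e
        exact ⟨Sum.inl (⟨i, hi⟩, ⟨v, hv⟩), rfl, ec.symm.trans hc⟩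
    · by_cases h2 : α j < 0
      · have key : ∀ (J : Ideal (MvPolynomial σ k)) (_ : J = planesIdeal k Y X)
            (b : σ →₀ ℕ) (_ : b = Finsupp.single j 1 + Finsupp.single i 1)
            (b' : σ →₀ ℕ) (_ : b' = Finsupp.single j 1 + Finsupp.single x0 1),
            Good J (ev b + α) → ∃ v, ¬ Y v ∧ tr j v = α ∧
              ∃ (hr : ev b + α ∈ region J α) (hr' : ev b' + α ∈ region J α), compOf hr = compOf hr' := by
          rintro J rfl b rfl b' rfl hg'
          exact tr_classify hYX hj hi hx0 hs h2 (not_lt.mp h1) hg'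
        obtain ⟨v, hv, e, hr1, hr2, ec⟩ := key _ planesIdeal_symm _ (add_comm _ _)
          (Finsupp.single x0 1 + Finsupp.single j 1) (add_comm _ _) hg
        subst e
        exact ⟨Sum.inr (⟨j, hj⟩, ⟨v, hv⟩), rfl, ec.symm.trans hc⟩
      · exfalso
        have h0 : ∀ l, 0 ≤ α l := fun l => by
          rcases eq_or_ne l i with rfl | hli
          · omega
          · rcases eq_or_ne l j with rfl | hlj
            · omega
            · have := hg.1 l; simpa [ev, hli, hlj] using this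
        have : α = 0 := funext fun l => (Finset.sum_eq_zero_iff_of_nonneg fun l _ => h0 l).mp hs l (Finset.mem_univ l)
        subst this
        rw [add_zero] at hg
        refine hg.2 ?_
        rw [unev_ev]
        exact (exps_span _).mpr ⟨_, ⟨i, j, hi, hj, rfl⟩, le_rfl⟩

end Groth.Agent.HilbPnLib
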