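import Groth.Agent.HilbPnLib.SigBound

/-!
# The tangent space of a monomial ideal containing a small power of a variable
-/

set_option autoImplicit false
set_option linter.style.haveILetI false

open MvPolynomial W4c1hilbpn

universe u

noncomputable section

namespace Groth.Agent.HilbPnLib.XPow

variable {k : Type u} [Field k]


/-- A subspace embedded in a finite product is bounded by the sum of bounds on the factors. -/
theorem finrank_le_sum {ι : Type*} [Fintype ι] {n : ℕ}
    (J : ι → Ideal (MvPolynomial (Fin 2) k)) [∀ i, Module.Finite k (MvPolynomial (Fin 2) k ⧸ J i)]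
    (K : ∀ i, Submodule k (Fin n → MvPolynomial (Fin 2) k ⧸ J i))
    {I : Ideal (MvPolynomial (Fin 3) k)} (S : Submodule k (Tgt I))
    (f : Tgt I →ₗ[k] ((i : ι) → Fin n → MvPolynomial (Fin 2) k ⧸ J i))
    (hf : ∀ x ∈ S, f x = 0 → x = 0)
    (hmem : ∀ x i, f x i ∈ K i) (b : ι → ℕ) (hb : ∀ i, Module.finrank k (K i) ≤ b i) :
    Module.finrank k S ≤ ∑ i, b i := by
  let Ψ : S →ₗ[k] ((i : ι) → K i) :=
    LinearMap.pi fun i => ((LinearMap.proj i).comp (f.comp S.subtype)).codRestrict (K i) fun x => hmem x.1 i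
  have hΨ : Function.Injective Ψ := by
    rw [injective_iff_map_eq_zero]
    intro x hx
    exact Subtype.ext (hf x.1 x.2 (funext fun i => congrArg Subtype.val (congrFun hx i)))
  haveI : ∀ i, Module.Free k (K i) := fun i => Module.Free.of_divisionRing k (K i)
  refine (LinearMap.finrank_le_finrank_of_injective hΨ).trans ?_
  rw [Module.finrank_pi_fintype]
  exact Finset.sum_le_sum fun i _ => hb i

section Kernel

variable (J : Ideal (MvPolynomial (Fin 2) k)) [Module.Finite k ((MvPolynomial (Fin 2) k) ⧸ J)] (V : ℕ) (h : ℕ → ℕ)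

/-- The compatibility map for values on a staircase. -/
def psi : (Fin (V + 1) → (MvPolynomial (Fin 2) k) ⧸ J) →ₗ[k] (Fin V → (MvPolynomial (Fin 2) k) ⧸ J) :=
  LinearMap.pi fun v =>
    (LinearMap.mulLeft k (Ideal.Quotient.mk J (X 1))).comp (LinearMap.proj v.castSucc) -
      (LinearMap.mulLeft k (Ideal.Quotient.mk J (X 0) ^ (h v - h (v + 1)))).comp (LinearMap.proj v.succ)

omit [Module.Finite k ((MvPolynomial (Fin 2) k) ⧸ J)] in
theorem psi_apply (n : Fin (V + 1) → (MvPolynomial (Fin 2) k) ⧸ J) (v : Fin V) :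
    psi J V h n v = Ideal.Quotient.mk J (X 1) * n v.castSucc -
      Ideal.Quotient.mk J (X 0) ^ (h v - h (v + 1)) * n v.succ := rfl

/-- A value at one place. -/
def one (v : ℕ) (m : (MvPolynomial (Fin 2) k) ⧸ J) : Fin V → (MvPolynomial (Fin 2) k) ⧸ J := fun t => if t.val = v then m else 0

theorem finrank_ker_psi_le (hh : ∀ v < V, h (v + 1) ≤ h v) (hV : h V = 0) :
    Module.finrank k (LinearMap.ker (psi J V h)) ≤ Module.finrank k ((MvPolynomial (Fin 2) k) ⧸ J) + ∑ v ∈ Finset.range V, h v := by
  classical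
  set y : (MvPolynomial (Fin 2) k) ⧸ J := Ideal.Quotient.mk J (X 0)
  set z : (MvPolynomial (Fin 2) k) ⧸ J := Ideal.Quotient.mk J (X 1)
  let W : Submodule k (Fin V → (MvPolynomial (Fin 2) k) ⧸ J) := LinearMap.range (psi J V h) ⊔
    Submodule.span k (Set.range fun x : Σ v : Fin V, Fin (h v) => one J V x.1.val (y ^ x.2.val))
  have hsingle : ∀ (s : Fin (V + 1)) (m : (MvPolynomial (Fin 2) k) ⧸ J), psi J V h (Pi.single s m) =
      one J V s.val (z * m) - (if s.val = 0 then 0 else one J V (s.val - 1) (y ^ (h (s.val - 1) - h s.val) * m)) := by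
    intro s m
    funext t
    rw [psi_apply, Pi.sub_apply]
    refine congrArg₂ (· - ·) ?_ ?_
    · by_cases hs : t.val = s.val
      · rw [show t.castSucc = s from Fin.ext hs, Pi.single_eq_same]
        simp [one, hs, z]
      · rw [Pi.single_eq_of_ne (fun e => hs (congrArg Fin.val e)), mul_zero]
        simp [one, hs]
    · by_cases hs : t.val + 1 = s.val
      · rw [show t.succ = s from Fin.ext hs, Pi.single_eq_same, if_neg (by omega)]
        simp [one, ← hs, y]
      · rw [Pi.single_eq_of_ne (fun e => hs (congrArg Fin.val e)), mul_zero]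
        split_ifs with h0
        · rfl
        · simp [one, show ¬ t.val = s.val - 1 by omega]
  have hR : ∀ (v : ℕ), v < V → ∀ u w, h v ≤ u → one J V v (y ^ u * z ^ w) ∈ LinearMap.range (psi J V h) := by
    intro v hv
    obtain ⟨d, hd⟩ : ∃ d, V = v + 1 + d := ⟨V - (v + 1), by omega⟩
    induction d generalizing v with
    | zero =>
      intro u w hu
      refine ⟨- Pi.single ⟨V, by omega⟩ (y ^ (u - h v) * z ^ w), ?_⟩
      rw [map_neg, hsingle]
      simp only [show ¬ V = 0 by omega, if_false, show V - 1 = v by omega, hV, Nat.sub_zero]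
      rw [← mul_assoc (y ^ h v), ← pow_add, show h v + (u - h v) = u by omega]
      funext t
      simp [one, show ¬ t.val = V by omega]
    | succ d ih =>
      intro u w hu
      have hmono := hh v hv
      have h1 := ih (v + 1) (by omega) (by omega) (u - (h v - h (v + 1))) (w + 1) (by omega)
      have h2 : psi J V h (Pi.single ⟨v + 1, by omega⟩ (y ^ (u - (h v - h (v + 1))) * z ^ w)) ∈
          LinearMap.range (psi J V h) := ⟨_, rfl⟩
      rw [hsingle] at h2
      simp only [Nat.add_sub_cancel, Nat.add_eq_zero_iff, one_ne_zero, and_false, if_false] at h2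
      rw [← mul_assoc (y ^ _), ← pow_add, show h v - h (v + 1) + (u - (h v - h (v + 1))) = u by omega,
        show z * (y ^ (u - (h v - h (v + 1))) * z ^ w) = y ^ (u - (h v - h (v + 1))) * z ^ (w + 1) by ring] at h2
      simpa using sub_mem h1 h2
  have hW : ∀ (v : ℕ), v < V → ∀ u w, one J V v (y ^ u * z ^ w) ∈ W := by
    intro v
    induction v using Nat.strong_induction_on with
    | _ v ih =>
      intro hv u w
      cases w with
      | zero =>
        rw [pow_zero, mul_one]
        by_cases hu : u < h v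
        · exact Submodule.mem_sup_right (Submodule.subset_span ⟨⟨⟨v, hv⟩, ⟨u, hu⟩⟩, rfl⟩)
        · refine Submodule.mem_sup_left ?_
          simpa using hR v hv u 0 (not_lt.1 hu)
      | succ w =>
        have h2 : psi J V h (Pi.single ⟨v, by omega⟩ (y ^ u * z ^ w)) ∈ W := Submodule.mem_sup_left ⟨_, rfl⟩
        rw [hsingle, show z * (y ^ u * z ^ w) = y ^ u * z ^ (w + 1) by ring] at h2
        simp only at h2
        cases v with
        | zero => simpa using h2
        | succ v =>
          simp only [Nat.add_sub_cancel, Nat.add_eq_zero_iff, one_ne_zero, and_false, if_false] at h2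
          rw [← mul_assoc (y ^ _), ← pow_add] at h2
          simpa using add_mem h2 (ih v (by omega) (by omega) (h v - h (v + 1) + u) w)
  have htop : W = ⊤ := by
    refine eq_top_iff.2 fun n _ => ?_
    rw [← Finset.univ_sum_single n]
    refine Submodule.sum_mem _ fun t _ => ?_
    have e : ∀ m, Pi.single (M := fun _ : Fin V => (MvPolynomial (Fin 2) k) ⧸ J) t m = one J V t.val m := fun m => funext fun s => by
      simp [one, Pi.single_apply, Fin.ext_iff]
    obtain ⟨q, hq⟩ := Ideal.Quotient.mk_surjective (n t)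
    rw [← hq, q.as_sum, map_sum]
    change LinearMap.single k (fun _ : Fin V => (MvPolynomial (Fin 2) k) ⧸ J) t _ ∈ W
    rw [map_sum]
    refine Submodule.sum_mem _ fun β _ => ?_
    rw [show monomial β (coeff β q) = coeff β q • (X 0 ^ β 0 * X 1 ^ β 1 : (MvPolynomial (Fin 2) k)) by
      rw [smul_eq_C_mul, monomial_eq, Finsupp.prod_fintype _ _ (fun i => pow_zero _), Fin.prod_univ_two]]
    rw [show Ideal.Quotient.mk J (coeff β q • (X 0 ^ β 0 * X 1 ^ β 1 : (MvPolynomial (Fin 2) k))) = coeff β q • (y ^ β 0 * z ^ β 1) by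
      rw [← Ideal.Quotient.mkₐ_eq_mk k, map_smul, map_mul, map_pow, map_pow]; rfl, map_smul, LinearMap.coe_single, e]
    exact Submodule.smul_mem _ _ (hW _ t.2 _ _)
  have h1 := LinearMap.finrank_range_add_finrank_ker (psi J V h)
  rw [Module.finrank_pi_fintype, Finset.sum_const, Finset.card_univ, Fintype.card_fin, smul_eq_mul] at h1
  have h2 := Submodule.finrank_add_le_finrank_add_finrank (LinearMap.range (psi J V h))
    (Submodule.span k (Set.range fun x : Σ v : Fin V, Fin (h v) => one J V x.1.val (y ^ x.2.val)))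
  change Module.finrank k W ≤ _ at h2
  rw [htop, finrank_top, Module.finrank_pi_fintype, Finset.sum_const, Finset.card_univ, Fintype.card_fin,
    smul_eq_mul] at h2
  have h3 : Module.finrank k (Submodule.span k (Set.range fun x : Σ v : Fin V, Fin (h v) =>
      one J V x.1.val (y ^ x.2.val))) ≤ ∑ v ∈ Finset.range V, h v := by
    refine (finrank_range_le_card _).trans_eq ?_
    rw [Fintype.card_sigma, ← Fin.sum_univ_eq_sum_range]
    simp
  rw [Nat.succ_mul] at h1
  omega

end Kernel

variable (I : Ideal (MvPolynomial (Fin 3) k))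

/-- The `x`-layer of a polynomial, modulo the slice. -/
def lay (j : ℕ) : MvPolynomial (Fin 3) k →ₗ[k] (MvPolynomial (Fin 2) k) ⧸ sliceX I j where
  toFun f := Ideal.Quotient.mk _ ((finSuccEquiv k 2 f).coeff j)
  map_add' f g := by simp
  map_smul' c f := by
    rw [map_smul, Polynomial.coeff_smul, RingHom.id_apply]
    exact map_smul (Ideal.Quotient.mkₐ k (sliceX I j)) c _

variable {I} (hI : IsMonomial I)

include hI

theorem coeff_mem_slice {f : MvPolynomial (Fin 3) k} (hf : f ∈ I) (j : ℕ) :
    (finSuccEquiv k 2 f).coeff j ∈ sliceX I j := by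
  refine mem_of_support fun m hm => ?_
  rw [mem_support_iff, finSuccEquiv_coeff_coeff, ← mem_support_iff] at hm
  refine (exps_sliceX j m).2 ?_
  have h := hI f hf _ hm
  rw [show e3 j (m 0) (m 1) = m.cons j from ?_]
  · exact h
  ext l
  fin_cases l
  · exact (Finsupp.cons_zero _ _).symm
  · exact (Finsupp.cons_succ (0 : Fin 2) j m).symm
  · exact (Finsupp.cons_succ (1 : Fin 2) j m).symm

/-- The layers of the quotient. -/
def layQ (j : ℕ) : (MvPolynomial (Fin 3) k ⧸ I) →ₗ[k] (MvPolynomial (Fin 2) k) ⧸ sliceX I j :=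
  (Submodule.liftQ (I.restrictScalars k) (lay I j) fun f hf =>
    Ideal.Quotient.eq_zero_iff_mem.2 (coeff_mem_slice hI hf j)).comp
    (Submodule.Quotient.restrictScalarsEquiv k I).symm.toLinearMap

theorem layQ_mk (j : ℕ) (f : MvPolynomial (Fin 3) k) :
    layQ hI j (Ideal.Quotient.mk I f) = Ideal.Quotient.mk _ ((finSuccEquiv k 2 f).coeff j) := rfl

omit hI in
theorem finSuccEquiv_rename (r : (MvPolynomial (Fin 2) k)) : finSuccEquiv k 2 (rename Fin.succ r) = Polynomial.C r := by
  have h : ((finSuccEquiv k 2).toAlgHom.comp (rename Fin.succ)) =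
      (Polynomial.CAlgHom (R := k) (A := MvPolynomial (Fin 2) k)) := by
    refine algHom_ext fun i => ?_
    simp [finSuccEquiv_X_succ]
  exact AlgHom.congr_fun h r

theorem layQ_smul (j : ℕ) (r : (MvPolynomial (Fin 2) k)) (q : MvPolynomial (Fin 3) k ⧸ I) :
    layQ hI j (rename Fin.succ r • q) = Ideal.Quotient.mk _ r * layQ hI j q := by
  obtain ⟨f, rfl⟩ := Ideal.Quotient.mk_surjective q
  rw [show rename Fin.succ r • Ideal.Quotient.mk I f = Ideal.Quotient.mk I (rename Fin.succ r * f) from rfl,
    layQ_mk, layQ_mk, map_mul, finSuccEquiv_rename, Polynomial.coeff_C_mul, map_mul]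

theorem layQ_surjective (p : ℕ) :
    Function.Surjective (LinearMap.pi fun j : Fin p => layQ hI j.val) := by
  intro n
  choose r hr using fun j => Ideal.Quotient.mk_surjective (n j)
  refine ⟨Ideal.Quotient.mk I (∑ j, rename Fin.succ (r j) * X 0 ^ j.val), funext fun j => ?_⟩
  rw [LinearMap.pi_apply, layQ_mk, ← hr j, map_sum, Polynomial.finsetSum_coeff]
  congr 1
  rw [Finset.sum_eq_single j]
  · rw [map_mul, map_pow, finSuccEquiv_rename, finSuccEquiv_X_zero, Polynomial.coeff_C_mul_X_pow, if_pos rfl]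
  · intro b _ hb
    rw [map_mul, map_pow, finSuccEquiv_rename, finSuccEquiv_X_zero, Polynomial.coeff_C_mul_X_pow,
      if_neg fun e => hb (Fin.ext e.symm)]
  · simp

theorem finite_slice [Module.Finite k (MvPolynomial (Fin 3) k ⧸ I)] (j : ℕ) :
    Module.Finite k ((MvPolynomial (Fin 2) k) ⧸ sliceX I j) := by
  refine Module.Finite.of_surjective (layQ hI j) fun n => ?_
  obtain ⟨q, hq⟩ := layQ_surjective hI (j + 1) (Function.update 0 (Fin.last j) n)
  refine ⟨q, ?_⟩
  have := congrFun hq (Fin.last j)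
  simpa using this

theorem eq_zero_of_layQ {p : ℕ} (hp : e3 p 0 0 ∈ exps I) {q : MvPolynomial (Fin 3) k ⧸ I}
    (h : ∀ j < p, layQ hI j q = 0) : q = 0 := by
  obtain ⟨f, rfl⟩ := Ideal.Quotient.mk_surjective q
  refine Ideal.Quotient.eq_zero_iff_mem.2 (mem_of_support fun δ hδ => ?_)
  by_cases hj : δ 0 < p
  · have h1 := h _ hj
    rw [layQ_mk, Ideal.Quotient.eq_zero_iff_mem] at h1
    have hm : δ.tail ∈ ((finSuccEquiv k 2 f).coeff (δ 0)).support := by
      rw [mem_support_iff, finSuccEquiv_coeff_coeff, Finsupp.cons_tail, ← mem_support_iff]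
      exact hδ
    have h2 := (exps_sliceX (δ 0) δ.tail).1 (isMonomial_sliceX hI (δ 0) _ h1 _ hm)
    simp only [Finsupp.tail_apply] at h2
    rwa [show e3 (δ 0) (δ (Fin.succ 0)) (δ (Fin.succ 1)) = δ from e3_eta δ] at h2
  · exact exps_up hp (by rw [← e3_eta δ]; exact e3_le (not_lt.1 hj) (Nat.zero_le _) (Nat.zero_le _))

/-- Homomorphisms raising the `x`-degree. -/
def upSub : Submodule k (Tgt I) where
  carrier := {φ | ∀ (β : Fin 3 →₀ ℕ) (hβ : β ∈ exps I) (j : ℕ), j < β 0 → layQ hI j (φ ⟨monomial β 1, hβ⟩) = 0}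
  zero_mem' := fun β hβ j _ => by simp
  add_mem' := fun {φ ψ} h1 h2 β hβ j hj => by
    rw [LinearMap.add_apply, map_add, h1 β hβ j hj, h2 β hβ j hj, add_zero]
  smul_mem' := fun c φ h β hβ j hj => by rw [LinearMap.smul_apply, map_smul, h β hβ j hj, smul_zero]

theorem iSup_le_upSub : ⨆ α : {α : Fin 3 → ℤ // 0 ≤ α 0}, tPiece I α.1 ≤ upSub hI := by
  classical
  refine iSup_le fun α φ hφ β hβ j hj => ?_
  by_cases hn : ∀ i, 0 ≤ (β i : ℤ) + α.1 i
  · obtain ⟨c, hc⟩ := Submodule.mem_span_singleton.mp ((hφ β hβ).1 hn)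
    rw [← hc, map_smul, layQ_mk]
    have h0 : (finSuccEquiv k 2 (monomial (shift β α.1) (1 : k))).coeff j = 0 := by
      ext m
      rw [finSuccEquiv_coeff_coeff, coeff_monomial, coeff_zero, if_neg]
      intro e
      have h1 := DFunLike.congr_fun e 0
      rw [Finsupp.cons_zero, shift_eq, unev_apply] at h1
      simp [ev] at h1
      have := α.2
      omega
    rw [h0, map_zero, smul_zero]
  · push Not at hn
    rw [(hφ β hβ).2 hn, map_zero]

variable [Module.Finite k (MvPolynomial (Fin 3) k ⧸ I)]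

set_option maxHeartbeats 1000000 in
/-- The pieces raising the `x`-degree are bounded by pairs of slices. -/
theorem finrank_up_le {p : ℕ} (hp : e3 p 0 0 ∈ exps I) :
    Module.finrank k ↥(⨆ α : {α : Fin 3 → ℤ // 0 ≤ α 0}, tPiece I α.1) ≤
      (p + 1) * Module.finrank k (MvPolynomial (Fin 3) k ⧸ I) := by
  classical
  haveI := finite_swapYZ (I := I)
  have hI' := isMonomial_swapYZ hI
  have hY : ∀ a b c, e3 a b c ∈ exps I ↔ stairY I a c ≤ b := fun a b c => by
    rw [← exps_swapYZ_e3, stair_iff hI', stairZ_swap]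
  obtain ⟨V, hV0, -, -, hVz⟩ := exists_pow_mem hI
  have hV : ∀ i, stairY I i V = 0 := fun i =>
    Nat.le_zero.mp ((hY i 0 V).mp (exps_up hVz (e3_le (Nat.zero_le _) le_rfl le_rfl)))
  have hanti : ∀ i v, stairY I i (v + 1) ≤ stairY I i v := fun i v =>
    (hY _ _ _).mp (exps_up ((hY i _ v).mpr le_rfl) (e3_le le_rfl le_rfl (Nat.le_succ v)))
  let L : ℕ → ℕ := fun j => Module.finrank k ((MvPolynomial (Fin 2) k) ⧸ sliceX I j)
  haveI := finite_slice hI
  have hA : ∀ i, ∑ v ∈ Finset.range V, stairY I i v ≤ L i := by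
    intro i
    have hsl := isMonomial_sliceX hI i
    show _ ≤ Module.finrank k ((MvPolynomial (Fin 2) k) ⧸ sliceX I i)
    rw [finrank_quot hsl]
    haveI : Finite {δ : Fin 2 →₀ ℕ // δ ∉ exps (sliceX I i)} := (finite_compl hsl).to_subtype
    let f : (Σ v : Fin V, Fin (stairY I i v)) → {δ : Fin 2 →₀ ℕ // δ ∉ exps (sliceX I i)} :=
      fun x => ⟨Finsupp.equivFunOnFinite.symm ![x.2.val, x.1.val], fun h => by
        have h1 := (exps_sliceX i _).1 h
        have h2 := (hY i _ _).mp h1
        simp at h2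
        omega⟩
    have hf : Function.Injective f := by
      rintro ⟨v, u⟩ ⟨v', u'⟩ e
      have h0 := DFunLike.congr_fun (congrArg Subtype.val e) 0
      have h1 := DFunLike.congr_fun (congrArg Subtype.val e) 1
      simp [f] at h0 h1
      obtain rfl := Fin.ext h1
      obtain rfl := Fin.ext h0
      rfl
    refine le_of_eq_of_le ?_ (Nat.card_le_card_of_injective f hf)
    rw [Nat.card_eq_fintype_card, Fintype.card_sigma, ← Fin.sum_univ_eq_sum_range]
    simp
  obtain ⟨P, hP⟩ : ∃ P : Finset (ℕ × ℕ), P = (Finset.range p ×ˢ Finset.range p).filter fun q => q.1 ≤ q.2 :=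
    ⟨_, rfl⟩
  let g : (i v : ℕ) → I := fun i v => ⟨monomial (e3 i (stairY I i v) v) 1, (hY i _ v).mpr le_rfl⟩
  have hg : ∀ i v, (monomial (e3 0 0 1) 1 : MvPolynomial (Fin 3) k) • g i v =
      (monomial (e3 0 (stairY I i v - stairY I i (v + 1)) 0) 1 : MvPolynomial (Fin 3) k) • g i (v + 1) := by
    intro i v
    refine Subtype.ext ?_
    show monomial _ (1 : k) * monomial _ 1 = monomial _ (1 : k) * monomial _ 1
    rw [monomial_mul, monomial_mul]
    have hmn := hanti i v
    refine congrArg (fun e => monomial e (1 * 1 : k)) ?_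
    ext l
    fin_cases l <;> simp [e3_apply] <;> omega
  let val : Tgt I →ₗ[k] ((q : P) → (Fin (V + 1) → (MvPolynomial (Fin 2) k) ⧸ sliceX I q.1.2)) :=
    { toFun := fun φ q v => layQ hI q.1.2 (φ (g q.1.1 v.val))
      map_add' := fun φ ψ => by funext q v; simp
      map_smul' := fun c φ => by funext q v; simp }
  have hval : ∀ φ q, val φ q ∈ LinearMap.ker (psi (sliceX I q.1.2) V fun v => stairY I q.1.1 v) := by
    intro φ q
    rw [LinearMap.mem_ker]
    funext v
    rw [psi_apply, Pi.zero_apply, sub_eq_zero]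
    have h1 := congrArg (fun x => layQ hI q.1.2 (φ x)) (hg q.1.1 v.val)
    simp only [map_smul] at h1
    have ez : (monomial (e3 0 0 1) 1 : MvPolynomial (Fin 3) k) = rename Fin.succ (X 1) := by
      rw [rename_X, X]
      refine congrArg (fun e => monomial e (1 : k)) ?_
      ext l
      fin_cases l <;> simp [e3_apply]
    have ey : ∀ m : ℕ, (monomial (e3 0 m 0) 1 : MvPolynomial (Fin 3) k) = rename Fin.succ (X 0 ^ m) := fun m => by
      rw [map_pow, rename_X, X_pow_eq_monomial]
      refine congrArg (fun e => monomial e (1 : k)) ?_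
      ext l
      fin_cases l <;> simp [e3_apply]
    rw [ez, ey, layQ_smul, layQ_smul, map_pow] at h1
    exact h1
  have hinj : ∀ φ ∈ (⨆ α : {α : Fin 3 → ℤ // 0 ≤ α 0}, tPiece I α.1), val φ = 0 → φ = 0 := by
    intro φ hφS hφ
    refine tgt_ext hI fun β hβ δ hδ => ?_
    have hup := iSup_le_upSub hI hφS
    suffices hz : φ ⟨monomial β 1, hβ⟩ = 0 by simp [hz]
    refine eq_zero_of_layQ hI hp fun j hj => ?_
    by_cases hjb : j < β 0
    · exact hup β hβ j hjb
    · push Not at hjb
      set i := β 0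
      set v := min (β 2) V with hv
      have hle : e3 i (stairY I i v) v ≤ β := by
        rw [← e3_eta β]
        refine e3_le le_rfl ?_ (min_le_left _ _)
        rcases Nat.lt_or_ge (β 2) V with h | h
        · rw [hv, min_eq_left h.le, ← hY, e3_eta]; exact hβ
        · rw [hv, min_eq_right h, hV]; exact Nat.zero_le _
      obtain ⟨ε, hε⟩ : ∃ ε, β = ε + e3 i (stairY I i v) v := ⟨β - e3 i (stairY I i v) v, (tsub_add_cancel_of_le hle).symm⟩
      have e0 : ε 0 = 0 := by
        have := DFunLike.congr_fun hε 0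
        simp [e3_apply] at this
        omega
      have emul : (⟨monomial β 1, hβ⟩ : I) = (monomial ε 1 : MvPolynomial (Fin 3) k) • g i v := by
        refine Subtype.ext ?_
        show monomial β (1 : k) = monomial ε (1 : k) * monomial _ 1
        rw [monomial_mul, one_mul, ← hε]
      have eε : (monomial ε 1 : MvPolynomial (Fin 3) k) = rename Fin.succ (monomial ε.tail 1) := by
        rw [rename_monomial]
        refine congrArg (fun e => monomial e (1 : k)) ?_
        have := mapDomain_succ ε.tail 0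
        simp only [Finsupp.single_zero, add_zero, Finsupp.tail_apply] at this
        rw [this]
        conv_lhs => rw [← e3_eta ε, e0]
        rfl
      rw [emul, map_smul, eε, layQ_smul]
      have h1 := congrFun hφ ⟨(i, j), hP ▸ Finset.mem_filter.mpr
        ⟨Finset.mem_product.mpr ⟨Finset.mem_range.mpr (lt_of_le_of_lt hjb hj), Finset.mem_range.mpr hj⟩, hjb⟩⟩
      have h2 : layQ hI j (φ (g i v)) = 0 := congrFun h1 ⟨v, Nat.lt_succ_of_le (min_le_right _ _)⟩
      rw [h2, mul_zero]
  refine (finrank_le_sum (fun q : P => sliceX I q.1.2)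
    (fun q : P => LinearMap.ker (psi (sliceX I q.1.2) V fun v => stairY I q.1.1 v)) _ val hinj
    (fun φ q => hval φ q) (fun q : P => L q.1.2 + L q.1.1) fun q =>
    (finrank_ker_psi_le (sliceX I q.1.2) V (fun v => stairY I q.1.1 v) (fun v _ => hanti q.1.1 v) (hV q.1.1)).trans
      (Nat.add_le_add_left (hA q.1.1) (L q.1.2))).trans ?_
  rw [Finset.univ_eq_attach, Finset.sum_attach P (fun q => L q.2 + L q.1)]
  have hsum : ∀ n, ∑ q ∈ (Finset.range n ×ˢ Finset.range n).filter (fun q => q.1 ≤ q.2), (L q.2 + L q.1) =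
      (n + 1) * ∑ j ∈ Finset.range n, L j := by
    intro n
    induction n with
    | zero => simp
    | succ n ih =>
      have e : (Finset.range (n + 1) ×ˢ Finset.range (n + 1)).filter (fun q => q.1 ≤ q.2) =
          (Finset.range n ×ˢ Finset.range n).filter (fun q => q.1 ≤ q.2) ∪ (Finset.range (n + 1)).image (fun i => (i, n)) := by
        ext ⟨a, b⟩
        simp only [Finset.mem_filter, Finset.mem_product, Finset.mem_range, Finset.mem_union, Finset.mem_image, Prod.mk.injEq]
        constructor
        · intro h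
          rcases Nat.lt_or_ge b n with hb | hb
          · left; omega
          · right; exact ⟨a, by omega, rfl, by omega⟩
        · rintro (h | ⟨c, hc, rfl, rfl⟩) <;> omega
      rw [e, Finset.sum_union (by
        rw [Finset.disjoint_left]
        intro q hq hq'
        simp only [Finset.mem_filter, Finset.mem_product, Finset.mem_range, Finset.mem_image] at hq hq'
        obtain ⟨c, -, rfl⟩ := hq'
        omega), Finset.sum_image (fun a _ b _ e => (Prod.mk.inj e).1), ih, Finset.sum_add_distrib]
      simp only [Finset.sum_const, Finset.card_range, smul_eq_mul, Finset.sum_range_succ]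
      ring
  rw [hP, hsum p]
  refine Nat.mul_le_mul_left _ ?_
  have h2 := LinearMap.finrank_le_finrank_of_surjective (layQ_surjective hI p) (R := k)
  rw [Module.finrank_pi_fintype, Fin.sum_univ_eq_sum_range (fun j => L j)] at h2
  exact h2

theorem finrank_tgt_eq :
    Module.finrank k (Tgt I) + Module.finrank k (MvPolynomial (Fin 3) k ⧸ I) =
      2 * Module.finrank k ↥(⨆ α : {α : Fin 3 → ℤ // 0 ≤ α 0}, tPiece I α.1) := by
  classical
  obtain ⟨R, hR, -⟩ := exists_box hI
  have hX : Module.finrank k ↥(⨆ α : {α : Fin 3 → ℤ // 0 ≤ α 0}, tPiece I α.1) =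
      Module.finrank k ↥(sigPiece I ({1} : Set (Fin 3))) + Module.finrank k ↥(sigPiece I ({2} : Set (Fin 3))) +
        Module.finrank k ↥(sigPiece I ({0}ᶜ : Set (Fin 3))) := by
    have hfil : ∀ N : Set (Fin 3), Fintype.piFinset (fun j => half R (j ∈ N)) =
        (box R).filter fun α => ∀ j, α j < 0 ↔ j ∈ N := by
      intro N
      ext α
      simp only [Fintype.mem_piFinset, mem_half, box, Finset.mem_filter, Finset.mem_Ico, ← forall_and, and_assoc]
    rw [finrank_iSup hI _ (box R) fun α _ h => hR α h]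
    simp only [finrank_sig hI hR, hfil, Finset.sum_filter, ← Finset.sum_add_distrib]
    refine Finset.sum_congr rfl fun α _ => ?_
    by_cases hn : ∀ j, 0 ≤ α j
    · rw [piece_eq_bot_of_nonneg hI hn]; simp
    · simp only [Fin.forall_fin_succ, Fin.forall_fin_two, Set.mem_singleton_iff, Set.mem_compl_iff] at hn ⊢
      simp only [Fin.reduceEq, ← not_lt] at hn ⊢
      by_cases a : α 0 < 0 <;> by_cases b : α 1 < 0 <;> by_cases c : α 2 < 0 <;> simp_all <;> split_ifs <;> omega
  rw [hX, finrank_tgt_three hI, Fin.sum_univ_three]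
  have := sig_single hI 0
  have := sig_single hI 1
  have := sig_single hI 2
  omega

/-- The bound on the tangent space. -/
theorem finrank_tgt_le {p : ℕ} (hp : e3 p 0 0 ∈ exps I) :
    Module.finrank k (Tgt I) ≤ (2 * p + 1) * Module.finrank k (MvPolynomial (Fin 3) k ⧸ I) := by
  have h1 := finrank_tgt_eq hI
  have h2 := finrank_up_le hI hp
  nlinarith

end Groth.Agent.HilbPnLib.XPow
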